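import Mathlib

/-!
Automorphisms of cyclic and quaternion two-groups.
-/

set_option autoImplicit false
set_option linter.style.haveILetI false

namespace Cfsg.Agent.Perm.Fpf.QuatAut

universe u

open QuaternionGroup

theorem solvable_mulAut_cyclic (A : Type u) [Group A] [IsCyclic A] :
    Group.IsSolvable (MulAut A) := by
  refine Group.isSolvable_of_comm fun f g => MulEquiv.ext fun x => ?_
  obtain ⟨m, hm⟩ := f.toMonoidHom.map_cyclic
  obtain ⟨n, hn⟩ := g.toMonoidHom.map_cyclic
  show f.toMonoidHom (g.toMonoidHom x) = g.toMonoidHom (f.toMonoidHom x)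
  rw [hn, hm, hm, hn, ← zpow_mul, ← zpow_mul, mul_comm]

/-- An automorphism of odd order of a cyclic two-group is trivial. -/
theorem eq_one_of_odd_cyclic {A : Type u} [Group A] [Finite A] [IsCyclic A] (hA : IsPGroup 2 A)
    {f : MulAut A} {n : ℕ} (hn : Odd n) (hf : f ^ n = 1) : f = 1 := by
  haveI : Finite (MulAut A) := Finite.of_injective _ DFunLike.coe_injective
  obtain ⟨k, hk⟩ := IsPGroup.iff_card.1 hA
  have hd : orderOf f ∣ (2 ^ k).totient := by
    rw [← hk, ← IsCyclic.card_mulAut]; exact orderOf_dvd_natCard f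
  have hd' : orderOf f ∣ 2 ^ k := by
    rcases Nat.eq_zero_or_pos k with rfl | hk0
    · simpa using hd
    · rw [Nat.totient_prime_pow Nat.prime_two hk0, show 2 - 1 = 1 from rfl, mul_one] at hd
      exact hd.trans (pow_dvd_pow 2 (Nat.sub_le k 1))
  have hc : Nat.Coprime (2 ^ k) n :=
    Nat.Coprime.pow_left k ((Nat.prime_two.coprime_iff_not_dvd).2 (by
      rw [← even_iff_two_dvd]; exact Nat.not_even_iff_odd.2 hn))
  exact orderOf_eq_one_iff.1 (Nat.eq_one_of_dvd_coprimes hc hd' (orderOf_dvd_of_pow_eq_one hf))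

theorem a_pow {n : ℕ} (i : ZMod (2 * n)) [NeZero n] :
    (a i : QuaternionGroup n) = a 1 ^ i.val := by
  rw [a_one_pow, ZMod.natCast_zmod_val]

theorem gen_ext {n : ℕ} [NeZero n] {H : Type u} [Group H] {f g : QuaternionGroup n →* H}
    (h1 : f (a 1) = g (a 1)) (h2 : f (xa 0) = g (xa 0)) : f = g := by
  refine MonoidHom.ext fun x => ?_
  cases x with
  | a i => rw [a_pow i, map_pow, map_pow, h1]
  | xa i =>
    rw [show (xa i : QuaternionGroup n) = xa 0 * a i by rw [xa_mul_a, zero_add], map_mul, map_mul,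
      h2, a_pow i, map_pow, map_pow, h1]

section Big

variable {n : ℕ} [NeZero n]

/-- In the larger quaternion groups the cyclic maximal subgroup is invariant. -/
theorem image_a (hn : 3 ≤ n) (f : MulAut (QuaternionGroup n)) (i : ZMod (2 * n)) :
    ∃ j, f (a i) = a j := by
  have h1 : ∃ j, f (a 1) = a j := by
    cases e : f (a 1) with
    | a j => exact ⟨j, rfl⟩
    | xa j =>
      have : orderOf (f (a 1)) = 2 * n := by rw [MulEquiv.orderOf_eq, orderOf_a_one]
      rw [e, orderOf_xa] at this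
      omega
  obtain ⟨j, hj⟩ := h1
  refine ⟨i.val • j, ?_⟩
  rw [a_pow i, map_pow, hj]
  induction i.val with
  | zero => rw [pow_zero, zero_smul, ← one_def]
  | succ m ih => rw [pow_succ, ih, a_mul_a, succ_nsmul]

theorem image_xa (hn : 3 ≤ n) (f : MulAut (QuaternionGroup n)) (i : ZMod (2 * n)) :
    ∃ j, f (xa i) = xa j := by
  cases e : f (xa i) with
  | xa j => exact ⟨j, rfl⟩
  | a j =>
    obtain ⟨k, hk⟩ := image_a hn f⁻¹ j
    rw [← e, MulAut.inv_def, MulEquiv.symm_apply_apply] at hk
    simp at hk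

theorem fix_form (hn : 3 ≤ n) {f : MulAut (QuaternionGroup n)} (hf : f (a 1) = a 1) :
    ∃ k, f (xa 0) = xa 0 * a k ∧ ∀ i, f (a i) = a i := by
  obtain ⟨j, hj⟩ := image_xa hn f 0
  exact ⟨j, by rw [hj, xa_mul_a, zero_add], fun i => by rw [a_pow i, map_pow, hf]⟩

theorem eq_one_of_odd_big (hn : 3 ≤ n) (h2 : IsPGroup 2 (QuaternionGroup n))
    {f : MulAut (QuaternionGroup n)} {m : ℕ} (hm : Odd m) (hf : f ^ m = 1) : f = 1 := by
  let A : Subgroup (QuaternionGroup n) := Subgroup.zpowers (a 1)
  have hA : ∀ g : MulAut (QuaternionGroup n), ∀ x ∈ A, g x ∈ A := by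
    intro g x hx
    obtain ⟨k, rfl⟩ := hx
    obtain ⟨j, hj⟩ := image_a hn g 1
    show g (a 1 ^ k) ∈ A
    rw [map_zpow, hj, a_pow j]
    exact zpow_mem (pow_mem (Subgroup.mem_zpowers _) _) k
  let r : MulAut (QuaternionGroup n) →* MulAut A :=
    { toFun := fun g =>
        { toFun := fun x => ⟨g x, hA g x x.2⟩
          invFun := fun x => ⟨g⁻¹ x, hA g⁻¹ x x.2⟩
          left_inv := fun x => Subtype.ext (g.symm_apply_apply x)
          right_inv := fun x => Subtype.ext (g.apply_symm_apply x)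
          map_mul' := fun x y => Subtype.ext (map_mul g (x : QuaternionGroup n) y) }
      map_one' := MulEquiv.ext fun x => Subtype.ext rfl
      map_mul' := fun g k => MulEquiv.ext fun x => Subtype.ext rfl }
  have hr : r f = 1 := eq_one_of_odd_cyclic (h2.to_subgroup A) hm (by rw [← map_pow, hf, map_one])
  have hfa : f (a 1) = a 1 := by
    have := congrArg (fun g : MulAut A => ((g ⟨a 1, Subgroup.mem_zpowers _⟩ : A) : QuaternionGroup n)) hr
    exact this
  obtain ⟨k, hk, hfix⟩ := fix_form hn hfa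
  have hiter : ∀ t : ℕ, (f ^ t) (xa 0) = xa 0 * a k ^ t := by
    intro t
    induction t with
    | zero => simp
    | succ t ih =>
      rw [pow_succ', MulAut.mul_apply, ih, map_mul, map_pow, hk, hfix, pow_succ', mul_assoc]
  have hak : a k ^ m = 1 := by
    have := hiter m
    rw [hf, MulAut.one_apply] at this
    exact (mul_eq_left.1 this.symm)
  have hk1 : a k = (1 : QuaternionGroup n) := by
    obtain ⟨t, ht⟩ := h2 (a k)
    have hc : Nat.Coprime (2 ^ t) m :=
      Nat.Coprime.pow_left t ((Nat.prime_two.coprime_iff_not_dvd).2 (by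
        rw [← even_iff_two_dvd]; exact Nat.not_even_iff_odd.2 hm))
    exact orderOf_eq_one_iff.1 (Nat.eq_one_of_dvd_coprimes hc (orderOf_dvd_of_pow_eq_one ht)
      (orderOf_dvd_of_pow_eq_one hak))
  have : f.toMonoidHom = MonoidHom.id _ := gen_ext hfa (by
    show f (xa 0) = xa 0
    rw [hk, hk1, mul_one])
  exact MulEquiv.ext fun x => DFunLike.congr_fun this x

theorem solvable_big (hn : 3 ≤ n) : Group.IsSolvable (MulAut (QuaternionGroup n)) := by
  let A : Subgroup (QuaternionGroup n) := Subgroup.zpowers (a 1)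
  have hA : ∀ g : MulAut (QuaternionGroup n), ∀ x ∈ A, g x ∈ A := by
    intro g x hx
    obtain ⟨k, rfl⟩ := hx
    obtain ⟨j, hj⟩ := image_a hn g 1
    show g (a 1 ^ k) ∈ A
    rw [map_zpow, hj, a_pow j]
    exact zpow_mem (pow_mem (Subgroup.mem_zpowers _) _) k
  let r : MulAut (QuaternionGroup n) →* MulAut A :=
    { toFun := fun g =>
        { toFun := fun x => ⟨g x, hA g x x.2⟩
          invFun := fun x => ⟨g⁻¹ x, hA g⁻¹ x x.2⟩
          left_inv := fun x => Subtype.ext (g.symm_apply_apply x)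
          right_inv := fun x => Subtype.ext (g.apply_symm_apply x)
          map_mul' := fun x y => Subtype.ext (map_mul g (x : QuaternionGroup n) y) }
      map_one' := MulEquiv.ext fun x => Subtype.ext rfl
      map_mul' := fun g k => MulEquiv.ext fun x => Subtype.ext rfl }
  haveI := solvable_mulAut_cyclic A
  haveI : Group.IsSolvable r.ker := by
    refine Group.isSolvable_of_comm fun f g => Subtype.ext ?_
    have hfix : ∀ h : r.ker, h.1 (a 1) = a 1 := fun h =>
      congrArg (fun g : MulAut A => ((g ⟨a 1, Subgroup.mem_zpowers _⟩ : A) : QuaternionGroup n))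
        (MonoidHom.mem_ker.1 h.2)
    obtain ⟨k, hk, hf⟩ := fix_form hn (hfix f)
    obtain ⟨l, hl, hg⟩ := fix_form hn (hfix g)
    refine MulEquiv.ext fun x => DFunLike.congr_fun
      (gen_ext (f := (f.1 * g.1).toMonoidHom) (g := (g.1 * f.1).toMonoidHom) ?_ ?_) x
    · show f.1 (g.1 (a 1)) = g.1 (f.1 (a 1))
      rw [hfix, hfix, hfix]
    · show f.1 (g.1 (xa 0)) = g.1 (f.1 (xa 0))
      rw [hk, hl, map_mul, map_mul, hk, hl, hf, hg, mul_assoc, mul_assoc, a_mul_a, a_mul_a,
        add_comm]
  exact solvable_of_ker_le_range r.ker.subtype r (by rw [Subgroup.range_subtype])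

end Big

section Eight

/-- The automorphism candidate with given images of the generators. -/
def img (u v : QuaternionGroup 2) : QuaternionGroup 2 → QuaternionGroup 2
  | .a i => u ^ i.val
  | .xa i => v * u ^ i.val

/-- The four diagonals. -/
def diag : Fin 4 → Finset (Finset (QuaternionGroup 2)) :=
  ![{{a 1, xa 0, xa 3}, {a 3, xa 2, xa 1}}, {{a 3, xa 2, xa 3}, {a 1, xa 0, xa 1}},
    {{a 3, xa 0, xa 1}, {a 1, xa 2, xa 3}}, {{a 1, xa 2, xa 1}, {a 3, xa 0, xa 3}}]

theorem diag_facts : ∀ u v : QuaternionGroup 2, u * u = a 2 → v * v = a 2 → u * v * u = v →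
    (∀ i, ∃ j, (diag i).image (fun s => s.image (img u v)) = diag j) ∧
    ((∀ i, (diag i).image (fun s => s.image (img u v)) = diag i) → u = a 1 ∧ v = xa 0) := by
  decide +kernel

theorem diag_injective : Function.Injective diag := by decide +kernel

theorem gen_facts : (a 1 : QuaternionGroup 2) * a 1 = a 2 ∧ (xa 0 : QuaternionGroup 2) * xa 0 = a 2 ∧
    (a 1 : QuaternionGroup 2) * xa 0 * a 1 = xa 0 ∧
    ∀ u : QuaternionGroup 2, u ≠ 1 → u * u = 1 → u = a 2 := by decide +kernel

theorem aut_img (f : MulAut (QuaternionGroup 2)) :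
    f (a 1) * f (a 1) = a 2 ∧ f (xa 0) * f (xa 0) = a 2 ∧
      f (a 1) * f (xa 0) * f (a 1) = f (xa 0) ∧ ⇑f = img (f (a 1)) (f (xa 0)) := by
  obtain ⟨h1, h2, h3, h4⟩ := gen_facts
  have hz : f (a 2) = a 2 := h4 _ (fun e => by
      have := f.injective (e.trans (map_one f).symm)
      exact absurd this (by decide +kernel))
    (by rw [← map_mul, show (a 2 : QuaternionGroup 2) * a 2 = 1 by decide +kernel, map_one])
  refine ⟨by rw [← map_mul, h1, hz], by rw [← map_mul, h2, hz], by
    rw [← map_mul, ← map_mul, h3], funext fun x => ?_⟩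
  cases x with
  | a i =>
    show f (a i) = f (a 1) ^ i.val
    rw [← map_pow, ← a_pow i]
  | xa i =>
    show f (xa i) = f (xa 0) * f (a 1) ^ i.val
    rw [← map_pow, ← a_pow i, ← map_mul, xa_mul_a, zero_add]

/-- The permutation of the diagonals induced by an automorphism. -/
theorem aut_perm : ∃ φ : MulAut (QuaternionGroup 2) →* Equiv.Perm (Fin 4), Function.Injective φ := by
  have hex : ∀ f : MulAut (QuaternionGroup 2), ∀ i, ∃ j,
      (diag i).image (fun s => s.image f) = diag j := fun f i => by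
    obtain ⟨h1, h2, h3, h4⟩ := aut_img f
    rw [h4]
    exact (diag_facts _ _ h1 h2 h3).1 i
  choose π hπ using hex
  have hmul : ∀ f g i, π (f * g) i = π f (π g i) := fun f g i => diag_injective (by
    rw [← hπ, ← hπ, ← hπ, Finset.image_image]
    congr 1
    funext s
    rw [Function.comp_apply, Finset.image_image]
    rfl)
  have hone : ∀ i, π 1 i = i := fun i => diag_injective (by
    rw [← hπ]; simp)
  let φ : MulAut (QuaternionGroup 2) →* Equiv.Perm (Fin 4) :=
    { toFun := fun f => ⟨π f, π f⁻¹,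
        fun i => by rw [← hmul, inv_mul_cancel, hone],
        fun i => by rw [← hmul, mul_inv_cancel, hone]⟩
      map_one' := Equiv.ext hone
      map_mul' := fun f g => Equiv.ext (hmul f g) }
  refine ⟨φ, (injective_iff_map_eq_one φ).2 fun f hf => ?_⟩
  obtain ⟨h1, h2, h3, h4⟩ := aut_img f
  obtain ⟨hu, hv⟩ := (diag_facts _ _ h1 h2 h3).2 fun i => by
    rw [← h4, hπ]; exact congrArg diag (Equiv.congr_fun hf i)
  have : f.toMonoidHom = MonoidHom.id _ := gen_ext hu hv
  exact MulEquiv.ext fun x => DFunLike.congr_fun this x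

end Eight

end Cfsg.Agent.Perm.Fpf.QuatAut
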