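import Cfsg.Agent.Lib.Perm.Fpf.SL25Facts

/-!
The five classes of elements of order four of `SL(2,5)`.
-/

set_option autoImplicit false
set_option linter.style.haveILetI false

namespace Cfsg.Agent.Perm.Fpf

universe u

/-- An element of order four. -/
def Four {α : Type u} [Monoid α] (x : α) : Prop := x ^ 4 = 1 ∧ x ^ 2 ≠ 1

/-- Two elements of order four lie in a common quaternion group. -/
def Rel {α : Type u} [Mul α] (i j : α) : Prop := i * j = j * i ∨ i * j * i = j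

namespace SL25

instance (a b : T) : Decidable (Rel a b) := inferInstanceAs (Decidable (_ ∨ _))

/-- The elements of order four. -/
def four : List T := [
  ⟨0, 1, 4, 0⟩, ⟨0, 2, 2, 0⟩, ⟨0, 3, 3, 0⟩, ⟨0, 4, 1, 0⟩, ⟨1, 1, 3, 4⟩, ⟨1, 2, 4, 4⟩, ⟨1, 3, 1, 4⟩, ⟨1, 4, 2, 4⟩, ⟨2, 0, 0, 3⟩, ⟨2, 0, 1, 3⟩, ⟨2, 0, 2, 3⟩, ⟨2, 0, 3, 3⟩, ⟨2, 0, 4, 3⟩, ⟨2, 1, 0, 3⟩, ⟨2, 2, 0, 3⟩, ⟨2, 3, 0, 3⟩, ⟨2, 4, 0, 3⟩, ⟨3, 0, 0, 2⟩, ⟨3, 0, 1, 2⟩, ⟨3, 0, 2, 2⟩, ⟨3, 0, 3, 2⟩, ⟨3, 0, 4, 2⟩, ⟨3, 1, 0, 2⟩, ⟨3, 2, 0, 2⟩, ⟨3, 3, 0, 2⟩, ⟨3, 4, 0, 2⟩, ⟨4, 1, 3, 1⟩, ⟨4, 2, 4, 1⟩, ⟨4, 3, 1, 1⟩, ⟨4, 4, 2, 1⟩]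

/-- Representatives of the five classes. -/
def rep : Fin 5 → T := ![⟨0, 1, 4, 0⟩, ⟨1, 1, 3, 4⟩, ⟨1, 2, 4, 4⟩, ⟨1, 3, 1, 4⟩, ⟨1, 4, 2, 4⟩]

theorem rep_mem : ∀ k, rep k ∈ four := by decide +kernel

theorem four_spec : ∀ x ∈ four, x.p * x.s - x.q * x.r = 1 ∧ x * x = ⟨4, 0, 0, 4⟩ := by
  decide +kernel

theorem four_complete : ∀ p q r s : ZMod 5, p * s - q * r = 1 →
    (⟨p, q, r, s⟩ : T) * ⟨p, q, r, s⟩ * (⟨p, q, r, s⟩ * ⟨p, q, r, s⟩) = ⟨1, 0, 0, 1⟩ →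
    (⟨p, q, r, s⟩ : T) * ⟨p, q, r, s⟩ ≠ ⟨1, 0, 0, 1⟩ → (⟨p, q, r, s⟩ : T) ∈ four := by
  decide +kernel

theorem four_class : ∀ f ∈ four, ∃ k, Rel f (rep k) ∧ ∀ l, Rel f (rep l) → l = k := by
  decide +kernel

theorem four_rel : ∀ f ∈ four, ∀ g ∈ four,
    (Rel f g ↔ ∃ k, Rel f (rep k) ∧ Rel g (rep k)) := by
  decide +kernel

theorem four_kernel : ∀ p q r s : ZMod 5, p * s - q * r = 1 →
    (∀ k, Rel ((⟨p, q, r, s⟩ : T) * rep k * ⟨s, -q, -r, p⟩) (rep k)) →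
    (⟨p, q, r, s⟩ : T) * ⟨p, q, r, s⟩ = ⟨1, 0, 0, 1⟩ := by decide +kernel

theorem toT_mem_four {g : SL} : toT g ∈ four ↔ Four g := by
  constructor
  · intro hg
    obtain ⟨-, h2⟩ := four_spec _ hg
    constructor
    · refine toT_injective ?_
      rw [show g ^ 4 = g * g * (g * g) by simp [pow_succ, mul_assoc], toT_mul, toT_mul, h2, toT_one]
      decide +kernel
    · intro e
      rw [sq] at e
      rw [← toT_mul, e, toT_one] at h2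
      revert h2; decide +kernel
  · rintro ⟨h4, h2⟩
    refine four_complete _ _ _ _ ?_ ?_ ?_
    · rw [← Matrix.det_fin_two]; exact g.2
    · show toT g * toT g * (toT g * toT g) = _
      rw [← toT_mul, ← toT_mul, show g * g * (g * g) = g ^ 4 by simp [pow_succ, mul_assoc], h4, toT_one]
    · show toT g * toT g ≠ _
      rw [← toT_mul, ← sq, ← toT_one]
      exact fun e => h2 (toT_injective e)

theorem toT_inv (g : SL) : toT g⁻¹ = ⟨g.1 1 1, -g.1 0 1, -g.1 1 0, g.1 0 0⟩ := by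
  simp [toT, Matrix.SpecialLinearGroup.coe_inv, Matrix.adjugate_fin_two]

/-- The five classes in a copy of `SL(2,5)`. -/
theorem exists_classes {H : Type u} [Group H] (e : H ≃* SL) :
    ∃ r : Fin 5 → H, (∀ k, Four (r k)) ∧
      (∀ f, Four f → ∃ k, Rel f (r k) ∧ ∀ l, Rel f (r l) → l = k) ∧
      (∀ f g, Four f → Four g → (Rel f g ↔ ∃ k, Rel f (r k) ∧ Rel g (r k))) ∧
      ∀ g, (∀ k, Rel (g * r k * g⁻¹) (r k)) → g ^ 2 = 1 := by
  have hmem : ∀ x : H, toT (e x) ∈ four ↔ Four x := fun x => by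
    rw [toT_mem_four]
    simp only [Four, ← map_pow, MulEquiv.map_eq_one_iff, Ne]
  have hrel : ∀ x y : H, Rel (toT (e x)) (toT (e y)) ↔ Rel x y := fun x y => by
    simp only [Rel, ← to_mul, to_eq]
  have hex : ∀ k, ∃ g : SL, toT g = rep k := fun k => by
    obtain ⟨hd, -⟩ := four_spec _ (rep_mem k)
    exact ⟨⟨!![(rep k).p, (rep k).q; (rep k).r, (rep k).s],
      by rw [Matrix.det_fin_two_of]; exact hd⟩, by simp [toT]⟩
  choose g hg using hex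
  refine ⟨fun k => e.symm (g k), ?_, ?_, ?_, ?_⟩
  all_goals
    have hr : ∀ k, toT (e (e.symm (g k))) = rep k := fun k => by rw [e.apply_symm_apply, hg]
  · intro k
    rw [← hmem, hr]; exact rep_mem k
  · intro f hf
    obtain ⟨k, hk, hu⟩ := four_class _ ((hmem f).2 hf)
    refine ⟨k, (hrel _ _).1 (by rwa [hr]), fun l hl => hu l ?_⟩
    rw [← hr]; exact (hrel _ _).2 hl
  · intro f f' hf hf'
    rw [← hrel, four_rel _ ((hmem f).2 hf) _ ((hmem f').2 hf')]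
    exact exists_congr fun k => by rw [← hr, hrel, hrel]
  · intro x hx
    have hx' : ∀ k, Rel (toT (e x) * rep k * toT (e x)⁻¹) (rep k) := fun k => by
      rw [← hr k, ← toT_mul, ← toT_mul, ← map_inv, ← map_mul, ← map_mul]
      exact (hrel _ _).2 (hx k)
    rw [toT_inv] at hx'
    have := four_kernel _ _ _ _ (by rw [← Matrix.det_fin_two]; exact (e x).2) hx'
    refine e.injective ?_
    rw [map_pow, map_one, sq]
    refine toT_injective ?_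
    rw [toT_mul, toT_one]
    exact this

end SL25

end Cfsg.Agent.Perm.Fpf
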