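import Cfsg.Agent.Lib.Perm.Fpf.LinesMain
import Cfsg.Agent.Lib.Perm.Fpf.QuatAut
import Cfsg.Agent.Lib.Perm.Fpf.SL25Classes
import Cfsg.Agent.Lib.Fusion.TransferSplit
import Cfsg.Agent.Lib.Fusion.NPC

/-!
Nonsolvable groups with a fixed-point-free representation (Zassenhaus).
-/

set_option autoImplicit false
set_option linter.style.haveILetI false

namespace Cfsg.Agent.Perm.Fpf

universe u v w

theorem two_facts : (2 : ZMod 5) ≠ 0 ∧ (2 : ZMod 5) ^ 2 ≠ 1 := by decide

/-- `SL(2,5)` is perfect. -/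
instance SL25.isPerfect : Group.IsPerfect SL25.SL := by
  haveI : Fact (Nat.Prime 5) := ⟨by norm_num⟩
  exact ⟨Matrix.SL2.commutator_eq_top (a := (2 : ZMod 5)) two_facts.1 two_facts.2⟩

theorem not_solvable_of_iso {H : Type w} [Group H] (hiso : Nonempty (H ≃* SL25.SL)) :
    ¬ Group.IsSolvable H := by
  obtain ⟨e⟩ := hiso
  intro hs
  haveI hsol : Group.IsSolvable SL25.SL :=
    solvable_of_surjective (f := e.toMonoidHom) e.surjective
  haveI : Nontrivial SL25.SL := by
    rw [← Finite.one_lt_card_iff_nontrivial, SL25.card_SL]; norm_num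
  exact Group.IsPerfect.not_isSolvable SL25.SL hsol

theorem isPerfect_of_iso {H : Type w} [Group H] (hiso : Nonempty (H ≃* SL25.SL)) :
    Group.IsPerfect H := by
  obtain ⟨e⟩ := hiso
  exact Group.IsPerfect.ofSurjective (f := e.symm.toMonoidHom) e.symm.surjective

variable {G : Type w} [Group G]

theorem finite_derived_stable [Finite G] :
    ∃ n, derivedSeries G (n + 1) = derivedSeries G n := by
  by_contra hno
  push Not at hno
  have key : ∀ n, Nat.card (derivedSeries G n) + n ≤ Nat.card G := by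
    intro n
    induction n with
    | zero => simp
    | succ n ih =>
      have hle : derivedSeries G (n + 1) ≤ derivedSeries G n :=
        derivedSeries_antitone G (Nat.le_succ n)
      have hlt : Nat.card (derivedSeries G (n + 1)) < Nat.card (derivedSeries G n) :=
        lt_of_not_ge fun hge => hno n (Subgroup.eq_of_le_of_card_ge hle hge)
      omega
  have := key (Nat.card G)
  have : 0 < Nat.card (derivedSeries G (Nat.card G)) := Nat.card_pos
  omega

/-- The perfect residual. -/
theorem exists_perfect_residual [Finite G] :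
    ∃ R : Subgroup G, R.Normal ∧ Group.IsPerfect R ∧
      (¬ Group.IsSolvable G → R ≠ ⊥) ∧
      ∀ {Q : Type w} [Group Q] (f : G →* Q), Function.Surjective f → Group.IsPerfect Q →
        R.map f = ⊤ := by
  obtain ⟨n, hn⟩ := finite_derived_stable (G := G)
  refine ⟨derivedSeries G n, derivedSeries_normal G n, ?_, fun hs e => hs ⟨n, e⟩,
    fun f hf hQ => by rw [map_derivedSeries_eq hf, hQ.derivedSeries_eq_top]⟩
  rw [Subgroup.isPerfect_iff, ← derivedSeries_succ, hn]

/-- The subgroup generated by the elements of order three. -/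
def triSub (G : Type w) [Group G] : Subgroup G := Subgroup.closure {g | Tri g}

instance triSub_normal : (triSub G).Normal := by
  constructor
  intro n hn g
  induction hn using Subgroup.closure_induction with
  | mem x hx => exact Subgroup.subset_closure (hx.conj g)
  | one => simp
  | mul x y _ _ hx hy =>
    rw [show g * (x * y) * g⁻¹ = g * x * g⁻¹ * (g * y * g⁻¹) by group]
    exact mul_mem hx hy
  | inv x _ hx =>
    rw [show g * x⁻¹ * g⁻¹ = (g * x * g⁻¹)⁻¹ by group]
    exact inv_mem hx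

theorem tri_coe {H : Subgroup G} {x : H} : Tri (x : G) ↔ Tri x :=
  ⟨fun h => ⟨Subtype.ext h.1, fun e => h.2 (congrArg Subtype.val e)⟩,
    fun h => ⟨congrArg Subtype.val h.1, fun e => h.2 (Subtype.ext e)⟩⟩

theorem tri_of_orderOf {x : G} (hx : orderOf x = 3) : Tri x :=
  ⟨by rw [← hx, pow_orderOf_eq_one], fun e => by rw [e, orderOf_one] at hx; omega⟩

theorem map_triSub_le (H : Subgroup G) : (triSub H).map H.subtype ≤ triSub G := by
  rw [triSub, MonoidHom.map_closure, triSub]
  refine Subgroup.closure_mono ?_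
  rintro _ ⟨x, hx, rfl⟩
  exact tri_coe.2 hx

theorem isSolvable_of_le {H L : Subgroup G} (hle : H ≤ L) (hL : Group.IsSolvable L) :
    Group.IsSolvable H :=
  solvable_of_solvable_injective (Subgroup.inclusion_injective hle)

variable {K : Type u} [Field K] {V : Type v} [AddCommGroup V] [Module K V]
  {ρ : G →* Module.End K V} [Nontrivial V] [Finite G]

/-- An element of odd order normalising a two-subgroup centralises it, away from the quaternion
group of order eight. -/
theorem IsFpf.odd_centralizes (h : IsFpf ρ) {Q : Subgroup G} (hQ : IsPGroup 2 Q) {g : G}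
    (hg : g ∈ Subgroup.normalizer (Q : Set G)) {n : ℕ} (hn : Odd n) (hgn : g ^ n = 1)
    (hcase : ¬ 3 ∣ n ∨ ¬ Nonempty (Q ≃* QuaternionGroup 2)) :
    g ∈ Subgroup.centralizer (Q : Set G) := by
  haveI := Fact.mk Nat.prime_two
  set θ := Q.normalizerMonoidHom ⟨g, hg⟩ with hθ
  have hθn : θ ^ n = 1 := by
    rw [hθ, ← map_pow, show (⟨g, hg⟩ : Subgroup.normalizer (Q : Set G)) ^ n = 1 from
      Subtype.ext hgn, map_one]
  suffices hθ1 : θ = 1 by
    have : (⟨g, hg⟩ : Subgroup.normalizer (Q : Set G)) ∈ Q.normalizerMonoidHom.ker :=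
      MonoidHom.mem_ker.2 hθ1
    rw [Subgroup.normalizerMonoidHom_ker] at this
    exact this
  rcases h.isCyclic_or_quaternion Q hQ with hc | ⟨-, k, ⟨e⟩⟩
  · exact QuatAut.eq_one_of_odd_cyclic hQ hn hθn
  haveI : NeZero (2 ^ k) := ⟨pow_ne_zero k two_ne_zero⟩
  have hT : MulAut.congr e θ ^ n = 1 := by rw [← map_pow, hθn, map_one]
  refine (MulAut.congr e).injective ?_
  rw [map_one]
  rcases k with _ | _ | k
  · haveI : IsCyclic (QuaternionGroup (2 ^ 0)) := QuaternionGroup.quaternionGroup_one_isCyclic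
    exact QuatAut.eq_one_of_odd_cyclic (hQ.of_equiv e) hn hT
  · have hns : ¬ 3 ∣ n := hcase.resolve_right fun hne => hne ⟨e⟩
    have hcop : Nat.Coprime 24 n := by
      rw [show (24 : ℕ) = 2 ^ 3 * 3 by norm_num]
      refine Nat.Coprime.mul_left (Nat.Coprime.pow_left 3 ?_)
        ((Nat.prime_three.coprime_iff_not_dvd).2 hns)
      exact (Nat.prime_two.coprime_iff_not_dvd).2
        (by rw [← even_iff_two_dvd]; exact Nat.not_even_iff_odd.2 hn)
    obtain ⟨φ, hφ⟩ := QuatAut.aut_perm
    have h1 : orderOf (φ (MulAut.congr e θ)) ∣ 24 := by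
      have := orderOf_dvd_natCard (φ (MulAut.congr e θ))
      rwa [Nat.card_perm, Nat.card_eq_fintype_card, Fintype.card_fin] at this
    have h2 : orderOf (φ (MulAut.congr e θ)) ∣ n :=
      orderOf_dvd_of_pow_eq_one
        ((map_pow φ _ n).symm.trans ((congrArg φ hT).trans (map_one φ)))
    exact hφ (((orderOf_eq_one_iff.1 (Nat.eq_one_of_dvd_coprimes hcop h1 h2))).trans
      (map_one φ).symm)
  · exact QuatAut.eq_one_of_odd_big
      (le_trans (by norm_num : 3 ≤ 2 ^ 2) (Nat.pow_le_pow_right (by norm_num) (by omega)))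
      (hQ.of_equiv e) hn hT

theorem IsFpf.isZGroup_of_odd (h : IsFpf ρ) {H : Subgroup G} (hH : ¬ 2 ∣ Nat.card H) :
    IsZGroup H := by
  rw [isZGroup_iff]
  intro p hp P
  haveI := Fact.mk hp
  by_cases h2 : p = 2
  · subst h2
    have : Nat.card P = 1 := by
      obtain ⟨k, hk⟩ := IsPGroup.iff_card.1 P.isPGroup'
      rcases k with _ | k
      · simpa using hk
      · exact absurd ((dvd_pow_self 2 (Nat.succ_ne_zero k)).trans
          (hk ▸ Subgroup.card_subgroup_dvd_card (P : Subgroup H))) hH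
    haveI := (Nat.card_eq_one_iff_unique.1 this).1
    exact isCyclic_of_subsingleton
  · exact (h.comp H.subtype H.subtype_injective).isCyclic_of_odd h2 (P : Subgroup H) P.isPGroup'

/-- Without elements of order three, the group is solvable. -/
theorem IsFpf.solvable_of_no_tri (h : IsFpf ρ) (hno : ∀ g : G, ¬ Tri g) :
    Group.IsSolvable G := by
  haveI := Fact.mk Nat.prime_two
  have h3 : ¬ 3 ∣ Nat.card G := fun hd => by
    haveI := Fact.mk Nat.prime_three
    obtain ⟨x, hx⟩ := exists_prime_orderOf_dvd_card' (G := G) 3 hd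
    exact hno x (tri_of_orderOf hx)
  obtain ⟨P⟩ : Nonempty (Sylow 2 G) := inferInstance
  have hnpc : Cfsg.HasNormalPComplement 2 G :=
    Cfsg.Agent.Fusion.hnpc_of_centralize (Cfsg.Agent.Fusion.sylIn_top P) fun Q hQ g hg hcop =>
      h.odd_centralizes (P.isPGroup'.to_le hQ) hg (Nat.odd_iff.2 (by
          have := (Nat.prime_two.coprime_iff_not_dvd).1 hcop.symm; omega))
        (pow_orderOf_eq_one g)
        (Or.inl fun hd => h3 (hd.trans (orderOf_dvd_natCard g)))
  set R := Cfsg.pResidual 2 G with hR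
  have hc := Cfsg.Agent.Fusion.hnpc_iff.1 hnpc
  haveI := h.isZGroup_of_odd (H := R) (Cfsg.Agent.Fusion.coprime_card_iff_not_dvd.1 hc)
  have hq : IsPGroup 2 (G ⧸ R) := by
    obtain ⟨k, hk⟩ := IsPGroup.iff_card.1 P.isPGroup'
    exact IsPGroup.of_card (n := k) (by
      rw [← Subgroup.index_eq_card,
        (Cfsg.Agent.Fusion.isComplement'_of_coprime_card P hc).symm.index_eq_card, hk])
  haveI : Group.IsNilpotent (G ⧸ R) := hq.isNilpotent
  exact (Group.isSolvable_iff_subgroup_quotient R).2 ⟨inferInstance, inferInstance⟩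

theorem IsFpf.exists_tri (h : IsFpf ρ) (hns : ¬ Group.IsSolvable G) : ∃ g : G, Tri g := by
  by_contra hno
  push Not at hno
  exact hns (h.solvable_of_no_tri hno)

/-- A perfect group has no central element of odd prime order. -/
theorem IsFpf.perfect_no_central (h : IsFpf ρ) [Group.IsPerfect G] {x : G} {q : ℕ}
    [Fact q.Prime] (hq : q ≠ 2) (hx : orderOf x = q) (hc : x ∈ Subgroup.center G) : False := by
  have hxp : IsPGroup q (Subgroup.zpowers x) := by
    refine IsPGroup.of_card (n := 1) ?_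
    rw [Nat.card_zpowers, hx, pow_one]
  obtain ⟨P, hP⟩ := hxp.exists_le_sylow
  haveI : IsCyclic (P : Subgroup G) := h.isCyclic_of_odd hq P P.isPGroup'
  letI : CommGroup (P : Subgroup G) := IsCyclic.commGroup
  let θ : (P : Subgroup G) →* (P : Subgroup G) := MonoidHom.id _
  have hxP : x ∈ (P : Subgroup G) := hP (Subgroup.mem_zpowers x)
  have e := Cfsg.Agent.Fusion.transfer_central θ hxP hc
  have hker : MonoidHom.transfer θ x = 1 := by
    have : commutator G ≤ (MonoidHom.transfer θ).ker :=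
      Abelianization.commutator_subset_ker _
    exact this (Group.IsPerfect.mem_commutator (g := x))
  rw [hker] at e
  have e' : x ^ (P : Subgroup G).index = 1 := (congrArg Subtype.val e).symm
  have := orderOf_dvd_of_pow_eq_one e'
  rw [hx] at this
  exact P.not_dvd_index this

theorem isMulCommutative_mulAut_of_cyclic {A : Type w} [Group A] [IsCyclic A] :
    ∀ f g : MulAut A, f * g = g * f := by
  intro f g
  refine MulEquiv.ext fun x => ?_
  obtain ⟨m, hm⟩ := f.toMonoidHom.map_cyclic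
  obtain ⟨n, hn⟩ := g.toMonoidHom.map_cyclic
  show f.toMonoidHom (g.toMonoidHom x) = g.toMonoidHom (f.toMonoidHom x)
  rw [hn, hm, hm, hn, ← zpow_mul, ← zpow_mul, mul_comm]

/-- A perfect subgroup centralising a Sylow subgroup of a normal subgroup. -/
theorem IsFpf.frattini_perfect (h : IsFpf ρ) [Group.IsPerfect G] (T : Subgroup G) [T.Normal]
    (hT : T ≠ ⊤) {q : ℕ} [Fact q.Prime] (hq : q ≠ 2) (hqT : q ∣ Nat.card T) :
    ∃ (D : Subgroup G) (x : G), Group.IsPerfect D ∧ D ≠ ⊥ ∧ x ∈ T ∧ orderOf x = q ∧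
      ∀ d ∈ D, d * x = x * d := by
  obtain ⟨P⟩ : Nonempty (Sylow q T) := inferInstance
  set P' := (P : Subgroup T).map T.subtype with hP'
  obtain ⟨x₀, hx₀⟩ := exists_prime_orderOf_dvd_card' (G := P) q (by
    obtain ⟨k, hk⟩ := IsPGroup.iff_card.1 P.isPGroup'
    rcases k with _ | k
    · have := P.not_dvd_index
      have e := (P : Subgroup T).card_mul_index
      rw [show Nat.card (P : Subgroup T) = 1 by simpa using hk, one_mul] at e
      exact absurd (e ▸ hqT) this
    · rw [hk]; exact dvd_pow_self q (Nat.succ_ne_zero k))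
  set N := Subgroup.normalizer (P' : Set G) with hN
  have hsup : N ⊔ T = ⊤ := Sylow.normalizer_sup_eq_top P
  let f : N →* G ⧸ T := (QuotientGroup.mk' T).comp N.subtype
  have hf : Function.Surjective f := by
    rw [← MonoidHom.range_eq_top, MonoidHom.range_comp, Subgroup.range_subtype]
    have := congrArg (Subgroup.map (QuotientGroup.mk' T)) hsup
    rw [Subgroup.map_sup, QuotientGroup.map_mk'_self, sup_bot_eq,
      Subgroup.map_top_of_surjective _ (QuotientGroup.mk'_surjective T)] at this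
    exact this
  obtain ⟨R, hRn, hRp, -, hRmap⟩ := exists_perfect_residual (G := N)
  haveI : Group.IsPerfect (G ⧸ T) :=
    Group.IsPerfect.ofSurjective (QuotientGroup.mk'_surjective T)
  have hRtop := hRmap f hf inferInstance
  haveI : IsCyclic (P : Subgroup T) :=
    (h.comp T.subtype T.subtype_injective).isCyclic_of_odd hq _ P.isPGroup'
  haveI : IsCyclic P' := isCyclic_of_surjective
    ((P : Subgroup T).equivMapOfInjective T.subtype T.subtype_injective).toMonoidHom
    ((P : Subgroup T).equivMapOfInjective T.subtype T.subtype_injective).surjective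
  refine ⟨R.map N.subtype, ((x₀ : T) : G), Group.IsPerfect.map (f := N.subtype) , ?_, (x₀ : T).2,
    ?_, ?_⟩
  · intro e
    rw [Subgroup.map_eq_bot_iff_of_injective _ N.subtype_injective] at e
    rw [e, Subgroup.map_bot] at hRtop
    haveI : Subsingleton (G ⧸ T) := ⟨fun a b => by
      have ha : a ∈ (⊥ : Subgroup (G ⧸ T)) := hRtop.symm ▸ Subgroup.mem_top a
      have hb : b ∈ (⊥ : Subgroup (G ⧸ T)) := hRtop.symm ▸ Subgroup.mem_top b
      rw [Subgroup.mem_bot.1 ha, Subgroup.mem_bot.1 hb]⟩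
    exact hT (QuotientGroup.subgroup_eq_top_of_subsingleton T ‹_›)
  · rw [Subgroup.orderOf_coe, Subgroup.orderOf_coe, hx₀]
  · rintro _ ⟨d, hd, rfl⟩
    have hle : ⁅R, R⁆ ≤ (P'.normalizerMonoidHom).ker := by
      rw [Subgroup.commutator_le]
      intro a _ b _
      rw [MonoidHom.mem_ker, map_commutatorElement, commutatorElement_eq_one_iff_mul_comm]
      exact isMulCommutative_mulAut_of_cyclic _ _
    rw [Subgroup.normalizerMonoidHom_ker] at hle
    have hd' := hle (by rw [Subgroup.commutator_eq_self]; exact hd)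
    exact (Subgroup.mem_centralizer_iff.1 hd' _ ⟨_, x₀.2, rfl⟩).symm

variable [IsAlgClosed K] [FiniteDimensional K V]

theorem IsFpf.triSub_cases (h : IsFpf ρ) :
    Group.IsSolvable (triSub G) ∨ Nonempty (triSub G ≃* SL25.SL) := by
  refine (h.comp (triSub G).subtype (triSub G).subtype_injective).generated_by_three ?_
  have e : ({g : triSub G | Tri g} : Set (triSub G)) =
      Subtype.val ⁻¹' {g : G | Tri g} := by
    ext x; exact tri_coe.symm
  rw [e]
  exact Subgroup.closure_closure_coe_preimage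

/-- In a perfect group the elements of order three generate `SL(2,5)`. -/
theorem IsFpf.triSub_iso_of_perfect (h : IsFpf ρ) [Group.IsPerfect G] [Nontrivial G] :
    Nonempty (triSub G ≃* SL25.SL) := by
  refine h.triSub_cases.resolve_left fun hsol => ?_
  haveI := Fact.mk Nat.prime_three
  have hns : ¬ Group.IsSolvable G := Group.IsPerfect.not_isSolvable G
  obtain ⟨y, hy⟩ := h.exists_tri hns
  have h3 : 3 ∣ Nat.card (triSub G) := by
    rw [← orderOf_eq_prime hy.1 hy.2,
      ← Subgroup.orderOf_mk y (Subgroup.subset_closure (show y ∈ {g : G | Tri g} from hy))]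
    exact orderOf_dvd_natCard _
  have hne : triSub G ≠ ⊤ := fun e => hns (by
    rw [e] at hsol
    exact solvable_of_surjective (f := (Subgroup.topEquiv : (⊤ : Subgroup G) ≃* G).toMonoidHom)
      (Subgroup.topEquiv : (⊤ : Subgroup G) ≃* G).surjective)
  obtain ⟨D, x, hDp, hDne, hxT, hx, hcom⟩ :=
    h.frattini_perfect (triSub G) hne (q := 3) (by norm_num) h3
  haveI : Nontrivial D := (Subgroup.nontrivial_iff_ne_bot D).2 hDne
  have hD := h.comp D.subtype D.subtype_injective
  obtain ⟨z, hz⟩ := hD.exists_tri (Group.IsPerfect.not_isSolvable D)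
  have hxD : x ∈ D := by
    rcases h.eq_or_of_commute (tri_coe.2 hz) (tri_of_orderOf hx) (hcom z z.2) with e | e <;> rw [e]
    exacts [z.2, mul_mem z.2 z.2]
  exact hD.perfect_no_central (x := ⟨x, hxD⟩) (q := 3) (by norm_num)
    (by rw [Subgroup.orderOf_mk, hx])
    (Subgroup.mem_center_iff.2 fun d => Subtype.ext (hcom d d.2))

/-- In a nonsolvable group the elements of order three generate `SL(2,5)`. -/
theorem IsFpf.triSub_iso (h : IsFpf ρ) (hns : ¬ Group.IsSolvable G) :
    Nonempty (triSub G ≃* SL25.SL) := by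
  refine h.triSub_cases.resolve_left fun hsol => ?_
  obtain ⟨R, -, hRp, hRne, -⟩ := exists_perfect_residual (G := G)
  haveI : Nontrivial R := (Subgroup.nontrivial_iff_ne_bot R).2 (hRne hns)
  have hR := (h.comp R.subtype R.subtype_injective).triSub_iso_of_perfect
  haveI := isSolvable_of_le (map_triSub_le R) hsol
  exact not_solvable_of_iso hR (solvable_of_surjective
    (f := ((triSub R).equivMapOfInjective R.subtype R.subtype_injective).symm.toMonoidHom)
    ((triSub R).equivMapOfInjective R.subtype R.subtype_injective).symm.surjective)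

/-- Zassenhaus: a nontrivial perfect group with a fixed-point-free representation is `SL(2,5)`. -/
theorem IsFpf.perfect_iso (h : IsFpf ρ) [Group.IsPerfect G] [Nontrivial G] :
    Nonempty (G ≃* SL25.SL) := by
  obtain ⟨e⟩ := h.triSub_iso_of_perfect
  by_cases hT : triSub G = ⊤
  · exact ⟨(Subgroup.topEquiv.symm.trans (MulEquiv.subgroupCongr hT.symm)).trans e⟩
  exfalso
  haveI : Fact (Nat.Prime 5) := ⟨by norm_num⟩
  have hc : Nat.card (triSub G) = 120 := card_block ⟨e⟩
  obtain ⟨D, x, hDp, hDne, hxT, hx, hcom⟩ :=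
    h.frattini_perfect (triSub G) hT (q := 5) (by norm_num) (by rw [hc]; norm_num)
  haveI : Nontrivial D := (Subgroup.nontrivial_iff_ne_bot D).2 hDne
  have hD := h.comp D.subtype D.subtype_injective
  have e' := hD.triSub_iso_of_perfect
  have hle := map_triSub_le D
  have heq : (triSub D).map D.subtype = triSub G :=
    Subgroup.eq_of_le_of_card_ge hle (by
      rw [hc, Subgroup.card_map_of_injective D.subtype_injective, card_block e'])
  have hxD : x ∈ D := Subgroup.map_subtype_le _ (heq.symm ▸ hxT)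
  exact hD.perfect_no_central (x := ⟨x, hxD⟩) (q := 5) (by norm_num)
    (by rw [Subgroup.orderOf_mk, hx])
    (Subgroup.mem_center_iff.2 fun d => Subtype.ext (hcom d d.2))

theorem four_of_sq_ne {x : G} {k : ℕ} (hk : x ^ 2 ^ k = 1) (h2 : x ^ 2 ≠ 1) :
    ∃ j : ℕ, Four (x ^ 2 ^ j) := by
  induction k generalizing x with
  | zero => exact absurd (by rw [pow_zero, pow_one] at hk; rw [hk, one_pow]) h2
  | succ k ih =>
    by_cases h4 : x ^ 4 = 1
    · exact ⟨0, by rw [pow_zero, pow_one]; exact ⟨h4, h2⟩⟩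
    · obtain ⟨j, hj⟩ := ih (x := x ^ 2) (by rw [← pow_mul, ← pow_succ']; exact hk)
        (by rw [← pow_mul]; exact h4)
      exact ⟨j + 1, by rw [pow_succ', pow_mul]; exact hj⟩

omit [IsAlgClosed K] [FiniteDimensional K V] in
theorem IsFpf.sq_eq_one_of_no_four (h : IsFpf ρ) (hno : ∀ g : G, ¬ Four g) {x : G} {k : ℕ}
    (hk : x ^ 2 ^ k = 1) : x ^ 2 = 1 := by
  by_contra h2
  obtain ⟨j, hj⟩ := four_of_sq_ne hk h2
  exact hno _ hj

omit [IsAlgClosed K] [FiniteDimensional K V] in
theorem IsFpf.card_sylow_two_le (h : IsFpf ρ) (hno : ∀ g : G, ¬ Four g) (P : Sylow 2 G) :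
    Nat.card P ≤ 2 := by
  classical
  haveI := Fact.mk Nat.prime_two
  by_contra hlt
  obtain ⟨a, ha⟩ : ∃ a : P, a ≠ 1 := by
    by_contra hall; push Not at hall
    haveI : Subsingleton P := ⟨fun u v => (hall u).trans (hall v).symm⟩
    exact hlt ((Nat.card_of_subsingleton (1 : P)).le.trans (by norm_num))
  have hsq : ∀ b : P, (b : G) ^ 2 = 1 := fun b => by
    obtain ⟨k, hk⟩ := P.isPGroup' b
    exact h.sq_eq_one_of_no_four hno (k := k) (congrArg Subtype.val hk)
  have : Nat.card P ≤ Nat.card (Fin 2) := by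
    refine Nat.card_le_card_of_injective (fun b : P => if b = 1 then 0 else 1) fun b c e => ?_
    by_cases hb : b = 1 <;> by_cases hc : c = 1 <;> simp [hb, hc] at e ⊢
    exact Subtype.ext (h.involution_unique (fun e => hb (Subtype.ext e)) (hsq b)
      (fun e => hc (Subtype.ext e)) (hsq c))
  simp at this
  exact hlt this

omit [IsAlgClosed K] [FiniteDimensional K V] in
theorem IsFpf.isZGroup_of_no_four (h : IsFpf ρ) (hno : ∀ g : G, ¬ Four g) : IsZGroup G := by
  rw [isZGroup_iff]
  intro p hp P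
  haveI := Fact.mk hp
  by_cases h2 : p = 2
  · subst h2
    have := h.card_sylow_two_le hno P
    have h0 : 0 < Nat.card P := Nat.card_pos
    rcases (show Nat.card P = 1 ∨ Nat.card P = 2 by omega) with e | e
    · haveI := (Nat.card_eq_one_iff_unique.1 e).1
      exact isCyclic_of_subsingleton
    · exact isCyclic_of_prime_card (p := 2) e
  · exact h.isCyclic_of_odd h2 (P : Subgroup G) P.isPGroup'

omit [IsAlgClosed K] [FiniteDimensional K V] in
theorem IsFpf.hnpc_of_no_four (h : IsFpf ρ) (hno : ∀ g : G, ¬ Four g) :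
    Cfsg.HasNormalPComplement 2 G := by
  haveI := Fact.mk Nat.prime_two
  obtain ⟨P⟩ : Nonempty (Sylow 2 G) := inferInstance
  refine Cfsg.Agent.Fusion.hnpc_of_normalizer_le_centralizer P fun g _ =>
    Subgroup.mem_centralizer_iff.2 fun b hb => ?_
  obtain ⟨k, hk⟩ := P.isPGroup' ⟨b, hb⟩
  have h2 := h.sq_eq_one_of_no_four hno (k := k) (congrArg Subtype.val hk)
  by_cases hb1 : b = 1
  · simp [hb1]
  · exact (h.involution_central hb1 h2 g).symm

omit [IsAlgClosed K] [FiniteDimensional K V] in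
theorem IsFpf.normal_perfect_centralizes (h : IsFpf ρ) {S : Subgroup G} [S.Normal]
    (hS : Group.IsPerfect S) {k : G} (hk : ∀ s ∈ S, (k * s * k⁻¹ * s⁻¹) ^ 2 = 1) :
    k ∈ Subgroup.centralizer (S : Set G) := by
  have hcen : ∀ s ∈ S, ∀ x : G, x * (k * s * k⁻¹ * s⁻¹) = k * s * k⁻¹ * s⁻¹ * x := by
    intro s hs x
    by_cases h1 : k * s * k⁻¹ * s⁻¹ = 1
    · rw [h1, mul_one, one_mul]
    · exact h.involution_central h1 (hk s hs) x
  let φ : S →* Subgroup.center G :=
    { toFun := fun s => ⟨k * s * k⁻¹ * (s : G)⁻¹, Subgroup.mem_center_iff.2 (hcen s s.2)⟩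
      map_one' := Subtype.ext (by simp)
      map_mul' := fun s t => Subtype.ext (by
        show k * (s * t : G) * k⁻¹ * (s * t : G)⁻¹ =
          k * s * k⁻¹ * (s : G)⁻¹ * (k * t * k⁻¹ * (t : G)⁻¹)
        calc k * (s * t : G) * k⁻¹ * (s * t : G)⁻¹
            = k * s * k⁻¹ * ((k * t * k⁻¹ * (t : G)⁻¹) * (s : G)⁻¹) := by group
          _ = k * s * k⁻¹ * ((s : G)⁻¹ * (k * t * k⁻¹ * (t : G)⁻¹)) := by
              rw [hcen t t.2 (s : G)⁻¹]
          _ = _ := by group) }
  rw [Subgroup.mem_centralizer_iff]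
  intro s hs
  have : commutator S ≤ φ.ker := by
    rw [commutator_def, Subgroup.commutator_le]
    intro a _ b _
    rw [MonoidHom.mem_ker, map_commutatorElement, commutatorElement_eq_one_iff_mul_comm]
    exact Subtype.ext (Subgroup.mem_center_iff.1 (φ b).2 (φ a).1)
  have e : k * s * k⁻¹ * s⁻¹ = 1 :=
    congrArg Subtype.val (this (Group.IsPerfect.mem_commutator (g := (⟨s, hs⟩ : S))))
  rw [mul_inv_eq_one, mul_inv_eq_iff_eq_mul] at e
  exact e.symm

omit [IsAlgClosed K] [FiniteDimensional K V] in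
/-- The action of the group on the five classes of a normal `SL(2,5)`. -/
theorem IsFpf.five_hom (h : IsFpf ρ) (S : Subgroup G) [S.Normal]
    (hS : Nonempty (S ≃* SL25.SL)) :
    ∃ f : G →* Equiv.Perm (Fin 5), f.ker = Subgroup.centralizer (S : Set G) ∧
      S.map f = alternatingGroup (Fin 5) := by
  classical
  obtain ⟨e⟩ := id hS
  obtain ⟨r, hr4, hcls, hrel, hker⟩ := SL25.exists_classes e
  choose cls hc1 hc2 using hcls
  let cj : G → S → S := fun g s => ⟨g * s * g⁻¹, ‹S.Normal›.conj_mem _ s.2 g⟩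
  have cj_mul : ∀ g s t, cj g (s * t) = cj g s * cj g t := fun g s t => Subtype.ext (by
    show g * (s * t : G) * g⁻¹ = g * s * g⁻¹ * (g * t * g⁻¹); group)
  have cj_inj : ∀ g, Function.Injective (cj g) := fun g s t he => Subtype.ext (by
    simpa [cj] using congrArg Subtype.val he)
  have cj4 : ∀ g {s}, Four s → Four (cj g s) := by
    intro g s hs
    have e1 : ∀ n : ℕ, (cj g s) ^ n = cj g (s ^ n) := fun n => by
      induction n with
      | zero => exact Subtype.ext (by simp [cj])
      | succ n ih => rw [pow_succ, pow_succ, cj_mul, ih]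
    have e0 : cj g 1 = 1 := Subtype.ext (by simp [cj])
    exact ⟨by rw [e1, hs.1, e0], fun e2 => hs.2 (cj_inj g (by rw [← e1, e2, e0]))⟩
  have cjrel : ∀ g s t, Rel (cj g s) (cj g t) ↔ Rel s t := fun g s t => by
    simp only [Rel, ← cj_mul, (cj_inj g).eq_iff]
  have cls_eq : ∀ {s t} (hs : Four s) (ht : Four t), Rel s t → cls s hs = cls t ht := by
    intro s t hs ht hst
    obtain ⟨k, hk1, hk2⟩ := (hrel s t hs ht).1 hst
    rw [← hc2 s hs k hk1, hc2 t ht k hk2]
  let π : G → Fin 5 → Fin 5 := fun g k => cls (cj g (r k)) (cj4 g (hr4 k))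
  have hmul : ∀ g g' k, π (g * g') k = π g (π g' k) := fun g g' k => by
    refine cls_eq (cj4 _ (hr4 _)) (cj4 _ (hr4 _)) ?_
    rw [show cj (g * g') (r k) = cj g (cj g' (r k)) from Subtype.ext (by
      show g * g' * r k * (g * g')⁻¹ = g * (g' * r k * g'⁻¹) * g⁻¹; group), cjrel]
    exact hc1 _ _
  have hone : ∀ k, π 1 k = k := fun k =>
    (hc2 _ _ k (by rw [show cj 1 (r k) = r k from Subtype.ext (by simp [cj])]; exact Or.inl rfl)).symm
  let f : G →* Equiv.Perm (Fin 5) :=
    { toFun := fun g => ⟨π g, π g⁻¹,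
        fun k => by rw [← hmul, inv_mul_cancel, hone],
        fun k => by rw [← hmul, mul_inv_cancel, hone]⟩
      map_one' := Equiv.ext hone
      map_mul' := fun g g' => Equiv.ext (hmul g g') }
  have hkerS : ∀ s : S, (s : G) ∈ f.ker → s ^ 2 = 1 := fun s hs => hker s fun k => by
    have e1 := hc1 (cj s (r k)) (cj4 _ (hr4 k))
    rw [show cls (cj s (r k)) (cj4 _ (hr4 k)) = k from Equiv.congr_fun (MonoidHom.mem_ker.1 hs) k] at e1
    exact e1
  have hkerf : f.ker = Subgroup.centralizer (S : Set G) := by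
    refine le_antisymm (fun k hk => h.normal_perfect_centralizes (isPerfect_of_iso hS) fun s hs => ?_)
      fun g hg => MonoidHom.mem_ker.2 (Equiv.ext fun k => ?_)
    · have hm : k * s * k⁻¹ * s⁻¹ ∈ S := mul_mem (‹S.Normal›.conj_mem s hs k) (inv_mem hs)
      have hf : k * s * k⁻¹ * s⁻¹ ∈ f.ker := by
        rw [show k * s * k⁻¹ * s⁻¹ = k * (s * k⁻¹ * s⁻¹) by group]
        exact mul_mem hk (f.normal_ker.conj_mem _ (inv_mem hk) s)
      simpa using congrArg Subtype.val (hkerS ⟨_, hm⟩ hf)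
    · refine (hc2 _ _ k (?_ : Rel (cj g (r k)) (r k))).symm
      rw [show cj g (r k) = r k from Subtype.ext (by
        show g * r k * g⁻¹ = r k
        rw [← Subgroup.mem_centralizer_iff.1 hg _ (r k).2, mul_inv_cancel_right])]
      exact Or.inl rfl
  refine ⟨f, hkerf, Equiv.Perm.eq_alternatingGroup_of_index_eq_two ?_⟩
  set φ := f.comp S.subtype with hφ
  have hkercard : Nat.card φ.ker = 2 := by
    have hz : (r 0) ^ 2 ∈ φ.ker := by
      rw [MonoidHom.mem_ker, hφ, MonoidHom.comp_apply, ← MonoidHom.mem_ker, hkerf,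
        Subgroup.mem_centralizer_iff]
      intro s _
      exact h.involution_central (fun e1 => (hr4 0).2 (Subtype.ext e1))
        (show ((r 0 : G) ^ 2) ^ 2 = 1 by
          rw [← pow_mul]; exact congrArg Subtype.val (hr4 0).1) s
    rw [Nat.card_eq_two_iff' (1 : φ.ker)]
    refine ⟨⟨_, hz⟩, fun e1 => (hr4 0).2 (congrArg Subtype.val e1), fun y hy => ?_⟩
    have hy2 := hkerS y.1 (MonoidHom.mem_ker.2 (MonoidHom.mem_ker.1 y.2))
    refine Subtype.ext (Subtype.ext ?_)
    exact h.involution_unique (fun e1 => hy (Subtype.ext (Subtype.ext e1)))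
      (congrArg Subtype.val hy2) (fun e1 => (hr4 0).2 (Subtype.ext e1))
      (show ((r 0 : G) ^ 2) ^ 2 = 1 by rw [← pow_mul]; exact congrArg Subtype.val (hr4 0).1)
  have hrange : Nat.card (S.map f) = 60 := by
    rw [show S.map f = φ.range by rw [hφ, MonoidHom.range_comp, Subgroup.range_subtype]]
    have e1 := φ.ker.card_mul_index
    rw [hkercard, Subgroup.index_ker, card_block hS] at e1
    omega
  have e1 := (S.map f).card_mul_index
  rw [hrange, Nat.card_perm, Nat.card_eq_fintype_card, Fintype.card_fin,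
    show Nat.factorial 5 = 120 from rfl] at e1
  omega

/-- The centraliser of a normal `SL(2,5)`. -/
theorem IsFpf.centralizer_facts (h : IsFpf ρ) (S : Subgroup G) [S.Normal]
    (hS : Nonempty (S ≃* SL25.SL)) (hT : triSub G = S) :
    (∀ x ∈ Subgroup.centralizer (S : Set G), ¬ Four x) ∧
    (∀ x ∈ Subgroup.centralizer (S : Set G), x ∈ S → x ^ 2 = 1) ∧
    ∀ q, q = 3 ∨ q = 5 → ¬ q ∣ Nat.card (Subgroup.centralizer (S : Set G)) := by
  obtain ⟨e⟩ := id hS
  have hMS : ∀ x ∈ Subgroup.centralizer (S : Set G), x ∈ S → x ^ 2 = 1 := by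
    intro x hxc hxS
    obtain ⟨r, hr4, -, -, hker⟩ := SL25.exists_classes e
    have := hker ⟨x, hxS⟩ fun k => by
      rw [show (⟨x, hxS⟩ : S) * r k * (⟨x, hxS⟩ : S)⁻¹ = r k from Subtype.ext (by
        show x * r k * x⁻¹ = r k
        rw [← Subgroup.mem_centralizer_iff.1 hxc _ (r k).2, mul_inv_cancel_right])]
      exact Or.inl rfl
    exact congrArg Subtype.val this
  refine ⟨fun x hx hx4 => ?_, hMS, fun q hq hd => ?_⟩
  · obtain ⟨r, hr4, -, -, -⟩ := SL25.exists_classes e
    have hi4 : (r 0 : G) ^ 4 = 1 := congrArg Subtype.val (hr4 0).1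
    have hi2 : (r 0 : G) ^ 2 ≠ 1 := fun e1 => (hr4 0).2 (Subtype.ext e1)
    have hc : Commute x (r 0 : G) := (Subgroup.mem_centralizer_iff.1 hx _ (r 0).2).symm
    have e1 : x ^ 2 = (r 0 : G) ^ 2 :=
      h.involution_unique hx4.2 (by rw [← pow_mul]; exact hx4.1) hi2
        (by rw [← pow_mul]; exact hi4)
    have e2 : (x * r 0 : G) ^ 2 = 1 := by
      rw [hc.mul_pow, e1, ← pow_add]; exact hi4
    refine hx4.2 (hMS x hx ?_)
    by_cases e3 : x * r 0 = (1 : G)
    · rw [eq_inv_of_mul_eq_one_left e3]; exact inv_mem (r 0).2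
    · have e4 := h.involution_unique e3 e2 hi2 (by rw [← pow_mul]; exact hi4)
      have : x = (r 0 : G) ^ 2 * (r 0 : G)⁻¹ := eq_mul_inv_of_mul_eq e4
      rw [this]; exact mul_mem (pow_mem (r 0).2 2) (inv_mem (r 0).2)
  · haveI : Fact q.Prime := ⟨by rcases hq with rfl | rfl <;> norm_num⟩
    obtain ⟨y, hy⟩ := exists_prime_orderOf_dvd_card' (G := Subgroup.centralizer (S : Set G)) q hd
    obtain ⟨x, hx⟩ := exists_prime_orderOf_dvd_card' (G := S) q (by
      rw [card_block hS]; rcases hq with rfl | rfl <;> norm_num)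
    rw [← Subgroup.orderOf_coe] at hy hx
    have hzp := h.zpowers_eq_of_commute hy hx
      (Subgroup.mem_centralizer_iff.1 y.2 _ x.2).symm
    have hyS : (y : G) ∈ S :=
      (Subgroup.zpowers_le.2 x.2) (hzp ▸ Subgroup.mem_zpowers (y : G))
    have hd2 := orderOf_dvd_of_pow_eq_one (hMS _ y.2 hyS)
    rw [hy] at hd2
    rcases hq with rfl | rfl <;> omega

theorem pResidual_map_normal (M : Subgroup G) [M.Normal] :
    ((Cfsg.pResidual 2 M).map M.subtype).Normal := by
  refine ⟨?_⟩
  rintro _ ⟨m, hm, rfl⟩ g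
  refine ⟨(MulAut.conjNormal (H := M) g) m, ?_, MulAut.conjNormal_apply g m⟩
  have hm' : m ∈ Cfsg.pResidual 2 M := hm
  induction hm' using Subgroup.closure_induction with
  | mem x hx =>
    refine Subgroup.subset_closure ?_
    show Nat.Coprime (orderOf _) 2
    rw [MulEquiv.orderOf_eq]; exact hx
  | one => rw [map_one]; exact one_mem _
  | mul x y hx hy ihx ihy => rw [map_mul]; exact mul_mem (ihx hx) (ihy hy)
  | inv x hx ih => rw [map_inv]; exact inv_mem (ih hx)

/-- The structure of a nonsolvable group with a fixed-point-free representation. -/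
theorem IsFpf.nonsolvable_structure (h : IsFpf ρ) (hns : ¬ Group.IsSolvable G) :
    ∃ G₀ : Subgroup G, G₀.Normal ∧ (G₀.index = 1 ∨ G₀.index = 2) ∧
      ∃ S M : Subgroup G, S ⊔ M = G₀ ∧ S ⊓ M = ⊥ ∧ (∀ s ∈ S, ∀ x ∈ M, s * x = x * s) ∧
        Nonempty (S ≃* SL25.SL) ∧ IsZGroup M ∧ (Nat.card M).Coprime 30 := by
  haveI := Fact.mk Nat.prime_two
  set S := triSub G with hSdef
  have hS := h.triSub_iso hns
  obtain ⟨f, hfk, hfS⟩ := h.five_hom S hS
  obtain ⟨hno4, hMS, hq⟩ := h.centralizer_facts S hS rfl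
  set C := Subgroup.centralizer (S : Set G) with hC
  have hCfpf := h.comp C.subtype C.subtype_injective
  have hno4' : ∀ g : C, ¬ Four g := fun g hg =>
    hno4 g g.2 ⟨congrArg Subtype.val hg.1, fun e => hg.2 (Subtype.ext e)⟩
  have hnpc := hCfpf.hnpc_of_no_four hno4'
  set R := Cfsg.pResidual 2 C with hR
  have hRodd : ¬ 2 ∣ Nat.card R :=
    Cfsg.Agent.Fusion.coprime_card_iff_not_dvd.1 (Cfsg.Agent.Fusion.hnpc_iff.1 hnpc)
  haveI : C.Normal := hfk ▸ f.normal_ker
  set M := R.map C.subtype with hM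
  haveI : M.Normal := pResidual_map_normal C
  have hMcard : Nat.card M = Nat.card R := Subgroup.card_map_of_injective C.subtype_injective
  have hMC : M ≤ C := Subgroup.map_subtype_le R
  have hsup : S ⊔ M = (alternatingGroup (Fin 5)).comap f := by
    rw [← hfS, Subgroup.comap_map_eq, hfk]
    refine le_antisymm (sup_le le_sup_left (hMC.trans le_sup_right)) (sup_le le_sup_left ?_)
    intro c hc
    obtain ⟨P⟩ : Nonempty (Sylow 2 C) := inferInstance
    have htop : R ⊔ (P : Subgroup C) = ⊤ :=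
      (Cfsg.Agent.Fusion.isComplement'_of_coprime_card P
        (Cfsg.Agent.Fusion.hnpc_iff.1 hnpc)).sup_eq_top
    have hcm : c ∈ (R ⊔ (P : Subgroup C)).map C.subtype := ⟨⟨c, hc⟩, htop ▸ trivial, rfl⟩
    rw [Subgroup.map_sup] at hcm
    refine SetLike.le_def.1 (sup_le ?_ ?_) hcm
    · exact le_sup_right
    rintro _ ⟨b, hb, rfl⟩
    obtain ⟨k, hk⟩ := P.isPGroup' ⟨b, hb⟩
    have hb2 := hCfpf.sq_eq_one_of_no_four hno4' (k := k) (congrArg Subtype.val hk)
    by_cases hb1 : (b : G) = 1
    · show (b : G) ∈ _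
      rw [hb1]; exact one_mem _
    obtain ⟨e⟩ := id hS
    obtain ⟨r, hr4, -, -, -⟩ := SL25.exists_classes e
    refine le_sup_left (b := M) ?_
    show (b : G) ∈ S
    rw [h.involution_unique hb1 (congrArg Subtype.val hb2)
      (fun e1 => (hr4 0).2 (Subtype.ext e1))
      (show ((r 0 : G) ^ 2) ^ 2 = 1 by rw [← pow_mul]; exact congrArg Subtype.val (hr4 0).1)]
    exact pow_mem (r 0).2 2
  refine ⟨S ⊔ M, inferInstance, ?_, S, M, rfl, ?_, fun s hs x hx =>
    Subgroup.mem_centralizer_iff.1 (hMC hx) s hs, hS, ?_, ?_⟩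
  · rw [hsup, Subgroup.index_comap]
    have hd := Subgroup.relIndex_dvd_index_of_normal (alternatingGroup (Fin 5)) f.range
    rw [alternatingGroup.index_eq_two] at hd
    exact Nat.prime_two.eq_one_or_self_of_dvd _ hd
  · rw [eq_bot_iff]
    rintro x ⟨hxS, ⟨m, hm, rfl⟩⟩
    have h2 : (⟨m, hm⟩ : R) ^ 2 = 1 :=
      Subtype.ext (Subtype.ext (hMS _ m.2 hxS))
    have hd : orderOf (⟨m, hm⟩ : R) ∣ 2 := orderOf_dvd_of_pow_eq_one h2
    have h1 : (⟨m, hm⟩ : R) = 1 := by
      rcases Nat.prime_two.eq_one_or_self_of_dvd _ hd with e1 | e1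
      · exact orderOf_eq_one_iff.1 e1
      · exact absurd (e1 ▸ orderOf_dvd_natCard (⟨m, hm⟩ : R)) hRodd
    rw [Subgroup.mem_bot]
    exact congrArg (fun x : R => ((x : C) : G)) h1
  · exact h.isZGroup_of_odd (by rw [hMcard]; exact hRodd)
  · rw [show (30 : ℕ) = 2 * (3 * 5) by norm_num]
    refine Nat.Coprime.mul_right ((Nat.prime_two.coprime_iff_not_dvd).2
      (by rw [hMcard]; exact hRodd)).symm (Nat.Coprime.mul_right
      ((Nat.prime_three.coprime_iff_not_dvd).2 fun hd =>
        hq 3 (Or.inl rfl) (hd.trans (Subgroup.card_dvd_of_le hMC))).symm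
      (((show Nat.Prime 5 by norm_num).coprime_iff_not_dvd).2 fun hd =>
        hq 5 (Or.inr rfl) (hd.trans (Subgroup.card_dvd_of_le hMC))).symm)

end Cfsg.Agent.Perm.Fpf
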