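import Cfsg.Agent.Lib.Perm.Fpf.Structure
import Cfsg.Agent.Lib.Solv.ThompsonFPF
import Cfsg.Agent.Lib.Solv.FrobeniusFPF

/-!
Fixed-point-free linear representations from fixed-point-free actions.
-/

set_option autoImplicit false
set_option linter.style.haveILetI false

namespace Cfsg.Agent.Perm.Fpf

open scoped Pointwise

universe u v w

/-- `X` has a fixed-point-free representation over some algebraically closed field. -/
def HasFpf (X : Type w) [Group X] : Prop :=
  ∃ (K : Type) (_ : Field K) (_ : IsAlgClosed K) (n : ℕ)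
    (ρ : X →* Module.End K (Fin n → K)), 0 < n ∧ IsFpf ρ

variable {X : Type w} [Group X]

theorem HasFpf.comp (h : HasFpf X) {Y : Type v} [Group Y] (f : Y →* X)
    (hf : Function.Injective f) : HasFpf Y := by
  obtain ⟨K, i1, i2, n, ρ, hn, hρ⟩ := h
  exact ⟨K, i1, i2, n, ρ.comp f, hn, hρ.comp f hf⟩

theorem HasFpf.elim (h : HasFpf X) {P : Prop}
    (k : ∀ {K : Type} [Field K] [IsAlgClosed K] {n : ℕ} [Nontrivial (Fin n → K)]
      (ρ : X →* Module.End K (Fin n → K)), IsFpf ρ → P) : P := by
  obtain ⟨K, i1, i2, n, ρ, hn, hρ⟩ := h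
  haveI : Nonempty (Fin n) := ⟨⟨0, hn⟩⟩
  exact k ρ hρ

/-- Invertible matrices `M - 1` give a representation over the algebraic closure. -/
theorem hasFpf_of_matrix {F : Type} [Field F] {n : ℕ} (hn : 0 < n)
    (μ : X →* Matrix (Fin n) (Fin n) F) (hμ : ∀ g, g ≠ 1 → IsUnit (μ g - 1)) : HasFpf X := by
  let e : Matrix (Fin n) (Fin n) F →+* Matrix (Fin n) (Fin n) (AlgebraicClosure F) :=
    (algebraMap F (AlgebraicClosure F)).mapMatrix
  refine ⟨AlgebraicClosure F, inferInstance, inferInstance, n,
    (Matrix.toLinAlgEquiv' (R := AlgebraicClosure F) (n := Fin n)).toAlgHom.toMonoidHom.comp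
      (e.toMonoidHom.comp μ), hn, fun g hg x hx => ?_⟩
  have hu : IsUnit (e (μ g) - 1) := by
    have := (hμ g hg).map e
    rwa [map_sub, map_one] at this
  have h0 : Matrix.mulVec (e (μ g) - 1) x = 0 := by
    rw [Matrix.sub_mulVec, Matrix.one_mulVec, sub_eq_zero]
    simpa using hx
  obtain ⟨u, hu⟩ := hu
  have h1 := congrArg (Matrix.mulVec (↑u⁻¹ : Matrix (Fin n) (Fin n) (AlgebraicClosure F))) h0
  rw [Matrix.mulVec_mulVec, ← hu, Units.inv_mul, Matrix.one_mulVec, Matrix.mulVec_zero] at h1
  exact h1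

/-- A fixed-point-free action on a finite-dimensional vector space. -/
theorem hasFpf_of_linear {F : Type} [Field F] {W : Type v} [AddCommGroup W] [Module F W]
    [FiniteDimensional F W] [Nontrivial W] (μ : X →* Module.End F W)
    (hμ : ∀ g, g ≠ 1 → ∀ x, μ g x = x → x = 0) : HasFpf X := by
  refine hasFpf_of_matrix (n := Module.finrank F W) Module.finrank_pos
    ((LinearMap.toMatrixAlgEquiv (Module.finBasis F W)).toAlgHom.toMonoidHom.comp μ)
    fun g hg => ?_
  have hu : IsUnit (μ g - 1) := by
    rw [Module.End.isUnit_iff]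
    have hinj : Function.Injective (μ g - 1 : Module.End F W) := by
      rw [injective_iff_map_eq_zero]
      exact fun x hx => hμ g hg x (sub_eq_zero.1 hx)
    exact ⟨hinj, LinearMap.surjective_of_injective hinj⟩
  have := hu.map (LinearMap.toMatrixAlgEquiv (Module.finBasis F W))
  rw [map_sub, map_one] at this
  exact this

/-- A fixed-point-free action on a nontrivial finite abelian group of prime exponent. -/
theorem hasFpf_of_exponent {W : Type v} [CommGroup W] [Finite W] [Nontrivial W] {r : ℕ}
    [Fact r.Prime] (hexp : ∀ x : W, x ^ r = 1) (φ : X →* MulAut W)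
    (hφ : ∀ g, g ≠ 1 → ∀ x, φ g x = x → x = 1) : HasFpf X := by
  haveI : Module (ZMod r) (Additive W) :=
    AddCommGroup.zmodModule (fun v => hexp (Additive.toMul v))
  haveI : Module.Finite (ZMod r) (Additive W) := Module.Finite.of_finite
  let endOf : MulAut W →* Module.End (ZMod r) (Additive W) :=
    { toFun := fun β => (MonoidHom.toAdditive β.toMonoidHom).toZModLinearMap r
      map_one' := LinearMap.ext fun _ => rfl
      map_mul' := fun _ _ => LinearMap.ext fun _ => rfl }
  refine hasFpf_of_linear (endOf.comp φ) fun g hg x hx => ?_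
  have := hφ g hg (Additive.toMul x) (congrArg Additive.toMul hx)
  exact congrArg Additive.ofMul this

/-- A fixed-point-free action on a nontrivial finite abelian group. -/
theorem hasFpf_of_commGroup {W : Type v} [CommGroup W] [Finite W] [Nontrivial W]
    (φ : X →* MulAut W) (hφ : ∀ g, g ≠ 1 → ∀ x, φ g x = x → x = 1) : HasFpf X := by
  obtain ⟨r, hr, hrW⟩ := Nat.exists_prime_and_dvd
    (show Nat.card W ≠ 1 from (Finite.one_lt_card (α := W)).ne')
  haveI := Fact.mk hr
  let Ω : Subgroup W := (powMonoidHom r : W →* W).ker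
  haveI : Nontrivial Ω := by
    obtain ⟨x, hx⟩ := exists_prime_orderOf_dvd_card' (G := W) r hrW
    refine ⟨⟨⟨x, ?_⟩, 1, fun e => ?_⟩⟩
    · show x ^ r = 1
      rw [← hx, pow_orderOf_eq_one]
    · rw [show x = 1 from congrArg Subtype.val e, orderOf_one] at hx
      exact hr.ne_one hx.symm
  have hΩ : ∀ g, ∀ x ∈ Ω, φ g x ∈ Ω := fun g x hx => by
    show φ g x ^ r = 1
    rw [← map_pow, show x ^ r = 1 from hx, map_one]
  let ψ : X →* MulAut Ω :=
    { toFun := fun g =>
        { toFun := fun x => ⟨φ g x, hΩ g x x.2⟩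
          invFun := fun x => ⟨φ g⁻¹ x, hΩ g⁻¹ x x.2⟩
          left_inv := fun x => Subtype.ext (by simp)
          right_inv := fun x => Subtype.ext (by simp)
          map_mul' := fun x y => Subtype.ext (map_mul (φ g) (x : W) y) }
      map_one' := MulEquiv.ext fun x => Subtype.ext (by simp)
      map_mul' := fun a b => MulEquiv.ext fun x => Subtype.ext (by simp) }
  exact hasFpf_of_exponent (W := Ω) (r := r) (fun x => Subtype.ext x.2) ψ
    fun g hg x hx => Subtype.ext (hφ g hg x (congrArg Subtype.val hx))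

/-- A group normalising an abelian subgroup and acting fixed-point-freely on it. -/
theorem hasFpf_of_conj {G : Type v} [Group G] [Finite G] {A W : Subgroup G} [IsMulCommutative W]
    (hW : W ≠ ⊥) (hA : A ≤ Subgroup.normalizer (W : Set G))
    (hfix : ∀ a ∈ A, a ≠ 1 → W ⊓ Subgroup.centralizer {a} = ⊥) : HasFpf A := by
  letI : CommGroup W :=
    { (inferInstance : Group W) with mul_comm := fun a b => mul_comm' a b }
  haveI : Nontrivial W := (Subgroup.nontrivial_iff_ne_bot W).2 hW
  refine hasFpf_of_commGroup (W.normalizerMonoidHom.comp (Subgroup.inclusion hA))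
    fun a ha x hx => ?_
  have e : (a : G) * x * (a : G)⁻¹ = x := congrArg Subtype.val hx
  have : (x : G) ∈ W ⊓ Subgroup.centralizer {(a : G)} :=
    ⟨x.2, Subgroup.mem_centralizer_singleton_iff.2 (mul_inv_eq_iff_eq_mul.1 e).symm⟩
  rw [hfix a a.2 (fun e => ha (Subtype.ext e)), Subgroup.mem_bot] at this
  exact Subtype.ext this

/-- A fixed-point-free action on an arbitrary nontrivial finite group. -/
theorem hasFpf_of_action {N : Type v} [Group N] [Finite N] [Nontrivial N] [Finite X]
    [Nontrivial X] (φ : X →* MulAut N) (hφ : ∀ g : X, g ≠ 1 → ∀ x : N, φ g x = x → x = 1) :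
    HasFpf X := by
  obtain ⟨r, hr, hrX⟩ := Nat.exists_prime_and_dvd
    (show Nat.card X ≠ 1 from (Finite.one_lt_card (α := X)).ne')
  haveI := Fact.mk hr
  obtain ⟨g, hg⟩ := exists_prime_orderOf_dvd_card' (G := X) r hrX
  have hg1 : g ≠ 1 := fun e => by rw [e, orderOf_one] at hg; exact hr.ne_one hg.symm
  haveI : Finite (N ⋊[φ] X) := Finite.of_equiv _ SemidirectProduct.equivProd.symm
  set Kr := (SemidirectProduct.inl : N →* N ⋊[φ] X).range with hKr
  haveI hKn : Kr.Normal := by
    rw [hKr, SemidirectProduct.range_inl_eq_ker_rightHom]; exact MonoidHom.normal_ker _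
  have hnil : Group.IsNilpotent Kr :=
    Cfsg.Agent.Solv.fpf_nilpotent Kr (SemidirectProduct.inr g) hr
      (by rw [← map_pow, ← hg, pow_orderOf_eq_one, map_one])
      (by rw [Subgroup.normalizer_eq_top]; exact Subgroup.mem_top _)
      (by
        rw [eq_bot_iff]
        rintro _ ⟨⟨n, rfl⟩, hc⟩
        have e := Subgroup.mem_centralizer_singleton_iff.1 hc
        have e1 : SemidirectProduct.inl (φ g n) = (SemidirectProduct.inl n : N ⋊[φ] X) := by
          rw [SemidirectProduct.inl_aut, map_inv]
          exact mul_inv_eq_iff_eq_mul.2 e.symm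
        rw [Subgroup.mem_bot, hφ g hg1 n (SemidirectProduct.inl_injective e1), map_one])
  haveI : Group.IsNilpotent N := by
    haveI := hnil
    exact Group.isNilpotent_congr
      (MonoidHom.ofInjective (f := (SemidirectProduct.inl : N →* N ⋊[φ] X))
        SemidirectProduct.inl_injective).symm |>.1 inferInstance
  haveI : Nontrivial (Subgroup.center N) :=
    (Subgroup.nontrivial_iff_ne_bot _).2 (Group.IsNilpotent.center_ne_bot N)
  have hZ : ∀ h, ∀ x ∈ Subgroup.center N, φ h x ∈ Subgroup.center N := by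
    intro h x hx
    rw [Subgroup.mem_center_iff] at hx ⊢
    intro y
    obtain ⟨y, rfl⟩ := (φ h).surjective y
    rw [← map_mul, hx, map_mul]
  let ψ : X →* MulAut (Subgroup.center N) :=
    { toFun := fun g =>
        { toFun := fun x => ⟨φ g x, hZ g x x.2⟩
          invFun := fun x => ⟨φ g⁻¹ x, hZ g⁻¹ x x.2⟩
          left_inv := fun x => Subtype.ext (by simp)
          right_inv := fun x => Subtype.ext (by simp)
          map_mul' := fun x y => Subtype.ext (map_mul (φ g) (x : N) y) }
      map_one' := MulEquiv.ext fun x => Subtype.ext (by simp)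
      map_mul' := fun a b => MulEquiv.ext fun x => Subtype.ext (by simp) }
  letI : CommGroup (Subgroup.center N) :=
    { (inferInstance : Group (Subgroup.center N)) with
      mul_comm := fun a b => Subtype.ext (Subgroup.mem_center_iff.1 b.2 a.1) }
  exact hasFpf_of_commGroup (W := Subgroup.center N) ψ
    fun a ha x hx => Subtype.ext (hφ a ha x.1 (congrArg Subtype.val hx))

open Cfsg in
/-- A Frobenius complement has a fixed-point-free representation. -/
theorem hasFpf_of_frobenius {L : Type v} [Group L] [Finite L] {H : Subgroup L}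
    (hH : IsFrobeniusComplement H) : HasFpf H := by
  obtain ⟨V, a, hV, hVc, hN, hfix⟩ := Cfsg.Agent.Solv.frob_exists_fpf hH
  haveI := hVc
  exact (hasFpf_of_conj hV hN hfix).comp
    (Subgroup.equivSMul (MulAut.conj a) H).toMonoidHom (Subgroup.equivSMul (MulAut.conj a) H).injective

open Cfsg in
theorem hasFpf_of_iso_frobenius {G : Type w} [Group G]
    (hFC : ∃ (L : Type) (_ : Group L) (_ : Finite L) (H : Subgroup L),
      Cfsg.IsFrobeniusComplement H ∧ Nonempty (G ≃* H)) : HasFpf G := by
  obtain ⟨L, _, _, H, hH, ⟨e⟩⟩ := hFC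
  exact (hasFpf_of_frobenius hH).comp e.toMonoidHom e.injective

theorem HasFpf.perfect_iso [Finite X] (h : HasFpf X) [Group.IsPerfect X] [Nontrivial X] :
    Nonempty (X ≃* SL25.SL) :=
  h.elim fun _ hρ => hρ.perfect_iso

theorem HasFpf.nonsolvable_structure [Finite X] (h : HasFpf X) (hns : ¬ Group.IsSolvable X) :
    ∃ G₀ : Subgroup X, G₀.Normal ∧ (G₀.index = 1 ∨ G₀.index = 2) ∧
      ∃ S M : Subgroup X, S ⊔ M = G₀ ∧ S ⊓ M = ⊥ ∧ (∀ s ∈ S, ∀ x ∈ M, s * x = x * s) ∧
        Nonempty (S ≃* SL25.SL) ∧ IsZGroup M ∧ (Nat.card M).Coprime 30 :=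
  h.elim fun _ hρ => hρ.nonsolvable_structure hns

end Cfsg.Agent.Perm.Fpf
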