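import Cfsg.Agent.Lib.Perm.Fpf.Structure
import Cfsg.Agent.Lib.Perm.Fpf.Entry
import Cfsg.Agent.Lib.Perm.Fpf.QuatAut

/-!
Linear groups over a prime field that are regular on the nonzero vectors: normal abelian
subgroups and minimal non-abelian normal subgroups centralising them.
-/

set_option autoImplicit false
set_option linter.style.haveILetI false
set_option linter.unusedSectionVars false

namespace Cfsg.Agent.Perm.Fpf.Semilinear

open Cfsg.Agent.Perm.Fpf Cfsg.Agent.Perm.Fpf.QuatAut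
open scoped commutatorElement

universe u

variable {p : ℕ} [Fact p.Prime] {V : Type u} [AddCommGroup V] [Module (ZMod p) V] [Finite V]
  {H : Subgroup (V ≃ₗ[ZMod p] V)}

/-- The linear representation of a group of linear automorphisms. -/
def rho (H : Subgroup (V ≃ₗ[ZMod p] V)) : H →* Module.End (ZMod p) V where
  toFun h := ((h : V ≃ₗ[ZMod p] V) : V →ₗ[ZMod p] V)
  map_one' := rfl
  map_mul' _ _ := rfl

theorem rho_mul_apply (g h : H) (x : V) : rho H (g * h) x = rho H g (rho H h x) := rfl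

theorem rho_inv_apply (g : H) (x : V) : rho H g⁻¹ (rho H g x) = x :=
  (g : V ≃ₗ[ZMod p] V).symm_apply_apply x

theorem rho_apply_inv (g : H) (x : V) : rho H g (rho H g⁻¹ x) = x :=
  (g : V ≃ₗ[ZMod p] V).apply_symm_apply x

theorem finite_H (H : Subgroup (V ≃ₗ[ZMod p] V)) : Finite H :=
  Finite.of_injective (fun h : H => ⇑(h : V ≃ₗ[ZMod p] V))
    (fun _ _ e => Subtype.ext (LinearEquiv.ext (congrFun e)))

variable (hreg : ∀ v w : V, v ≠ 0 → w ≠ 0 → ∃! h : H, (h : V ≃ₗ[ZMod p] V) v = w)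

include hreg

theorem fpf : IsFpf (rho H) := fun g hg x hx => by
  by_contra h0
  exact hg ((hreg x x h0 h0).unique hx rfl)

theorem exists_map {v w : V} (hv : v ≠ 0) (hw : w ≠ 0) : ∃ h : H, rho H h v = w :=
  (hreg v w hv hw).exists

theorem card_H [Nontrivial V] : Nat.card H + 1 = Nat.card V := by
  classical
  obtain ⟨v, hv⟩ := exists_ne (0 : V)
  haveI := finite_H H
  have e : Nat.card H = Nat.card {w : V // w ≠ 0} := by
    refine Nat.card_eq_of_bijective (fun h : H => (⟨rho H h v, fun e => hv (by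
      rw [← rho_inv_apply h v, e, map_zero])⟩ : {w : V // w ≠ 0})) ⟨fun a b e => ?_, fun w => ?_⟩
    · have e' : rho H a v = rho H b v := congrArg Subtype.val e
      exact (hreg v (rho H b v) hv fun e0 => hv (by rw [← rho_inv_apply b v, e0, map_zero])).unique e' rfl
    · obtain ⟨h, hh⟩ := exists_map hreg hv w.2
      exact ⟨h, Subtype.ext hh⟩
  haveI := Fintype.ofFinite V
  rw [e, Nat.card_eq_fintype_card, Nat.card_eq_fintype_card, Fintype.card_subtype_compl,
    Fintype.card_subtype_eq, Nat.sub_add_cancel Fintype.card_pos]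

theorem hasFpf [Nontrivial V] : HasFpf H := hasFpf_of_linear (rho H) (fpf hreg)

omit hreg

/-- `W` is invariant under `A`. -/
def Inv (A : Subgroup H) (W : Submodule (ZMod p) V) : Prop := ∀ a ∈ A, ∀ v ∈ W, rho H a v ∈ W

/-- `W` is a minimal nonzero invariant subspace. -/
def MinInv (A : Subgroup H) (W : Submodule (ZMod p) V) : Prop :=
  W ≠ ⊥ ∧ Inv A W ∧ ∀ W' : Submodule (ZMod p) V, W' ≤ W → Inv A W' → W' = ⊥ ∨ W' = W

theorem exists_minInv (A : Subgroup H) {W₀ : Submodule (ZMod p) V} (h0 : W₀ ≠ ⊥) (hi : Inv A W₀) :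
    ∃ W, W ≤ W₀ ∧ MinInv A W := by
  haveI : Finite (Submodule (ZMod p) V) := Finite.of_injective (fun W => (W : Set V)) SetLike.coe_injective
  obtain ⟨W, ⟨hW0, hWi, hWle⟩, hmin⟩ := Set.exists_min_image
    {W : Submodule (ZMod p) V | W ≠ ⊥ ∧ Inv A W ∧ W ≤ W₀} (fun W => Nat.card W) (Set.toFinite _)
    ⟨W₀, h0, hi, le_rfl⟩
  refine ⟨W, hWle, hW0, hWi, fun W' hle hi' => ?_⟩
  by_cases hb : W' = ⊥
  · exact Or.inl hb
  refine Or.inr (SetLike.coe_injective (Set.eq_of_subset_of_ncard_le hle ?_ (Set.toFinite _)))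
  rw [← Nat.card_coe_set_eq, ← Nat.card_coe_set_eq]
  exact hmin W' ⟨hb, hi', hle.trans hWle⟩

theorem minInv_map {A : Subgroup H} [A.Normal] {W : Submodule (ZMod p) V} (hW : MinInv A W) (g : H) :
    MinInv A (W.map (rho H g)) := by
  obtain ⟨h0, hi, hmin⟩ := hW
  refine ⟨fun e => h0 ?_, ?_, fun W' hle hi' => ?_⟩
  · rw [Submodule.eq_bot_iff] at e ⊢
    intro x hx
    have := e _ ⟨x, hx, rfl⟩
    rw [← rho_inv_apply g x, this, map_zero]
  · rintro a ha _ ⟨x, hx, rfl⟩
    refine ⟨rho H (g⁻¹ * a * g) x, hi _ (by simpa using ‹A.Normal›.conj_mem a ha g⁻¹) x hx, ?_⟩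
    rw [← rho_mul_apply, ← rho_mul_apply]
    congr 2
    group
  · have hle' : W'.comap (rho H g) ≤ W := fun x hx => by
      obtain ⟨y, hy, hyx⟩ := hle hx
      rw [← rho_inv_apply g x, ← hyx, rho_inv_apply]; exact hy
    have hinv : Inv A (W'.comap (rho H g)) := fun a ha x hx => by
      have := hi' (g * a * g⁻¹) (‹A.Normal›.conj_mem a ha g) _ hx
      rw [← rho_mul_apply, inv_mul_cancel_right, rho_mul_apply] at this
      exact this
    rcases hmin _ hle' hinv with e | e
    · refine Or.inl ((Submodule.eq_bot_iff _).2 fun x hx => ?_)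
      have : rho H g⁻¹ x ∈ W'.comap (rho H g) := by
        rw [Submodule.mem_comap, rho_apply_inv]; exact hx
      rw [e, Submodule.mem_bot] at this
      rw [← rho_apply_inv g x, this, map_zero]
    · refine Or.inr (le_antisymm hle ?_)
      rintro _ ⟨x, hx, rfl⟩
      rw [SetLike.mem_coe, ← e] at hx
      exact hx

theorem finrank_map (W : Submodule (ZMod p) V) (g : H) :
    Module.finrank (ZMod p) (W.map (rho H g)) = Module.finrank (ZMod p) W :=
  (W.equivMapOfInjective (rho H g) fun a b e => by rw [← rho_inv_apply g a, e, rho_inv_apply]).finrank_eq.symm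

include hreg

theorem cyclic_of_abelian [Nontrivial V] (A : Subgroup H) (hA : IsMulCommutative A) : IsCyclic A := by
  haveI := finite_H H
  have hf := (fpf hreg).comp A.subtype A.subtype_injective
  haveI : IsZGroup A := ⟨fun q hq P => by
    haveI := Fact.mk hq
    rcases hf.isCyclic_or_quaternion (P : Subgroup A) P.isPGroup' with h | ⟨-, n, ⟨e⟩⟩
    · exact h
    · rcases Nat.eq_zero_or_pos n with rfl | hn
      · haveI : IsCyclic (QuaternionGroup (2 ^ 0)) := by
          rw [pow_zero]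
          exact isCyclic_of_orderOf_eq_card (QuaternionGroup.xa 0) (by
            rw [QuaternionGroup.orderOf_xa, Nat.card_eq_fintype_card, QuaternionGroup.card, mul_one])
        exact isCyclic_of_surjective e.symm e.symm.surjective
      · exfalso
        have h1 := congrArg e (mul_comm' (e.symm (QuaternionGroup.a 1)) (e.symm (QuaternionGroup.xa 0)))
        rw [map_mul, map_mul, e.apply_symm_apply, e.apply_symm_apply, QuaternionGroup.a_mul_xa,
          QuaternionGroup.xa_mul_a, QuaternionGroup.xa.injEq] at h1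
        have h2 : ((2 : ℕ) : ZMod (2 * 2 ^ n)) = 0 := by
          push_cast
          linear_combination -h1
        have h3 := Nat.le_of_dvd (by norm_num) ((ZMod.natCast_eq_zero_iff _ _).1 h2)
        have : 2 ≤ 2 ^ n := Nat.le_self_pow hn.ne' 2
        omega⟩
  haveI : Group.IsNilpotent A := by
    letI : CommGroup A := { (inferInstance : Group A) with mul_comm := mul_comm' }
    infer_instance
  infer_instance

/-- The main facts on a normal abelian subgroup with a proper invariant subspace. -/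
theorem abelian_facts [Nontrivial V] (A : Subgroup H) [A.Normal] (hA : IsMulCommutative A)
    {W : Submodule (ZMod p) V} (hW : MinInv A W) (hWt : W ≠ ⊤) :
    ∃ k m : ℕ, k = Module.finrank (ZMod p) W ∧ 1 ≤ k ∧ 2 ≤ m ∧ Nat.card V = (p ^ k) ^ m ∧
      2 * k ≤ Module.finrank (ZMod p) V ∧ Module.finrank (ZMod p) V = k * m ∧
      Nat.card A ∣ p ^ k - 1 ∧ (Subgroup.centralizer (A : Set H)).index ≤ k := by
  classical
  haveI := finite_H H
  set k := Module.finrank (ZMod p) W with hk
  -- two translates meet trivially or coincide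
  have hdisj : ∀ g l : H, ∀ x ∈ W.map (rho H g), x ∈ W.map (rho H l) → x ≠ 0 → W.map (rho H g) = W.map (rho H l) := by
    intro g l x hxg hxl hx
    obtain ⟨-, hgi, hgm⟩ := minInv_map hW g
    obtain ⟨-, hli, hlm⟩ := minInv_map hW l
    have hI : Inv A (W.map (rho H g) ⊓ W.map (rho H l)) := fun a ha v hv => ⟨hgi a ha v hv.1, hli a ha v hv.2⟩
    have h0 : W.map (rho H g) ⊓ W.map (rho H l) ≠ ⊥ := fun e =>
      hx ((Submodule.mem_bot (ZMod p)).1 (e ▸ Submodule.mem_inf.2 ⟨hxg, hxl⟩))
    exact ((hgm _ inf_le_left hI).resolve_left h0).symm.trans ((hlm _ inf_le_right hI).resolve_left h0)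
  obtain ⟨w₀, hw₀W, hw₀⟩ := Submodule.exists_mem_ne_zero_of_ne_bot hW.1
  have hcov : ∀ x : V, x ≠ 0 → ∃ g : H, x ∈ W.map (rho H g) := fun x hx => by
    obtain ⟨g, hg⟩ := exists_map hreg hw₀ hx
    exact ⟨g, w₀, hw₀W, hg⟩
  have hone : W.map (rho H 1) = W := Submodule.map_id W
  obtain ⟨x₀, -, hx₀⟩ := SetLike.exists_of_lt hWt.lt_top
  have hx₀0 : x₀ ≠ 0 := fun e => hx₀ (e ▸ W.zero_mem)
  obtain ⟨g₀, hg₀⟩ := hcov x₀ hx₀0
  have hk2 : 2 * k ≤ Module.finrank (ZMod p) V := by
    have hb : W ⊓ W.map (rho H g₀) = ⊥ := by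
      rw [Submodule.eq_bot_iff]
      intro x hx
      by_contra hx0
      have := hdisj 1 g₀ x (hone.symm ▸ hx.1) hx.2 hx0
      rw [hone] at this
      exact hx₀ (this ▸ hg₀)
    have h1 := Submodule.finrank_sup_add_finrank_inf_eq W (W.map (rho H g₀))
    rw [hb, finrank_bot, add_zero, finrank_map, ← hk] at h1
    have h2 := Submodule.finrank_le (W ⊔ W.map (rho H g₀))
    omega
  have hk1 : 1 ≤ k := Nat.pos_of_ne_zero fun e => hW.1 (Submodule.finrank_eq_zero.1 e)
  -- the enveloping algebra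
  let F : Subalgebra (ZMod p) (Module.End (ZMod p) V) := Algebra.adjoin (ZMod p) (rho H '' (A : Set H))
  have hFA : ∀ a ∈ A, rho H a ∈ F := fun a ha => Algebra.subset_adjoin ⟨a, ha, rfl⟩
  have hFW : ∀ f ∈ F, ∀ W' : Submodule (ZMod p) V, Inv A W' → ∀ x ∈ W', f x ∈ W' := by
    intro f hf W' hi
    induction hf using Algebra.adjoin_induction with
    | mem z hz => obtain ⟨a, ha, rfl⟩ := hz; exact hi a ha
    | algebraMap r => intro x hx; exact W'.smul_mem r hx
    | add z z' _ _ ih ih' => intro x hx; exact W'.add_mem (ih x hx) (ih' x hx)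
    | mul z z' _ _ ih ih' => intro x hx; exact ih _ (ih' x hx)
  have hFc : ∀ f ∈ F, ∀ f' ∈ F, f * f' = f' * f := by
    have h1 : ∀ f ∈ F, ∀ a ∈ A, f * rho H a = rho H a * f := by
      intro f hf
      induction hf using Algebra.adjoin_induction with
      | mem z hz =>
        obtain ⟨b, hb, rfl⟩ := hz
        intro a ha
        rw [← map_mul, ← map_mul]
        exact congrArg (rho H) (congrArg Subtype.val (mul_comm' (⟨b, hb⟩ : A) ⟨a, ha⟩))
      | algebraMap r => intro a _; exact Algebra.commutes r _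
      | add z z' _ _ ih ih' => intro a ha; rw [add_mul, mul_add, ih a ha, ih' a ha]
      | mul z z' _ _ ih ih' => intro a ha; rw [mul_assoc, ih' a ha, ← mul_assoc, ih a ha, mul_assoc]
    intro f hf f' hf'
    induction hf' using Algebra.adjoin_induction with
    | mem z hz => obtain ⟨a, ha, rfl⟩ := hz; exact h1 f hf a ha
    | algebraMap r => exact (Algebra.commutes r f).symm
    | add z z' _ _ ih ih' => rw [mul_add, add_mul, ih, ih']
    | mul z z' _ _ ih ih' => rw [← mul_assoc, ih, mul_assoc, ih', mul_assoc]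
  -- evaluation
  let ev : V → (F →ₗ[ZMod p] V) := fun x =>
    { toFun := fun f => (f : Module.End (ZMod p) V) x
      map_add' := fun _ _ => rfl
      map_smul' := fun _ _ => rfl }
  have hrange : ∀ (g : H) (x : V), x ∈ W.map (rho H g) → x ≠ 0 → LinearMap.range (ev x) = W.map (rho H g) := by
    intro g x hx hx0
    obtain ⟨-, hgi, hgm⟩ := minInv_map hW g
    refine (hgm _ ?_ ?_).resolve_left fun e => hx0 ?_
    · rintro _ ⟨f, rfl⟩; exact hFW f f.2 _ hgi x hx
    · rintro a ha _ ⟨f, rfl⟩; exact ⟨⟨rho H a * f, F.mul_mem (hFA a ha) f.2⟩, rfl⟩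
    · exact (Submodule.mem_bot (ZMod p)).1 (e ▸ (⟨⟨1, F.one_mem⟩, rfl⟩ : x ∈ LinearMap.range (ev x)))
  have hkerrank : ∀ x : V, x ≠ 0 → Module.finrank (ZMod p) (LinearMap.ker (ev x)) + k = Module.finrank (ZMod p) F := by
    intro x hx
    obtain ⟨g, hg⟩ := hcov x hx
    have := LinearMap.finrank_range_add_finrank_ker (ev x)
    rw [hrange g x hg hx, finrank_map, ← hk] at this
    omega
  have hinj : ∀ f ∈ F, ∀ x : V, x ≠ 0 → f x = 0 → f = 0 := by
    intro f hf x hx hfx
    obtain ⟨g, hg⟩ := hcov x hx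
    -- everything outside the translate of x is killed
    have hout : ∀ y, y ∉ W.map (rho H g) → f y = 0 := by
      intro y hy
      have hy0 : y ≠ 0 := fun e => hy (e ▸ Submodule.zero_mem _)
      obtain ⟨l, hl⟩ := hcov y hy0
      have hb : ∀ z, z ∈ W.map (rho H g) → z ∈ W.map (rho H l) → z = 0 := fun z h1 h2 => by
        by_contra hz
        exact hy (hdisj g l z h1 h2 hz ▸ hl)
      have hxy : x + y ≠ 0 := fun e => hy (by rw [eq_neg_of_add_eq_zero_right e]; exact Submodule.neg_mem _ hg)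
      have hsub : LinearMap.ker (ev (x + y)) ≤ LinearMap.ker (ev x) := fun f' hf' => by
        have e : (f' : Module.End (ZMod p) V) x + (f' : Module.End (ZMod p) V) y = 0 := by
          rw [← map_add]; exact LinearMap.mem_ker.1 hf'
        refine LinearMap.mem_ker.2 (hb _ (hFW f' f'.2 _ (minInv_map hW g).2.1 x hg) ?_)
        show (f' : Module.End (ZMod p) V) x ∈ _
        rw [eq_neg_of_add_eq_zero_left e]
        exact Submodule.neg_mem _ (hFW f' f'.2 _ (minInv_map hW l).2.1 y hl)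
      have heq : LinearMap.ker (ev (x + y)) = LinearMap.ker (ev x) :=
        Submodule.eq_of_le_of_finrank_eq hsub (by have := hkerrank _ hxy; have := hkerrank _ hx; omega)
      have hmem : (⟨f, hf⟩ : F) ∈ LinearMap.ker (ev x) := LinearMap.mem_ker.2 hfx
      rw [← heq, LinearMap.mem_ker] at hmem
      have h' : f (x + y) = 0 := hmem
      rwa [map_add, hfx, zero_add] at h'
    -- some vector is outside
    have hne : W.map (rho H g) ≠ ⊤ := fun e => by
      have := finrank_map W g
      rw [e, finrank_top, ← hk] at this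
      omega
    obtain ⟨z, -, hz⟩ := SetLike.exists_of_lt hne.lt_top
    refine LinearMap.ext fun y => ?_
    by_cases hy : y ∈ W.map (rho H g)
    · have h1 := hout (y + z) fun hyz => hz (by simpa using Submodule.sub_mem _ hyz hy)
      rw [map_add, hout z hz, add_zero] at h1
      simpa using h1
    · simpa using hout y hy
  -- F is a field
  haveI : Finite (Module.End (ZMod p) V) := Finite.of_injective (fun f => ⇑f) DFunLike.coe_injective
  haveI : Fintype F := Fintype.ofFinite F
  letI : CommRing F := { (inferInstance : Ring F) with mul_comm := fun f f' => Subtype.ext (hFc f f.2 f' f'.2) }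
  haveI : Nontrivial F := ⟨⟨0, 1, fun e => hw₀ (by
    have := congrArg (fun f : F => (f : Module.End (ZMod p) V) w₀) e
    exact this.symm)⟩⟩
  haveI : NoZeroDivisors F := ⟨fun {f f'} e => by
    by_cases h0 : f' = 0
    · exact Or.inr h0
    have h1 : (f' : Module.End (ZMod p) V) w₀ ≠ 0 := fun e' => h0 (Subtype.ext (hinj f' f'.2 w₀ hw₀ e'))
    exact Or.inl (Subtype.ext (hinj f f.2 _ h1 (congrArg (fun z : F => (z : Module.End (ZMod p) V) w₀) e)))⟩
  haveI : IsDomain F := NoZeroDivisors.to_isDomain F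
  letI : Field F := Fintype.fieldOfDomain F
  -- dimensions
  have hFk : Module.finrank (ZMod p) F = k := by
    have h1 := hkerrank w₀ hw₀
    have h2 : LinearMap.ker (ev w₀) = ⊥ := (Submodule.eq_bot_iff _).2 fun f hf =>
      Subtype.ext (hinj f f.2 w₀ hw₀ hf)
    rw [h2, finrank_bot, zero_add] at h1
    exact h1.symm
  letI : Module F V :=
    { smul := fun f x => (f : Module.End (ZMod p) V) x
      one_smul := fun _ => rfl
      mul_smul := fun _ _ _ => rfl
      smul_zero := fun f => map_zero (f : Module.End (ZMod p) V)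
      smul_add := fun f x y => map_add (f : Module.End (ZMod p) V) x y
      add_smul := fun _ _ _ => rfl
      zero_smul := fun _ => rfl }
  haveI : Module.Finite F V := Module.Finite.of_finite
  have hV : Nat.card V = Nat.card F ^ Module.finrank F V := Module.natCard_eq_pow_finrank
  have hF : Nat.card F = p ^ k := by
    rw [Module.natCard_eq_pow_finrank (K := ZMod p), Nat.card_zmod, hFk]
  have hVp : Nat.card V = p ^ Module.finrank (ZMod p) V := by
    rw [Module.natCard_eq_pow_finrank (K := ZMod p), Nat.card_zmod]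
  set m := Module.finrank F V with hm
  have hnkm : Module.finrank (ZMod p) V = k * m := by
    rw [hF, ← pow_mul] at hV
    exact Nat.pow_right_injective (Fact.out : p.Prime).two_le (hVp.symm.trans hV)
  refine ⟨k, m, rfl, hk1, ?_, hV.trans (by rw [hF]), hk2, hnkm, ?_, ?_⟩
  · by_contra h
    rw [hnkm] at hk2
    have : k * m ≤ k * 1 := Nat.mul_le_mul_left k (by omega)
    omega
  · -- A in the units
    let ι : A →* F :=
      { toFun := fun a => ⟨rho H (a : H), hFA a a.2⟩
        map_one' := Subtype.ext (map_one (rho H))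
        map_mul' := fun a b => Subtype.ext (map_mul (rho H) (a : H) b) }
    have hι : Function.Injective ι.toHomUnits := fun a b e => Subtype.ext ((fpf hreg).injective
      (congrArg (fun z : Fˣ => ((z : F) : Module.End (ZMod p) V)) e))
    have := Subgroup.card_dvd_of_injective _ hι
    rwa [Nat.card_units, hF] at this
  · -- the Galois bound
    have hconj : ∀ (h : H), ∀ f ∈ F, rho H h * f * rho H h⁻¹ ∈ F := by
      intro h f hf
      induction hf using Algebra.adjoin_induction with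
      | mem z hz =>
        obtain ⟨a, ha, rfl⟩ := hz
        rw [← map_mul, ← map_mul]
        exact hFA _ (‹A.Normal›.conj_mem a ha h)
      | algebraMap r =>
        rw [← Algebra.commutes r (rho H h), mul_assoc, ← map_mul, mul_inv_cancel, map_one, mul_one]
        exact F.algebraMap_mem r
      | add z z' _ _ ih ih' => rw [mul_add, add_mul]; exact F.add_mem ih ih'
      | mul z z' _ _ ih ih' =>
        have e : rho H h * (z * z') * rho H h⁻¹ = rho H h * z * rho H h⁻¹ * (rho H h * z' * rho H h⁻¹) := by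
          simp only [mul_assoc]
          rw [← mul_assoc (rho H h⁻¹) (rho H h), ← map_mul, inv_mul_cancel, map_one, one_mul]
        rw [e]; exact F.mul_mem ih ih'
    let Θ : H → (F →ₐ[ZMod p] F) := fun h =>
      { toFun := fun f => ⟨rho H h * f * rho H h⁻¹, hconj h f f.2⟩
        map_one' := Subtype.ext (by
          show rho H h * 1 * rho H h⁻¹ = 1
          rw [mul_one, ← map_mul, mul_inv_cancel, map_one])
        map_mul' := fun z z' => Subtype.ext (by
          show rho H h * ((z : Module.End (ZMod p) V) * z') * rho H h⁻¹ =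
            rho H h * z * rho H h⁻¹ * (rho H h * z' * rho H h⁻¹)
          simp only [mul_assoc]
          rw [← mul_assoc (rho H h⁻¹) (rho H h), ← map_mul, inv_mul_cancel, map_one, one_mul])
        map_zero' := Subtype.ext (by
          show rho H h * 0 * rho H h⁻¹ = 0
          rw [mul_zero, zero_mul])
        map_add' := fun z z' => Subtype.ext (by
          show rho H h * ((z : Module.End (ZMod p) V) + z') * rho H h⁻¹ = _
          rw [mul_add, add_mul]; rfl)
        commutes' := fun r => Subtype.ext (by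
          show rho H h * algebraMap (ZMod p) (Module.End (ZMod p) V) r * rho H h⁻¹ = algebraMap (ZMod p) _ r
          rw [← Algebra.commutes r (rho H h), mul_assoc, ← map_mul, mul_inv_cancel, map_one, mul_one]) }
    have hmul : ∀ g h, ∀ f, Θ (g * h) f = Θ g (Θ h f) := fun g h f => Subtype.ext (by
      show rho H (g * h) * f * rho H (g * h)⁻¹ = rho H g * (rho H h * f * rho H h⁻¹) * rho H g⁻¹
      rw [mul_inv_rev, map_mul, map_mul]; simp only [mul_assoc])
    have hone' : ∀ f, Θ 1 f = f := fun f => Subtype.ext (by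
      show rho H 1 * f * rho H (1 : H)⁻¹ = f
      rw [inv_one, map_one, one_mul, mul_one])
    let Φ : H →* Gal(F/ZMod p) :=
      { toFun := fun h => AlgEquiv.ofAlgHom (Θ h) (Θ h⁻¹)
          (AlgHom.ext fun f => by rw [AlgHom.comp_apply, ← hmul, mul_inv_cancel, hone']; rfl)
          (AlgHom.ext fun f => by rw [AlgHom.comp_apply, ← hmul, inv_mul_cancel, hone']; rfl)
        map_one' := AlgEquiv.ext hone'
        map_mul' := fun g h => AlgEquiv.ext (hmul g h) }
    have hker : Φ.ker ≤ Subgroup.centralizer (A : Set H) := by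
      intro h hh
      refine Subgroup.mem_centralizer_iff.2 fun a ha => ?_
      have e := congrArg (fun σ : Gal(F/ZMod p) => ((σ ⟨rho H a, hFA a ha⟩ : F) : Module.End (ZMod p) V)) hh
      have e' : rho H (h * a * h⁻¹) = rho H a := by rw [map_mul, map_mul]; exact e
      exact (mul_inv_eq_iff_eq_mul.1 ((fpf hreg).injective e')).symm
    refine le_trans (Nat.le_of_dvd (Nat.pos_of_ne_zero Subgroup.index_ne_zero_of_finite) (Subgroup.index_dvd_of_le hker)) ?_
    rw [Subgroup.index_ker, ← hFk]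
    exact (Nat.card_le_card_of_injective _ Subtype.val_injective).trans
      (Nat.card_eq_fintype_card.trans_le AlgEquiv.card_le)

omit hreg

theorem exists_proper (hI : ∀ A : Subgroup H, A.Normal → IsCyclic A → ∃ W : Submodule (ZMod p) V,
    W ≠ ⊥ ∧ W ≠ ⊤ ∧ ∀ a ∈ A, ∀ v ∈ W, ((a : H) : V ≃ₗ[ZMod p] V) v ∈ W) : Nontrivial V := by
  obtain ⟨W, h1, h2, -⟩ := hI ⊥ inferInstance inferInstance
  by_contra h
  rw [not_nontrivial_iff_subsingleton] at h
  exact h1 ((Submodule.eq_bot_iff _).2 fun x _ => Subsingleton.elim x 0)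

include hreg

theorem exists_W (hI : ∀ A : Subgroup H, A.Normal → IsCyclic A → ∃ W : Submodule (ZMod p) V,
    W ≠ ⊥ ∧ W ≠ ⊤ ∧ ∀ a ∈ A, ∀ v ∈ W, ((a : H) : V ≃ₗ[ZMod p] V) v ∈ W)
    (A : Subgroup H) (hAn : A.Normal) (hAc : IsMulCommutative A) :
    ∃ W : Submodule (ZMod p) V, MinInv A W ∧ W ≠ ⊤ := by
  haveI := exists_proper hI
  obtain ⟨W₀, h0, ht, hi⟩ := hI A hAn (cyclic_of_abelian hreg A hAc)
  obtain ⟨W, hle, hW⟩ := exists_minInv A h0 hi
  exact ⟨W, hW, fun e => ht (top_le_iff.1 (e ▸ hle))⟩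

theorem centralizer_not_comm [Nontrivial V] (A : Subgroup H) [A.Normal] (hAc : IsMulCommutative A)
    (hAmax : ∀ B : Subgroup H, B.Normal → IsMulCommutative B → A ≤ B → B = A)
    {W : Submodule (ZMod p) V} (hW : MinInv A W) (hWt : W ≠ ⊤) :
    A < Subgroup.centralizer (A : Set H) ∧ ¬ IsMulCommutative (Subgroup.centralizer (A : Set H)) := by
  haveI := finite_H H
  have hAC : A ≤ Subgroup.centralizer (A : Set H) := fun x hx => Subgroup.mem_centralizer_iff.2 fun y hy =>
    congrArg Subtype.val (mul_comm' (⟨y, hy⟩ : A) ⟨x, hx⟩)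
  suffices hne : Subgroup.centralizer (A : Set H) ≠ A by
    refine ⟨lt_of_le_of_ne hAC hne.symm, fun hc => hne (hAmax _ inferInstance hc hAC)⟩
  intro heq
  obtain ⟨k, m, -, hk1, hm, hV, -, -, hAd, hidx⟩ := abelian_facts hreg A hAc hW hWt
  rw [heq] at hidx
  have hp := (Fact.out : p.Prime).two_le
  have hq : p ^ k ≥ 2 := le_trans hp (Nat.le_self_pow (by omega) p)
  have h1 := card_H hreg
  rw [hV, ← Subgroup.card_mul_index A] at h1
  have h2 : Nat.card A ≤ p ^ k - 1 := Nat.le_of_dvd (by omega) hAd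
  have h3 : A.index ≤ p ^ k - 1 := hidx.trans (by
    have : k < p ^ k := Nat.lt_pow_self (by omega)
    omega)
  have h4 : (p ^ k) ^ 2 ≤ (p ^ k) ^ m := Nat.pow_le_pow_right (by omega) hm
  have h5 : Nat.card A * A.index ≤ (p ^ k - 1) * (p ^ k - 1) := Nat.mul_le_mul h2 h3
  obtain ⟨q, hq'⟩ : ∃ q, p ^ k = q + 1 := ⟨p ^ k - 1, by omega⟩
  rw [hq'] at h4 h5 h1
  simp only [Nat.add_sub_cancel] at h5
  nlinarith

/-- Commuting elements of order four generate the same subgroup. -/
theorem four_mem_zpowers [Nontrivial V] {x y : H} (hx : orderOf x = 4) (hy : orderOf y = 4) (hc : Commute x y) :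
    y ∈ Subgroup.zpowers x := by
  have hs : ∀ z : H, orderOf z = 4 → (z ^ 2) ^ 2 = 1 ∧ z ^ 2 ≠ 1 := fun z hz => by
    refine ⟨by rw [← pow_mul]; exact orderOf_dvd_iff_pow_eq_one.1 (dvd_of_eq hz), fun e => ?_⟩
    have := Nat.le_of_dvd (by norm_num) (orderOf_dvd_of_pow_eq_one e)
    omega
  have e2 : x ^ 2 = y ^ 2 := (fpf hreg).involution_unique (hs x hx).2 (hs x hx).1 (hs y hy).2 (hs y hy).1
  have e3 : (x⁻¹ * y) ^ 2 = 1 := by rw [hc.inv_left.mul_pow, inv_pow, e2, inv_mul_cancel]
  by_cases h1 : x⁻¹ * y = 1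
  · rw [← inv_mul_eq_one.1 h1]; exact Subgroup.mem_zpowers x
  · have h4 := (fpf hreg).involution_unique h1 e3 (hs x hx).2 (hs x hx).1
    rw [inv_mul_eq_iff_eq_mul.1 h4]
    exact mul_mem (Subgroup.mem_zpowers x) (pow_mem (Subgroup.mem_zpowers x) 2)

omit hreg

/-- A minimal non-abelian normal subgroup centralising `A`. -/
def MinNon (A N : Subgroup H) : Prop :=
  N.Normal ∧ N ≤ Subgroup.centralizer (A : Set H) ∧ ¬ IsMulCommutative N ∧
    ∀ M : Subgroup H, M.Normal → M ≤ N → ¬ IsMulCommutative M → M = N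

theorem exists_minNon (A : Subgroup H) {D : Subgroup H} (hDn : D.Normal) (hD : D ≤ Subgroup.centralizer (A : Set H))
    (hDc : ¬ IsMulCommutative D) : ∃ N, N ≤ D ∧ MinNon A N := by
  haveI := finite_H H
  obtain ⟨N, ⟨h1, h2, h3⟩, hmin⟩ := Set.exists_min_image
    {N : Subgroup H | N.Normal ∧ N ≤ D ∧ ¬ IsMulCommutative N} (fun N : Subgroup H => Nat.card N) (Set.toFinite _)
    ⟨D, hDn, le_rfl, hDc⟩
  exact ⟨N, h2, h1, h2.trans hD, h3, fun M hM hle hc =>
    Subgroup.eq_of_le_of_card_ge hle (hmin M ⟨hM, hle.trans h2, hc⟩)⟩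

variable {A N : Subgroup H} [A.Normal] (hAc : IsMulCommutative A)
  (hAmax : ∀ B : Subgroup H, B.Normal → IsMulCommutative B → A ≤ B → B = A) (hN : MinNon A N)

include hAc hAmax hN

theorem le_A_of_lt {M : Subgroup H} [M.Normal] (hle : M ≤ N) (hne : M ≠ N) : M ≤ A := by
  have hMc : IsMulCommutative M := by
    by_contra h; exact hne (hN.2.2.2 M inferInstance hle h)
  have h1 : M ⊔ A ≤ Subgroup.centralizer ((M ⊔ A : Subgroup H) : Set H) := by
    have hMA : ∀ x ∈ M, ∀ a ∈ A, x * a = a * x := fun x hx a ha =>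
      (Subgroup.mem_centralizer_iff.1 (hN.2.1 (hle hx)) a ha).symm
    rw [Subgroup.sup_eq_closure M A, Subgroup.centralizer_closure, Subgroup.closure_le]
    intro z hz
    refine Subgroup.mem_centralizer_iff.2 fun y hy => ?_
    rcases hz with hz | hz <;> rcases hy with hy | hy
    · exact congrArg Subtype.val (mul_comm' (⟨y, hy⟩ : M) ⟨z, hz⟩)
    · exact (hMA z hz y hy).symm
    · exact hMA y hy z hz
    · exact congrArg Subtype.val (mul_comm' (⟨y, hy⟩ : A) ⟨z, hz⟩)
  have hc : IsMulCommutative (M ⊔ A : Subgroup H) := ⟨⟨fun x y => Subtype.ext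
    (Subgroup.mem_centralizer_iff.1 (h1 y.2) x x.2)⟩⟩
  exact (hAmax _ (Subgroup.sup_normal M A) hc le_sup_right) ▸ le_sup_left

include hreg

theorem minNon_iso [Nontrivial V] : Nonempty (N ≃* QuaternionGroup 2) ∨ Nonempty (N ≃* SL25.SL) := by
  classical
  haveI := finite_H H
  haveI := hN.1
  have hNA : ∀ x ∈ A, ∀ y ∈ N, x * y = y * x := fun x hx y hy =>
    Subgroup.mem_centralizer_iff.1 (hN.2.1 hy) x hx
  have hcen : ∀ x ∈ N, x ∈ A → ∀ y ∈ N, x * y = y * x := fun x _ hx y hy => hNA x hx y hy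
  have hDn : (⁅N, N⁆ : Subgroup H).Normal := inferInstance
  have hDle : ⁅N, N⁆ ≤ N := Subgroup.commutator_le_self N
  have hf := (fpf hreg).comp N.subtype N.subtype_injective
  by_cases hperf : ⁅N, N⁆ = N
  · right
    haveI : Group.IsPerfect N := ⟨by
      apply Subgroup.map_injective N.subtype_injective
      rw [N.map_subtype_commutator, hperf, ← MonoidHom.range_eq_map, Subgroup.range_subtype]⟩
    haveI : Nontrivial N := (Subgroup.nontrivial_iff_ne_bot N).2 fun e => hN.2.2.1 (e ▸ inferInstance)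
    exact ((hasFpf hreg).comp N.subtype N.subtype_injective).perfect_iso
  left
  have hDA := le_A_of_lt hAc hAmax hN hDle hperf
  haveI : Group.IsNilpotent N := by
    refine Subgroup.isNilpotent_of_ker_le_center (Abelianization.of : N →* Abelianization N) ?_
    rw [Abelianization.ker_of]
    intro y hy
    refine Subgroup.mem_center_iff.2 fun z => Subtype.ext ?_
    have hy' : (y : H) ∈ ⁅N, N⁆ := by rw [← N.map_subtype_commutator]; exact ⟨y, hy, rfl⟩
    exact (hcen y y.2 (hDA hy') z z.2).symm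
  -- some Sylow subgroup is everything
  obtain ⟨q, hq, P, hP⟩ : ∃ (q : ℕ) (_ : Fact q.Prime) (P : Sylow q N), (P : Subgroup N) = ⊤ := by
    by_contra hall
    push Not at hall
    refine hN.2.2.1 ?_
    have hsy : ∀ (q : ℕ) [Fact q.Prime] (P : Sylow q N), (P : Subgroup N) ≤ Subgroup.center N := by
      intro q _ P
      haveI : (P : Subgroup N).Normal := inferInstance
      haveI : (P : Subgroup N).Characteristic := P.characteristic_of_normal inferInstance
      have hne : (P : Subgroup N).map N.subtype ≠ N := fun e => hall q inferInstance P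
        (Subgroup.map_injective N.subtype_injective (by rw [e, ← MonoidHom.range_eq_map, Subgroup.range_subtype]))
      have hle := le_A_of_lt hAc hAmax hN (Subgroup.map_subtype_le (P : Subgroup N)) hne
      intro y hy
      exact Subgroup.mem_center_iff.2 fun z => Subtype.ext (hcen y y.2 (hle ⟨y, hy, rfl⟩) z z.2).symm
    have htop : Subgroup.center N = ⊤ := by
      refine Subgroup.eq_top_of_card_eq _ (Nat.eq_of_factorization_eq Nat.card_pos.ne' Nat.card_pos.ne' fun q => ?_)
      by_cases hq : q.Prime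
      · haveI := Fact.mk hq
        let P : Sylow q N := default
        refine le_antisymm ((Nat.factorization_le_iff_dvd Nat.card_pos.ne' Nat.card_pos.ne').2
          (Subgroup.card_subgroup_dvd_card _) q) ?_
        have h1 := Subgroup.card_dvd_of_le (hsy q P)
        rw [P.card_eq_multiplicity] at h1
        exact (hq.pow_dvd_iff_le_factorization Nat.card_pos.ne').1 h1
      · simp [Nat.factorization_eq_zero_of_not_prime _ hq]
    exact ⟨⟨fun x y => (Subgroup.mem_center_iff.1 (htop ▸ Subgroup.mem_top y) x)⟩⟩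
  haveI := hq
  have hNp : IsPGroup q (⊤ : Subgroup N) := hP ▸ P.isPGroup'
  rcases hf.isCyclic_or_quaternion (⊤ : Subgroup N) hNp with hc | ⟨-, n, ⟨e⟩⟩
  · haveI := hc
    haveI : IsCyclic N := isCyclic_of_surjective _ Subgroup.topEquiv.surjective
    exact absurd IsCyclic.isMulCommutative hN.2.2.1
  let e' : N ≃* QuaternionGroup (2 ^ n) := Subgroup.topEquiv.symm.trans e
  rcases Nat.lt_or_ge n 2 with hn | hn
  · interval_cases n
    · exfalso
      refine hN.2.2.1 ⟨⟨fun x y => e'.injective ?_⟩⟩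
      rw [map_mul, map_mul]
      have hc : ∀ a b : QuaternionGroup (2 ^ 0), a * b = b * a := by decide +kernel
      exact hc _ _
    · exact ⟨e'⟩
  exfalso
  -- the square of a generator is a commutator, hence central
  set a1 := e'.symm (QuaternionGroup.a 1)
  set x0 := e'.symm (QuaternionGroup.xa 0)
  have hmem : (⁅a1, x0⁆ : N) ∈ Subgroup.center N := Subgroup.mem_center_iff.2 fun z => Subtype.ext
    (hcen _ (⁅a1, x0⁆ : N).2 (hDA (by
      rw [← N.map_subtype_commutator]
      exact ⟨_, Subgroup.commutator_mem_commutator (Subgroup.mem_top a1) (Subgroup.mem_top x0), rfl⟩)) z z.2).symm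
  have hc := congrArg e' (Subgroup.mem_center_iff.1 hmem x0)
  rw [map_mul, map_mul, map_commutatorElement, e'.apply_symm_apply, e'.apply_symm_apply, commutatorElement_def] at hc
  have hia : ∀ i : ZMod (2 * 2 ^ n), (QuaternionGroup.a i)⁻¹ = QuaternionGroup.a (-i) := fun _ => rfl
  have hix : ∀ i : ZMod (2 * 2 ^ n), (QuaternionGroup.xa i)⁻¹ = QuaternionGroup.xa (((2 ^ n : ℕ) : ZMod (2 * 2 ^ n)) + i) := fun _ => rfl
  simp only [hia, hix, QuaternionGroup.a_mul_xa, QuaternionGroup.xa_mul_a,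
    QuaternionGroup.xa_mul_xa, QuaternionGroup.a_mul_a, QuaternionGroup.xa.injEq] at hc
  have h4 : ((4 : ℕ) : ZMod (2 * 2 ^ n)) = 0 := by
    have h0 : (2 : ZMod (2 * 2 ^ n)) * ((2 ^ n : ℕ) : ZMod (2 * 2 ^ n)) = 0 := by
      exact_mod_cast ZMod.natCast_self (2 * 2 ^ n)
    push_cast at hc h0 ⊢
    linear_combination hc - 2 * h0
  have h3 := Nat.le_of_dvd (by norm_num) ((ZMod.natCast_eq_zero_iff _ _).1 h4)
  have : 2 ^ 2 ≤ 2 ^ n := Nat.pow_le_pow_right (by norm_num) hn
  omega

theorem exists_two_four [Nontrivial V] : ∃ x y : H, x ∈ N ∧ y ∈ N ∧ orderOf x = 4 ∧ orderOf y = 4 ∧ x * y ≠ y * x := by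
  rcases minNon_iso hreg hAc hAmax hN with ⟨⟨e⟩⟩ | ⟨⟨e⟩⟩
  · refine ⟨e.symm (.a 1), e.symm (.xa 0), (e.symm (.a 1)).2, (e.symm (.xa 0)).2, ?_, ?_, fun h => ?_⟩
    · rw [Subgroup.orderOf_coe, MulEquiv.orderOf_eq]; exact QuaternionGroup.orderOf_a_one
    · rw [Subgroup.orderOf_coe, MulEquiv.orderOf_eq]; exact QuaternionGroup.orderOf_xa 0
    · have h' := congrArg e (show e.symm (.a 1) * e.symm (.xa 0) = e.symm (.xa 0) * e.symm (.a 1) from Subtype.ext h)
      simp only [map_mul, e.apply_symm_apply] at h'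
      exact absurd h' (by decide +kernel)
  · let i : SL25.SL := ⟨!![0, -1; 1, 0], by decide +kernel⟩
    let j : SL25.SL := ⟨!![2, 0; 0, 3], by decide +kernel⟩
    have h4 : ∀ g : SL25.SL, g ^ 2 ≠ 1 → g ^ 4 = 1 → orderOf g = 4 := fun g h1 h2 =>
      orderOf_eq_prime_pow (p := 2) (n := 1) (by simpa using h1) (by simpa using h2)
    refine ⟨e.symm i, e.symm j, (e.symm i).2, (e.symm j).2, ?_, ?_, fun h => ?_⟩
    · rw [Subgroup.orderOf_coe, MulEquiv.orderOf_eq]; exact h4 _ (by decide +kernel) (by decide +kernel)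
    · rw [Subgroup.orderOf_coe, MulEquiv.orderOf_eq]; exact h4 _ (by decide +kernel) (by decide +kernel)
    · have h' := congrArg e (show e.symm i * e.symm j = e.symm j * e.symm i from Subtype.ext h)
      simp only [map_mul, e.apply_symm_apply] at h'
      exact absurd h' (by decide +kernel)

theorem inf_centralizer [Nontrivial V] :
    Subgroup.centralizer (A : Set H) ⊓ Subgroup.centralizer (N : Set H) = A := by
  haveI := hN.1
  set D := Subgroup.centralizer (A : Set H) ⊓ Subgroup.centralizer (N : Set H) with hD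
  have hAD : A ≤ D := fun x hx => Subgroup.mem_inf.2 ⟨Subgroup.mem_centralizer_iff.2 fun y hy =>
    congrArg Subtype.val (mul_comm' (⟨y, hy⟩ : A) ⟨x, hx⟩), Subgroup.mem_centralizer_iff.2 fun y hy =>
    (Subgroup.mem_centralizer_iff.1 (hN.2.1 hy) x hx).symm⟩
  refine hAmax D inferInstance ?_ hAD
  by_contra hDc
  obtain ⟨N', hN'D, hN'⟩ := exists_minNon A (inferInstance : D.Normal) inf_le_left hDc
  obtain ⟨x, y, hx, hy, hxo, hyo, hxy⟩ := exists_two_four hreg hAc hAmax hN
  obtain ⟨z, -, hz, -, hzo, -, -⟩ := exists_two_four hreg hAc hAmax hN'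
  have hzc : ∀ w ∈ N, w * z = z * w := fun w hw =>
    Subgroup.mem_centralizer_iff.1 (Subgroup.mem_inf.1 (hN'D hz)).2 w hw
  have h1 := four_mem_zpowers hreg hzo hxo (hzc x hx).symm
  have h2 := four_mem_zpowers hreg hzo hyo (hzc y hy).symm
  obtain ⟨i, rfl⟩ := Subgroup.mem_zpowers_iff.1 h1
  obtain ⟨j, rfl⟩ := Subgroup.mem_zpowers_iff.1 h2
  exact hxy ((Commute.refl z).zpow_zpow i j).eq

/-- The index of `A` in its centralizer. -/
theorem relIndex_dvd [Nontrivial V] :
    (Nonempty (N ≃* QuaternionGroup 2) → A.relIndex (Subgroup.centralizer (A : Set H)) ∣ 24) ∧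
    (Nonempty (N ≃* SL25.SL) → A.relIndex (Subgroup.centralizer (A : Set H)) ∣ 120) := by
  haveI := hN.1
  haveI := finite_H H
  set C := Subgroup.centralizer (A : Set H) with hC
  have key : ∀ {X : Type} [Group X] [Finite X] (f : H →* X), f.ker = Subgroup.centralizer (N : Set H) →
      A.relIndex C ∣ Nat.card X := fun f hf => by
    have e : A.relIndex C = f.ker.relIndex C := by
      rw [hf]
      conv_lhs => rw [← show C ⊓ Subgroup.centralizer (N : Set H) = A from inf_centralizer hreg hAc hAmax hN]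
      rw [Subgroup.inf_relIndex_left]
    rw [e, Subgroup.relIndex_ker]
    exact Subgroup.card_subgroup_dvd_card _
  refine ⟨fun ⟨e⟩ => ?_, fun hS => ?_⟩
  · obtain ⟨φ, hφ⟩ := aut_perm
    let f : H →* Equiv.Perm (Fin 4) := φ.comp ((MulAut.congr e).toMonoidHom.comp (MulAut.conjNormal (H := N)))
    have := key f (by
      ext h
      rw [MonoidHom.mem_ker]
      constructor
      · intro hh
        have h1 : MulAut.congr e (MulAut.conjNormal (H := N) h) = 1 := hφ (hh.trans (map_one φ).symm)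
        rw [MulEquiv.map_eq_one_iff] at h1
        refine Subgroup.mem_centralizer_iff.2 fun y hy => ?_
        have h2 : ((MulAut.conjNormal (H := N) h) ⟨y, hy⟩ : H) = y := by rw [h1]; rfl
        rw [MulAut.conjNormal_apply, mul_inv_eq_iff_eq_mul] at h2
        exact h2.symm
      · intro hh
        have h1 : MulAut.conjNormal (H := N) h = 1 := MulEquiv.ext fun y => Subtype.ext (by
          rw [MulAut.conjNormal_apply]
          show h * (y : H) * h⁻¹ = y
          rw [← Subgroup.mem_centralizer_iff.1 hh y y.2, mul_inv_cancel_right])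
        show φ (MulAut.congr e (MulAut.conjNormal (H := N) h)) = 1
        rw [h1, map_one, map_one])
    rwa [Nat.card_perm, Nat.card_eq_fintype_card, Fintype.card_fin] at this
  · refine (hasFpf hreg).elim fun ρ hρ => ?_
    obtain ⟨f, hf, -⟩ := hρ.five_hom N hS
    have := key f hf
    rwa [Nat.card_perm, Nat.card_eq_fintype_card, Fintype.card_fin] at this

/-- The numerical bound. -/
theorem count [Nontrivial V] {W : Submodule (ZMod p) V} (hW : MinInv A W) (hWt : W ≠ ⊤) :
    ∃ k m i : ℕ, 1 ≤ k ∧ 2 ≤ m ∧ i ≤ k ∧ i = (Subgroup.centralizer (A : Set H)).index ∧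
      Nat.card V = (p ^ k) ^ m ∧ Module.finrank (ZMod p) V = k * m ∧
      (Nonempty (N ≃* QuaternionGroup 2) → (p ^ k) ^ m - 1 ∣ (p ^ k - 1) * (24 * i) ∧ p ≠ 2) ∧
      (Nonempty (N ≃* SL25.SL) → (p ^ k) ^ m - 1 ∣ (p ^ k - 1) * (120 * i) ∧ p ≠ 2 ∧ p ≠ 3 ∧ p ≠ 5) := by
  haveI := finite_H H
  obtain ⟨k, m, -, hk1, hm, hV, -, hn, hAd, hidx⟩ := abelian_facts hreg A hAc hW hWt
  obtain ⟨hQ, hS⟩ := relIndex_dvd hreg hAc hAmax hN
  set C := Subgroup.centralizer (A : Set H) with hC
  have hcard : Nat.card H = (p ^ k) ^ m - 1 := by have := card_H hreg; omega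
  have hAC : A ≤ C := fun x hx => Subgroup.mem_centralizer_iff.2 fun y hy =>
    congrArg Subtype.val (mul_comm' (⟨y, hy⟩ : A) ⟨x, hx⟩)
  have e : Nat.card H = Nat.card A * (A.relIndex C * C.index) := by
    rw [Subgroup.relIndex_mul_index hAC, Subgroup.card_mul_index]
  have hpd : ∀ r, r ∣ Nat.card N → p ≠ r := by
    rintro r hr rfl
    have h1 : p ∣ Nat.card H := hr.trans (Subgroup.card_subgroup_dvd_card N)
    rw [hcard] at h1
    have h2 : p ∣ (p ^ k) ^ m := dvd_pow (dvd_pow_self p (by omega)) (by omega)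
    have h3 := Nat.dvd_sub h2 h1
    have hpos : 0 < (p ^ k) ^ m := pow_pos (pow_pos (Fact.out : p.Prime).pos _) _
    rw [show (p ^ k) ^ m - ((p ^ k) ^ m - 1) = 1 by omega] at h3
    exact (Fact.out : p.Prime).ne_one (Nat.dvd_one.1 h3)
  refine ⟨k, m, C.index, hk1, hm, hidx, rfl, hV, hn, fun h => ⟨?_, ?_⟩, fun h => ⟨?_, ?_, ?_, ?_⟩⟩
  · rw [← hcard, e]; exact Nat.mul_dvd_mul hAd (Nat.mul_dvd_mul_right (hQ h) _)
  · obtain ⟨f⟩ := h
    refine hpd 2 ?_
    rw [Nat.card_congr f.toEquiv, Nat.card_eq_fintype_card, QuaternionGroup.card]; norm_num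
  · rw [← hcard, e]; exact Nat.mul_dvd_mul hAd (Nat.mul_dvd_mul_right (hS h) _)
  all_goals
    obtain ⟨f⟩ := h
    refine hpd _ ?_
    rw [Nat.card_congr f.toEquiv, Nat.card_eq_fintype_card]
    decide +kernel

end Cfsg.Agent.Perm.Fpf.Semilinear

namespace Cfsg.Agent.Perm.Fpf.Semilinear

theorem small_pow (k : ℕ) : (5 ≤ k → 24 * k < 3 ^ k) ∧ (4 ≤ k → 120 * k < 7 ^ k) := by
  induction k with
  | zero => omega
  | succ k ih =>
    rw [pow_succ, pow_succ]
    refine ⟨fun h => ?_, fun h => ?_⟩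
    · rcases (show k = 4 ∨ 5 ≤ k by omega) with rfl | h'
      · norm_num
      · have := ih.1 h'; omega
    · rcases (show k = 3 ∨ 4 ≤ k by omega) with rfl | h'
      · norm_num
      · have := ih.2 h'; omega

theorem pow_bound {q m c i k : ℕ} (hq : 2 ≤ q) (hm : 2 ≤ m) (hi : i ≤ k)
    (h : q ^ m - 1 ∣ (q - 1) * (c * i)) (hc : c * i ≠ 0) : q ^ (m - 1) ≤ c * k := by
  have h1 := Nat.le_of_dvd (Nat.mul_pos (by omega) (Nat.pos_of_ne_zero hc)) h
  have h2 : (q - 1) * q ^ (m - 1) ≤ q ^ m - 1 := by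
    have hpos : 0 < q ^ (m - 1) := pow_pos (by omega) _
    rw [Nat.sub_mul, one_mul, ← pow_succ', show m - 1 + 1 = m by omega]
    omega
  exact (Nat.le_of_mul_le_mul_left (h2.trans h1) (by omega)).trans (Nat.mul_le_mul_left c hi)

theorem numbers_quat {p k m i : ℕ} (hp : p.Prime) (hp2 : p ≠ 2) (hk : 1 ≤ k) (hm : 2 ≤ m)
    (hi0 : i ≠ 0) (hi : i ≤ k) (h : (p ^ k) ^ m - 1 ∣ (p ^ k - 1) * (24 * i)) :
    k = 1 ∧ m = 2 ∧ (p = 3 ∨ p = 5 ∨ p = 7 ∨ p = 11 ∨ p = 23) := by
  have hp3 : 3 ≤ p := by have := hp.two_le; omega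
  have hq : 3 ≤ p ^ k := hp3.trans (Nat.le_self_pow (by omega) p)
  have hb := pow_bound (by omega) hm hi h (by omega)
  have h3 : 3 ^ k ≤ (p ^ k) ^ (m - 1) :=
    (Nat.pow_le_pow_left hp3 k).trans (Nat.le_self_pow (by omega) _)
  have hk4 : k ≤ 4 := by
    by_contra hk4
    have := (small_pow k).1 (by omega)
    omega
  have hm5 : m ≤ 5 := by
    by_contra hm5
    have : 3 ^ 5 ≤ (p ^ k) ^ (m - 1) :=
      (Nat.pow_le_pow_left hq 5).trans (Nat.pow_le_pow_right (by omega) (by omega))
    omega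
  have hp96 : p < 97 := by
    have := (Nat.le_self_pow (show k ≠ 0 by omega) p).trans (Nat.le_self_pow (show m - 1 ≠ 0 by omega) (p ^ k))
    omega
  have key : ∀ p < 97, (p % 2 = 1 ∧ 3 ≤ p ∧ (p = 3 ∨ p % 3 ≠ 0)) → ∀ k < 5, ∀ m < 6, ∀ i < 5,
      (1 ≤ k ∧ 2 ≤ m ∧ i ≠ 0 ∧ i ≤ k ∧ (p ^ k) ^ m - 1 ∣ (p ^ k - 1) * (24 * i)) →
      k = 1 ∧ m = 2 ∧ (p = 3 ∨ p = 5 ∨ p = 7 ∨ p = 11 ∨ p = 23) := by
    set_option synthInstance.maxSize 4000 in decide +kernel
  refine key p hp96 ⟨(hp.eq_two_or_odd).resolve_left hp2, hp3, ?_⟩ k (by omega) m (by omega) i (by omega) ⟨hk, hm, hi0, hi, h⟩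
  by_cases h3 : p = 3
  · exact Or.inl h3
  · exact Or.inr fun e => h3 ((Nat.prime_dvd_prime_iff_eq Nat.prime_three hp).1 (Nat.dvd_of_mod_eq_zero e)).symm

theorem numbers_sl {p k m i : ℕ} (hp : p.Prime) (h2 : p ≠ 2) (h3 : p ≠ 3) (h5 : p ≠ 5) (hk : 1 ≤ k) (hm : 2 ≤ m)
    (hi0 : i ≠ 0) (hi : i ≤ k) (h : (p ^ k) ^ m - 1 ∣ (p ^ k - 1) * (120 * i)) : k = 1 ∧ m = 2 := by
  have hp7 : 7 ≤ p := by
    have := hp.two_le
    by_contra hlt
    interval_cases p <;> first | omega | norm_num at hp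
  have hq : 7 ≤ p ^ k := hp7.trans (Nat.le_self_pow (by omega) p)
  have hb := pow_bound (by omega) hm hi h (by omega)
  have h7 : 7 ^ k ≤ (p ^ k) ^ (m - 1) :=
    (Nat.pow_le_pow_left hp7 k).trans (Nat.le_self_pow (by omega) _)
  have hk3 : k ≤ 3 := by
    by_contra hk3
    have := (small_pow k).2 (by omega)
    omega
  have hm4 : m ≤ 4 := by
    by_contra hm4
    have : 7 ^ 4 ≤ (p ^ k) ^ (m - 1) :=
      (Nat.pow_le_pow_left hq 4).trans (Nat.pow_le_pow_right (by omega) (by omega))
    omega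
  have hp121 : p < 361 := by
    have := (Nat.le_self_pow (show k ≠ 0 by omega) p).trans (Nat.le_self_pow (show m - 1 ≠ 0 by omega) (p ^ k))
    omega
  have key : ∀ p < 361, (7 ≤ p ∧ p % 2 = 1) → ∀ k < 4, ∀ m < 5, ∀ i < 4,
      (1 ≤ k ∧ 2 ≤ m ∧ i ≠ 0 ∧ i ≤ k ∧ (p ^ k) ^ m - 1 ∣ (p ^ k - 1) * (120 * i)) → k = 1 ∧ m = 2 := by
    set_option synthInstance.maxSize 4000 in decide +kernel
  exact key p hp121 ⟨hp7, (hp.eq_two_or_odd).resolve_left h2⟩ k (by omega) m (by omega) i (by omega) ⟨hk, hm, hi0, hi, h⟩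

end Cfsg.Agent.Perm.Fpf.Semilinear
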