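import Cfsg.Agent.Lib.Perm.Fpf.Entry
import Cfsg.Agent.Lib.Solv.Cores
import Cfsg.Agent.Lib.Fusion.AbelianHall

/-!
Solvable groups with a fixed-point-free representation.
-/

set_option autoImplicit false
set_option linter.style.haveILetI false

namespace Cfsg.Agent.Perm.Fpf

universe u v w

variable {G : Type w} [Group G]

/-- An element is the product of powers of itself of odd and of two-power order. -/
theorem exists_odd_two_parts [Finite G] (x : G) :
    ∃ (a b : G) (k : ℕ), a ∈ Subgroup.zpowers x ∧ b ∈ Subgroup.zpowers x ∧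
      (orderOf a).Coprime 2 ∧ b ^ 2 ^ k = 1 ∧ x = a * b := by
  obtain ⟨k, m, hm, hn⟩ := Nat.exists_eq_pow_mul_and_not_dvd (orderOf_pos x).ne' 2 (by norm_num)
  have hm0 : m ≠ 0 := fun e => hm (e ▸ dvd_zero 2)
  have hco : Nat.Coprime (2 ^ k) m :=
    Nat.Coprime.pow_left k ((Nat.prime_two.coprime_iff_not_dvd).2 hm)
  have hb : (1 : ℤ) = (2 ^ k : ℕ) * Nat.gcdA (2 ^ k) m + m * Nat.gcdB (2 ^ k) m := by
    rw [← Nat.gcd_eq_gcd_ab, hco.gcd_eq_one]; norm_num
  refine ⟨x ^ ((2 ^ k : ℕ) * Nat.gcdA (2 ^ k) m : ℤ), x ^ ((m : ℤ) * Nat.gcdB (2 ^ k) m), k,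
    Subgroup.zpow_mem_zpowers _ _, Subgroup.zpow_mem_zpowers _ _, ?_, ?_, ?_⟩
  · have h1 : (x ^ ((2 ^ k : ℕ) * Nat.gcdA (2 ^ k) m : ℤ)) ^ m = 1 := by
      rw [← zpow_natCast, ← zpow_mul, mul_comm, ← mul_assoc, ← Nat.cast_mul,
        mul_comm m, ← hn, zpow_mul, zpow_natCast, pow_orderOf_eq_one, one_zpow]
    exact (((Nat.prime_two.coprime_iff_not_dvd).2 hm).symm).coprime_dvd_left
      (orderOf_dvd_of_pow_eq_one h1)
  · rw [← zpow_natCast, ← zpow_mul, mul_comm, ← mul_assoc, ← Nat.cast_mul, ← hn, zpow_mul,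
      zpow_natCast, pow_orderOf_eq_one, one_zpow]
  · rw [← zpow_add, ← hb, zpow_one]

theorem two_mem_core [Finite G] {N : Subgroup G} [N.Normal] (hN : Group.IsNilpotent N) {x : G}
    (hx : x ∈ N) {k : ℕ} (hk : x ^ 2 ^ k = 1) : x ∈ Cfsg.pCore 2 G := by
  haveI := Fact.mk Nat.prime_two
  haveI := hN
  have hp : IsPGroup 2 (Subgroup.zpowers (⟨x, hx⟩ : N)) := by
    rintro ⟨y, n, rfl⟩
    refine ⟨k, Subtype.ext (Subtype.ext ?_)⟩
    show (x ^ n) ^ 2 ^ k = 1
    rw [← zpow_natCast, ← zpow_mul, mul_comm, zpow_mul, zpow_natCast, hk, one_zpow]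
  obtain ⟨P, hP⟩ := hp.exists_le_sylow
  haveI : (P : Subgroup N).Characteristic := P.characteristic_of_normal inferInstance
  exact Cfsg.Agent.Solv.normal_le_pCore (P.isPGroup'.map N.subtype)
    ⟨⟨x, hx⟩, hP (Subgroup.mem_zpowers _), rfl⟩

variable {K : Type u} [Field K] {V : Type v} [AddCommGroup V] [Module K V]
  {ρ : G →* Module.End K V} [Nontrivial V] [Finite G]

theorem IsFpf.odd_part_cyclic (h : IsFpf ρ) (N : Subgroup G) [Group.IsNilpotent N] :
    IsCyclic (Cfsg.pResidual 2 N) := by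
  haveI := Fact.mk Nat.prime_two
  have hc := Cfsg.Agent.Fusion.hnpc_iff.1 (Cfsg.Agent.Fusion.hnpc_of_isNilpotent (G := N) (p := 2))
  haveI : IsZGroup (Cfsg.pResidual 2 N) :=
    (h.comp N.subtype N.subtype_injective).isZGroup_of_odd
      (Cfsg.Agent.Fusion.coprime_card_iff_not_dvd.1 hc)
  infer_instance

/-- A solvable group whose elements of odd order centralise the two-core is two-nilpotent. -/
theorem IsFpf.hnpc_of_core_centralized (h : IsFpf ρ) [Group.IsSolvable G]
    (hcen : ∀ g : G, (orderOf g).Coprime 2 → g ∈ Subgroup.centralizer (Cfsg.pCore 2 G : Set G)) :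
    Cfsg.HasNormalPComplement 2 G := by
  haveI := Fact.mk Nat.prime_two
  set F := Cfsg.fittingSubgroup G with hF
  haveI : F.Normal := Cfsg.Agent.Solv.fittingSubgroup_normal
  haveI : Group.IsNilpotent F := Cfsg.Agent.Solv.fittingSubgroup_nilpotent
  set A := (Cfsg.pResidual 2 F).map F.subtype with hA
  haveI : A.Normal := pResidual_map_normal F
  haveI := h.odd_part_cyclic F
  haveI : IsCyclic A := isCyclic_of_surjective
    ((Cfsg.pResidual 2 F).equivMapOfInjective F.subtype F.subtype_injective).toMonoidHom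
    ((Cfsg.pResidual 2 F).equivMapOfInjective F.subtype F.subtype_injective).surjective
  have hAF : A ≤ F := Subgroup.map_subtype_le _
  have hAodd : ∀ g ∈ F, (orderOf g).Coprime 2 → g ∈ A := fun g hg hgo =>
    ⟨⟨g, hg⟩, Subgroup.subset_closure (show (orderOf (⟨g, hg⟩ : F)).Coprime 2 by
      rwa [Subgroup.orderOf_mk]), rfl⟩
  set C := Subgroup.centralizer (A : Set G) with hC
  haveI : C.Normal := by rw [hC]; infer_instance
  -- odd elements of `C` lie in `A`
  have hCodd : ∀ g ∈ C, (orderOf g).Coprime 2 → g ∈ A := by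
    intro g hg hgo
    refine hAodd g (Cfsg.Agent.Solv.centralizer_fitting_le ‹_› ?_) hgo
    rw [Subgroup.mem_centralizer_iff]
    intro x hx
    obtain ⟨a, b, k, ha, hb, hao, hbk, rfl⟩ := exists_odd_two_parts x
    have haF : a ∈ F := (Subgroup.zpowers_le.2 hx) ha
    have hbF : b ∈ F := (Subgroup.zpowers_le.2 hx) hb
    have e1 : Commute g a := (Subgroup.mem_centralizer_iff.1 hg _ (hAodd a haF hao)).symm
    have e2 : Commute g b := (Subgroup.mem_centralizer_iff.1 (hcen g hgo) _
      (two_mem_core inferInstance hbF hbk)).symm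
    exact (e1.mul_right e2).symm.eq
  haveI : Group.IsNilpotent C := by
    let f : C →* G ⧸ A := (QuotientGroup.mk' A).comp C.subtype
    have hp : IsPGroup 2 f.range := by
      rintro ⟨_, c, rfl⟩
      obtain ⟨a, b, k, ha, hb, hao, hbk, hc⟩ := exists_odd_two_parts (c : G)
      refine ⟨k, Subtype.ext ?_⟩
      have haC : a ∈ C := (Subgroup.zpowers_le.2 c.2) ha
      show (QuotientGroup.mk' A (c : G)) ^ 2 ^ k = 1
      rw [hc, map_mul, show QuotientGroup.mk' A a = 1 from
        (QuotientGroup.eq_one_iff a).2 (hCodd a haC hao), one_mul, ← map_pow, hbk, map_one]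
    haveI := hp.isNilpotent
    refine Subgroup.isNilpotent_of_ker_le_center f.rangeRestrict ?_
    rw [MonoidHom.ker_rangeRestrict]
    intro c hc
    have hcA : (c : G) ∈ A := (QuotientGroup.eq_one_iff (c : G)).1 hc
    exact Subgroup.mem_center_iff.2 fun d =>
      Subtype.ext (Subgroup.mem_centralizer_iff.1 d.2 _ hcA).symm
  have hCF : C ≤ F := Cfsg.Agent.Solv.normal_le_fitting inferInstance
  obtain ⟨P⟩ : Nonempty (Sylow 2 G) := inferInstance
  refine Cfsg.Agent.Fusion.hnpc_of_centralize (Cfsg.Agent.Fusion.sylIn_top P)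
    fun Q hQ g hg hgo => Subgroup.mem_centralizer_iff.2 fun q hq => ?_
  set c := g * q * g⁻¹ * q⁻¹ with hcdef
  have hcQ : c ∈ Q := mul_mem ((Subgroup.mem_normalizer_iff.1 hg q).1 hq) (inv_mem hq)
  have hcC : c ∈ C := by
    have hN : ∀ x : G, x ∈ Subgroup.normalizer (A : Set G) := fun x => by
      rw [Subgroup.normalizer_eq_top]; exact Subgroup.mem_top x
    let θ : G →* MulAut A := (A.normalizerMonoidHom).comp
      ((MonoidHom.id G).codRestrict _ hN)
    have hθ : θ c = 1 := by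
      rw [hcdef]
      simp only [map_mul, map_inv]
      rw [isMulCommutative_mulAut_of_cyclic (θ g) (θ q)]
      group
    rw [hC, Subgroup.mem_centralizer_iff]
    intro a ha
    have e : c * a * c⁻¹ = a := congrArg Subtype.val (MulEquiv.congr_fun hθ ⟨a, ha⟩)
    exact (mul_inv_eq_iff_eq_mul.1 e).symm
  obtain ⟨k, hk⟩ := (P.isPGroup'.to_le hQ) ⟨c, hcQ⟩
  have hk' : c ^ 2 ^ k = 1 := congrArg Subtype.val hk
  have hcc : Commute g c :=
    (Subgroup.mem_centralizer_iff.1 (hcen g hgo) _ (two_mem_core inferInstance (hCF hcC) hk')).symm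
  have hiter : ∀ n : ℕ, g ^ n * q * (g ^ n)⁻¹ = c ^ n * q := by
    intro n
    induction n with
    | zero => simp
    | succ n ih =>
      rw [pow_succ', mul_inv_rev, show g * g ^ n * q * ((g ^ n)⁻¹ * g⁻¹) =
        g * (g ^ n * q * (g ^ n)⁻¹) * g⁻¹ by group, ih, show g * (c ^ n * q) * g⁻¹ =
        (g * c ^ n * g⁻¹) * (g * q * g⁻¹ * q⁻¹) * q by group, ← hcdef,
        (hcc.pow_right n).eq, mul_inv_cancel_right, pow_succ]
  have hcn := hiter (orderOf g)
  rw [pow_orderOf_eq_one, one_mul, inv_one, mul_one] at hcn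
  have hc1 : c = 1 := by
    have h1 : orderOf c ∣ orderOf g := orderOf_dvd_of_pow_eq_one (mul_eq_right.1 hcn.symm)
    exact orderOf_eq_one_iff.1 (Nat.eq_one_of_dvd_coprimes
      (Nat.Coprime.pow_right k hgo) h1 (orderOf_dvd_of_pow_eq_one hk'))
  have e : g * q * g⁻¹ = q := mul_inv_eq_one.1 hc1
  exact (mul_inv_eq_iff_eq_mul.1 e).symm

/-- A solvable group which is not two-nilpotent has a quaternion two-core of order eight. -/
theorem IsFpf.core_quaternion (h : IsFpf ρ) [Group.IsSolvable G]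
    (hn : ¬ Cfsg.HasNormalPComplement 2 G) :
    Nonempty (Cfsg.pCore 2 G ≃* QuaternionGroup 2) ∧
      ∃ g : G, (orderOf g).Coprime 2 ∧ g ∉ Subgroup.centralizer (Cfsg.pCore 2 G : Set G) := by
  haveI := Fact.mk Nat.prime_two
  obtain ⟨g, hgo, hg⟩ : ∃ g : G, (orderOf g).Coprime 2 ∧
      g ∉ Subgroup.centralizer (Cfsg.pCore 2 G : Set G) := by
    by_contra hno
    push Not at hno
    exact hn (h.hnpc_of_core_centralized hno)
  refine ⟨by_contra fun hne => hg ?_, g, hgo, hg⟩
  haveI : (Cfsg.pCore 2 G).Normal := Cfsg.Agent.Solv.pCore_normal 2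
  exact h.odd_centralizes (Cfsg.Agent.Solv.pCore_isPGroup 2)
    (by rw [Subgroup.normalizer_eq_top]; exact Subgroup.mem_top g)
    (Nat.odd_iff.2 (by have := (Nat.prime_two.coprime_iff_not_dvd).1 hgo.symm; omega))
    (pow_orderOf_eq_one g) (Or.inr hne)

theorem quat_center : ∀ u : QuaternionGroup 2, (∀ v, u * v = v * u) → u * u = 1 := by decide +kernel

theorem quat_four : (QuaternionGroup.a 1 : QuaternionGroup 2) ^ 4 = 1 ∧
    (QuaternionGroup.a 1 : QuaternionGroup 2) ^ 2 ≠ 1 := by decide +kernel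

/-- The action on a normal quaternion group of order eight. -/
theorem IsFpf.four_hom (h : IsFpf ρ) (Q : Subgroup G) [Q.Normal]
    (hQ : Nonempty (Q ≃* QuaternionGroup 2)) {g : G} (hgo : (orderOf g).Coprime 2)
    (hg : g ∉ Subgroup.centralizer (Q : Set G)) :
    IsZGroup (Subgroup.centralizer (Q : Set G)) ∧
    ∃ f : G →* Equiv.Perm (Fin 4), f.ker = Subgroup.centralizer (Q : Set G) ∧
      Nat.card (Q.map f) = 4 ∧ (f.range.index = 1 ∨ f.range.index = 2) := by
  classical
  obtain ⟨e⟩ := id hQ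
  set C := Subgroup.centralizer (Q : Set G) with hC
  have hQC : ∀ x ∈ Q, x ∈ C → x ^ 2 = 1 := by
    intro x hxQ hxC
    have := quat_center (e ⟨x, hxQ⟩) fun v => by
      obtain ⟨v, rfl⟩ := e.surjective v
      rw [← map_mul, ← map_mul]
      exact congrArg e (Subtype.ext (Subgroup.mem_centralizer_iff.1 hxC v v.2).symm)
    rw [← map_mul, MulEquiv.map_eq_one_iff] at this
    rw [sq]; exact congrArg Subtype.val this
  set u : G := (e.symm (QuaternionGroup.a 1) : G) with hu
  have hu4 : u ^ 4 = 1 := by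
    rw [hu, ← SubgroupClass.coe_pow, ← map_pow, quat_four.1, map_one, OneMemClass.coe_one]
  have hu2 : u ^ 2 ≠ 1 := fun e1 => quat_four.2 (by
    have : (e.symm (QuaternionGroup.a 1)) ^ 2 = 1 := Subtype.ext e1
    rw [← map_pow, MulEquiv.map_eq_one_iff] at this
    exact this)
  have huQ : u ∈ Q := (e.symm _).2
  have hz4 : (u ^ 2) ^ 2 = 1 := by rw [← pow_mul]; exact hu4
  have hno4 : ∀ x : C, ¬ Four x := by
    intro x hx
    have hx4 : (x : G) ^ 4 = 1 := congrArg Subtype.val hx.1
    have hx2 : (x : G) ^ 2 ≠ 1 := fun e1 => hx.2 (Subtype.ext e1)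
    have hc : Commute (x : G) u := (Subgroup.mem_centralizer_iff.1 x.2 _ huQ).symm
    have e1 : (x : G) ^ 2 = u ^ 2 :=
      h.involution_unique hx2 (by rw [← pow_mul]; exact hx4) hu2 hz4
    have e2 : ((x : G) * u) ^ 2 = 1 := by rw [hc.mul_pow, e1, ← pow_add]; exact hu4
    refine hx2 (hQC x ?_ x.2)
    by_cases e3 : (x : G) * u = 1
    · rw [eq_inv_of_mul_eq_one_left e3]; exact inv_mem huQ
    · have e4 := h.involution_unique e3 e2 hu2 hz4
      have : (x : G) = u ^ 2 * u⁻¹ := eq_mul_inv_of_mul_eq e4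
      rw [this]; exact mul_mem (pow_mem huQ 2) (inv_mem huQ)
  refine ⟨(h.comp C.subtype C.subtype_injective).isZGroup_of_no_four hno4, ?_⟩
  obtain ⟨φ, hφ⟩ := QuatAut.aut_perm
  set f : G →* Equiv.Perm (Fin 4) :=
    φ.comp ((MulAut.congr e).toMonoidHom.comp (MulAut.conjNormal (H := Q))) with hf
  have hker : f.ker = C := by
    ext x
    rw [MonoidHom.mem_ker, hf, MonoidHom.comp_apply, MonoidHom.comp_apply,
      map_eq_one_iff φ hφ, MulEquiv.coe_toMonoidHom, MulEquiv.map_eq_one_iff, hC,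
      Subgroup.mem_centralizer_iff]
    constructor
    · intro h1 y hy
      have e1 : x * y * x⁻¹ = y := by
        rw [← MulAut.conjNormal_apply x (⟨y, hy⟩ : Q), h1]; rfl
      exact (mul_inv_eq_iff_eq_mul.1 e1).symm
    · intro h1
      refine MulEquiv.ext fun y => Subtype.ext ?_
      rw [MulAut.conjNormal_apply, ← h1 y y.2, mul_inv_cancel_right]
      rfl
  have hQcard : Nat.card Q = 8 := by
    rw [Nat.card_congr e.toEquiv, Nat.card_eq_fintype_card, QuaternionGroup.card]
  have hmap : Nat.card (Q.map f) = 4 := by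
    set ψ := f.comp Q.subtype with hψ
    have hk : Nat.card ψ.ker = 2 := by
      rw [Nat.card_eq_two_iff' (1 : ψ.ker)]
      have hz : (⟨u ^ 2, pow_mem huQ 2⟩ : Q) ∈ ψ.ker := by
        rw [MonoidHom.mem_ker, hψ, MonoidHom.comp_apply, ← MonoidHom.mem_ker, hker, hC,
          Subgroup.mem_centralizer_iff]
        exact fun y _ => h.involution_central hu2 hz4 y
      refine ⟨⟨_, hz⟩, fun e1 => hu2 (congrArg Subtype.val (congrArg Subtype.val e1)),
        fun y hy => Subtype.ext (Subtype.ext ?_)⟩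
      have hyC : (y.1 : G) ∈ C := hker ▸ MonoidHom.mem_ker.2 (MonoidHom.mem_ker.1 y.2)
      exact h.involution_unique (fun e1 => hy (Subtype.ext (Subtype.ext e1)))
        (hQC _ y.1.2 hyC) hu2 hz4
    have e1 := ψ.ker.card_mul_index
    rw [hk, Subgroup.index_ker, hQcard] at e1
    rw [show Q.map f = ψ.range by rw [hψ, MonoidHom.range_comp, Subgroup.range_subtype]]
    omega
  refine ⟨f, hker, hmap, ?_⟩
  · have h4 : 4 ∣ Nat.card f.range :=
      hmap.symm.dvd.trans (Subgroup.card_dvd_of_le (Subgroup.map_le_range f Q))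
    have hfg : f g ≠ 1 := fun e1 => hg (hker ▸ MonoidHom.mem_ker.2 e1)
    have hd : orderOf (f g) ∣ Nat.card f.range := by
      rw [← Subgroup.orderOf_mk (f g) (show f g ∈ f.range from ⟨g, rfl⟩)]
      exact orderOf_dvd_natCard _
    have hP : Nat.card (Equiv.Perm (Fin 4)) = 24 := by
      rw [Nat.card_perm, Nat.card_eq_fintype_card, Fintype.card_fin]; rfl
    have h24 : orderOf (f g) ∣ 24 := hP ▸ orderOf_dvd_natCard _
    have h3 : 3 ∣ orderOf (f g) := by
      have hco : Nat.Coprime (orderOf (f g)) (2 ^ 3) :=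
        Nat.Coprime.pow_right 3 (hgo.coprime_dvd_left (orderOf_map_dvd f g))
      have hd3 : orderOf (f g) ∣ 3 :=
        hco.dvd_of_dvd_mul_left (by rw [show 2 ^ 3 * 3 = 24 by norm_num]; exact h24)
      rcases Nat.prime_three.eq_one_or_self_of_dvd _ hd3 with e1 | e1
      · exact absurd (orderOf_eq_one_iff.1 e1) hfg
      · exact e1.symm.dvd
    have h12 : 12 ∣ Nat.card f.range :=
      (show Nat.Coprime 4 3 by norm_num).mul_dvd_of_dvd_of_dvd h4 (h3.trans hd)
    have e1 := f.range.card_mul_index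
    rw [hP] at e1
    obtain ⟨c, hc⟩ := h12
    rw [hc] at e1
    have hc0 : 0 < c := Nat.pos_of_ne_zero fun e2 => by rw [e2, mul_zero, zero_mul] at e1; omega
    have : c * f.range.index = 2 := by rw [mul_assoc] at e1; omega
    exact Nat.prime_two.eq_one_or_self_of_dvd _ (Dvd.intro_left _ this)

theorem solvable_perm_four : Group.IsSolvable (Equiv.Perm (Fin 4)) := by
  refine Cfsg.Agent.Char.isSolvable_of_two_primes Nat.prime_two Nat.prime_three _ rfl ?_
  intro r hr hrd
  rw [Nat.card_perm, Nat.card_eq_fintype_card, Fintype.card_fin] at hrd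
  have := hr.dvd_factorial.1 hrd
  have := hr.two_le
  interval_cases r
  · exact Or.inl rfl
  · exact Or.inr rfl
  · exact absurd hr (by norm_num)

theorem IsFpf.solvable_mulAut_two (h : IsFpf ρ) {B : Subgroup G} (hB : IsPGroup 2 B) :
    Group.IsSolvable (MulAut B) := by
  haveI := Fact.mk Nat.prime_two
  rcases h.isCyclic_or_quaternion B hB with hc | ⟨-, k, ⟨e⟩⟩
  · exact QuatAut.solvable_mulAut_cyclic B
  haveI : NeZero (2 ^ k) := ⟨pow_ne_zero k two_ne_zero⟩
  suffices Group.IsSolvable (MulAut (QuaternionGroup (2 ^ k))) from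
    Group.isSolvable_of_surjective (f := (MulAut.congr e).symm.toMonoidHom)
      (MulAut.congr e).symm.surjective
  rcases k with _ | _ | k
  · haveI : IsCyclic (QuaternionGroup (2 ^ 0)) := QuaternionGroup.quaternionGroup_one_isCyclic
    exact QuatAut.solvable_mulAut_cyclic _
  · obtain ⟨φ, hφ⟩ := QuatAut.aut_perm
    haveI := solvable_perm_four
    exact solvable_of_solvable_injective hφ
  · exact QuatAut.solvable_big
      (le_trans (by norm_num : 3 ≤ 2 ^ 2) (Nat.pow_le_pow_right (by norm_num) (by omega)))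

/-- The restriction of automorphisms to an invariant subgroup. -/
def restrictAut {N : Type w} [Group N] (A : Subgroup N)
    (hA : ∀ α : MulAut N, ∀ x ∈ A, α x ∈ A) : MulAut N →* MulAut A where
  toFun α :=
    { toFun := fun x => ⟨α x, hA α x x.2⟩
      invFun := fun x => ⟨α⁻¹ x, hA α⁻¹ x x.2⟩
      left_inv := fun x => Subtype.ext (α.symm_apply_apply x)
      right_inv := fun x => Subtype.ext (α.apply_symm_apply x)
      map_mul' := fun x y => Subtype.ext (map_mul α (x : N) y) }
  map_one' := MulEquiv.ext fun x => Subtype.ext rfl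
  map_mul' _ _ := MulEquiv.ext fun x => Subtype.ext rfl

theorem IsFpf.solvable_mulAut_nilpotent (h : IsFpf ρ) [Group.IsNilpotent G] :
    Group.IsSolvable (MulAut G) := by
  haveI := Fact.mk Nat.prime_two
  set A := Cfsg.pResidual 2 G with hA
  set B := Cfsg.pCore 2 G with hB
  have hAi : ∀ α : MulAut G, ∀ x ∈ A, α x ∈ A := by
    intro α x hx
    induction hx using Subgroup.closure_induction with
    | mem y hy =>
      refine Subgroup.subset_closure ?_
      show Nat.Coprime (orderOf (α y)) 2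
      rw [MulEquiv.orderOf_eq]; exact hy
    | one => rw [map_one]; exact one_mem _
    | mul y z _ _ hy hz => rw [map_mul]; exact mul_mem hy hz
    | inv y _ hy => rw [map_inv]; exact inv_mem hy
  have hBi : ∀ α : MulAut G, ∀ x ∈ B, α x ∈ B := fun α x hx =>
    Cfsg.Agent.Fusion.map_pCore_le α ⟨x, hx, rfl⟩
  haveI : IsCyclic A := by
    have hc := Cfsg.Agent.Fusion.hnpc_iff.1 (Cfsg.Agent.Fusion.hnpc_of_isNilpotent (G := G) (p := 2))
    haveI : IsZGroup A := h.isZGroup_of_odd (Cfsg.Agent.Fusion.coprime_card_iff_not_dvd.1 hc)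
    infer_instance
  haveI := QuatAut.solvable_mulAut_cyclic A
  haveI := h.solvable_mulAut_two (Cfsg.Agent.Solv.pCore_isPGroup (G := G) 2)
  refine solvable_of_solvable_injective
    (f := (restrictAut A hAi).prod (restrictAut B hBi)) ((injective_iff_map_eq_one _).2 ?_)
  intro α hα
  have hα1 : restrictAut A hAi α = 1 := congrArg Prod.fst hα
  have hα2 : restrictAut B hBi α = 1 := congrArg Prod.snd hα
  refine MulEquiv.ext fun x => ?_
  obtain ⟨a, b, k, -, -, hao, hbk, rfl⟩ := exists_odd_two_parts x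
  haveI : Group.IsNilpotent (⊤ : Subgroup G) := inferInstance
  have haA : a ∈ A := Subgroup.subset_closure hao
  have hbB : b ∈ B := two_mem_core (N := ⊤) inferInstance (Subgroup.mem_top b) hbk
  have e1 : α a = a := congrArg Subtype.val (MulEquiv.congr_fun hα1 ⟨a, haA⟩)
  have e2 : α b = b := congrArg Subtype.val (MulEquiv.congr_fun hα2 ⟨b, hbB⟩)
  rw [map_mul, e1, e2]; rfl

/-- The automorphism group of a solvable group with a fixed-point-free representation is
solvable. -/
theorem IsFpf.solvable_mulAut (h : IsFpf ρ) [hs : Group.IsSolvable G] :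
    Group.IsSolvable (MulAut G) := by
  set F := Cfsg.fittingSubgroup G with hF
  haveI : F.Normal := Cfsg.Agent.Solv.fittingSubgroup_normal
  haveI hFn : Group.IsNilpotent F := Cfsg.Agent.Solv.fittingSubgroup_nilpotent
  have hFi : ∀ α : MulAut G, ∀ x ∈ F, α x ∈ F := by
    intro α x hx
    haveI : (F.map α.toMonoidHom).Normal :=
      Subgroup.Normal.map inferInstance _ α.surjective
    refine Cfsg.Agent.Solv.normal_le_fitting (N := F.map α.toMonoidHom) ?_ ⟨x, hx, rfl⟩
    exact (Group.isNilpotent_congr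
      (F.equivMapOfInjective α.toMonoidHom α.injective)).1 hFn
  haveI := (h.comp F.subtype F.subtype_injective).solvable_mulAut_nilpotent
  set r := restrictAut F hFi with hr
  haveI : Group.IsSolvable r.ker := by
    refine Group.isSolvable_of_comm fun α β => Subtype.ext (MulEquiv.ext fun x => ?_)
    have hfix : ∀ γ : r.ker, ∀ y ∈ F, γ.1 y = y := fun γ y hy =>
      congrArg Subtype.val (MulEquiv.congr_fun (MonoidHom.mem_ker.1 γ.2) ⟨y, hy⟩)
    have hval : ∀ γ : r.ker, ∀ y : G, y⁻¹ * γ.1 y ∈ F := fun γ y =>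
      Cfsg.Agent.Solv.centralizer_fitting_le hs (by
        rw [Subgroup.mem_centralizer_iff]
        intro f hf
        have hm : y * f * y⁻¹ ∈ F := ‹F.Normal›.conj_mem f hf y
        have e := hfix γ _ hm
        rw [map_mul, map_mul, map_inv, hfix γ f hf] at e
        calc f * (y⁻¹ * γ.1 y) = y⁻¹ * (y * f * y⁻¹) * γ.1 y := by group
          _ = y⁻¹ * (γ.1 y * f * (γ.1 y)⁻¹) * γ.1 y := by rw [e]
          _ = y⁻¹ * γ.1 y * f := by group)
    have hcom : ∀ γ : r.ker, ∀ y : G, ∀ f ∈ F, y⁻¹ * γ.1 y * f = f * (y⁻¹ * γ.1 y) := by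
      intro γ y f hf
      have hm : y * f * y⁻¹ ∈ F := ‹F.Normal›.conj_mem f hf y
      have e := hfix γ _ hm
      rw [map_mul, map_mul, map_inv, hfix γ f hf] at e
      symm
      calc f * (y⁻¹ * γ.1 y) = y⁻¹ * (y * f * y⁻¹) * γ.1 y := by group
        _ = y⁻¹ * (γ.1 y * f * (γ.1 y)⁻¹) * γ.1 y := by rw [e]
        _ = y⁻¹ * γ.1 y * f := by group
    have key : ∀ γ δ : r.ker, γ.1 (δ.1 x) = x * ((x⁻¹ * γ.1 x) * (x⁻¹ * δ.1 x)) := by
      intro γ δ
      have e : γ.1 (δ.1 x) = γ.1 x * γ.1 (x⁻¹ * δ.1 x) := by rw [← map_mul, mul_inv_cancel_left]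
      rw [e, hfix γ _ (hval δ x), ← mul_assoc x, mul_inv_cancel_left]
    show α.1 (β.1 x) = β.1 (α.1 x)
    rw [key, key, hcom α x _ (hval β x)]
  exact solvable_of_ker_le_range r.ker.subtype r (by rw [Subgroup.range_subtype])

end Cfsg.Agent.Perm.Fpf
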