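import Mathlib

/-!
A model of `SL(2,5)` inside two-by-two matrices over a ring with a golden ratio and a square root
of `-1`.
-/

set_option autoImplicit false

namespace Cfsg.Agent.Perm.Fpf.SL25

universe u

/-- The element `a + b φ + (c + d φ) i`. -/
structure GI where
  a : ℤ
  b : ℤ
  c : ℤ
  d : ℤ
deriving DecidableEq

/-- Addition. -/
def GI.plus (x y : GI) : GI := ⟨x.a + y.a, x.b + y.b, x.c + y.c, x.d + y.d⟩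

/-- Multiplication, with `φ ^ 2 = φ + 1` and `i ^ 2 = -1`. -/
def GI.times (x y : GI) : GI :=
  ⟨x.a * y.a + x.b * y.b - (x.c * y.c + x.d * y.d),
   x.a * y.b + x.b * y.a + x.b * y.b - (x.c * y.d + x.d * y.c + x.d * y.d),
   x.a * y.c + x.b * y.d + x.c * y.a + x.d * y.b,
   x.a * y.d + x.b * y.c + x.b * y.d + (x.c * y.b + x.d * y.a + x.d * y.b)⟩

/-- A two-by-two matrix, row by row. -/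
structure M2 where
  p : GI
  q : GI
  r : GI
  s : GI
deriving DecidableEq

/-- Matrix multiplication. -/
def M2.times (x y : M2) : M2 :=
  ⟨(x.p.times y.p).plus (x.q.times y.r), (x.p.times y.q).plus (x.q.times y.s),
   (x.r.times y.p).plus (x.s.times y.r), (x.r.times y.q).plus (x.s.times y.s)⟩

/-- The identity. -/
def one : M2 := ⟨⟨1,0,0,0⟩,⟨0,0,0,0⟩,⟨0,0,0,0⟩,⟨1,0,0,0⟩⟩
/-- The generator of order six. -/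
def genX : M2 := ⟨⟨1,0,0,0⟩,⟨0,0,1,0⟩,⟨0,0,1,0⟩,⟨0,0,0,0⟩⟩
/-- The generator of order ten. -/
def genY : M2 := ⟨⟨0,0,0,0⟩,⟨-1,0,0,0⟩,⟨1,0,0,0⟩,⟨0,1,0,0⟩⟩

/-- The value of a word in the generators. -/
def word (w : List Bool) : M2 := w.foldl (fun m k => m.times (cond k genX genY)) one

/-- The words. -/
def words : List (List Bool) := [
  [],
  [true],
  [false],
  [true,true],
  [true,false],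
  [false,true],
  [false,false],
  [true,true,true],
  [true,true,false],
  [true,false,true],
  [true,false,false],
  [false,true,true],
  [false,false,true],
  [false,false,false],
  [true,true,true,true],
  [true,true,true,false],
  [true,true,false,true],
  [true,true,false,false],
  [true,false,true,true],
  [true,false,false,true],
  [true,false,false,false],
  [false,true,true,false],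
  [false,false,true,true],
  [false,false,false,true],
  [true,true,true,true,true],
  [true,true,true,true,false],
  [true,true,true,false,true],
  [true,true,true,false,false],
  [true,true,false,true,true],
  [true,true,false,false,true],
  [true,true,false,false,false],
  [true,false,true,true,false],
  [true,false,false,true,true],
  [true,false,false,false,true],
  [false,true,true,false,false],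
  [false,false,true,true,false],
  [true,true,true,true,true,false],
  [true,true,true,true,false,true],
  [true,true,true,true,false,false],
  [true,true,true,false,true,true],
  [true,true,true,false,false,true],
  [true,true,true,false,false,false],
  [true,true,false,true,true,false],
  [true,true,false,false,true,true],
  [true,true,false,false,false,true],
  [true,false,true,true,false,false],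
  [true,false,false,true,true,false],
  [false,true,true,false,false,true],
  [false,true,true,false,false,false],
  [false,false,true,true,false,false],
  [true,true,true,true,true,false,true],
  [true,true,true,true,true,false,false],
  [true,true,true,true,false,true,true],
  [true,true,true,true,false,false,true],
  [true,true,true,true,false,false,false],
  [true,true,true,false,true,true,false],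
  [true,true,true,false,false,true,true],
  [true,true,true,false,false,false,true],
  [true,true,false,true,true,false,false],
  [true,true,false,false,true,true,false],
  [true,false,true,true,false,false,true],
  [true,false,true,true,false,false,false],
  [true,false,false,true,true,false,false],
  [false,true,true,false,false,true,true],
  [false,true,true,false,false,false,true],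
  [false,false,true,true,false,false,true],
  [true,true,true,true,true,false,true,true],
  [true,true,true,true,true,false,false,true],
  [true,true,true,true,true,false,false,false],
  [true,true,true,true,false,true,true,false],
  [true,true,true,true,false,false,true,true],
  [true,true,true,true,false,false,false,true],
  [true,true,true,false,true,true,false,false],
  [true,true,true,false,false,true,true,false],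
  [true,true,false,true,true,false,false,true],
  [true,true,false,true,true,false,false,false],
  [true,true,false,false,true,true,false,false],
  [true,false,true,true,false,false,true,true],
  [true,false,true,true,false,false,false,true],
  [true,false,false,true,true,false,false,true],
  [false,true,true,false,false,true,true,false],
  [false,false,true,true,false,false,true,true],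
  [true,true,true,true,true,false,true,true,false],
  [true,true,true,true,true,false,false,true,true],
  [true,true,true,true,true,false,false,false,true],
  [true,true,true,true,false,true,true,false,false],
  [true,true,true,true,false,false,true,true,false],
  [true,true,true,false,true,true,false,false,true],
  [true,true,true,false,true,true,false,false,false],
  [true,true,true,false,false,true,true,false,false],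
  [true,true,false,true,true,false,false,true,true],
  [true,true,false,true,true,false,false,false,true],
  [true,true,false,false,true,true,false,false,true],
  [true,false,false,true,true,false,false,true,true],
  [false,true,true,false,false,true,true,false,false],
  [false,false,true,true,false,false,true,true,false],
  [true,true,true,true,true,false,true,true,false,false],
  [true,true,true,true,true,false,false,true,true,false],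
  [true,true,true,true,false,true,true,false,false,true],
  [true,true,true,true,false,true,true,false,false,false],
  [true,true,true,true,false,false,true,true,false,false],
  [true,true,true,false,true,true,false,false,true,true],
  [true,true,true,false,true,true,false,false,false,true],
  [true,true,true,false,false,true,true,false,false,true],
  [true,true,false,false,true,true,false,false,true,true],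
  [true,false,false,true,true,false,false,true,true,false],
  [false,true,true,false,false,true,true,false,false,true],
  [false,false,true,true,false,false,true,true,false,false],
  [true,true,true,true,true,false,true,true,false,false,true],
  [true,true,true,true,true,false,true,true,false,false,false],
  [true,true,true,true,true,false,false,true,true,false,false],
  [true,true,true,true,false,true,true,false,false,true,true],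
  [true,true,true,true,false,true,true,false,false,false,true],
  [true,true,true,false,false,true,true,false,false,true,true],
  [true,true,false,false,true,true,false,false,true,true,false],
  [true,false,false,true,true,false,false,true,true,false,false],
  [false,true,true,false,false,true,true,false,false,true,true],
  [false,false,true,true,false,false,true,true,false,false,true],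
  [true,true,true,true,true,false,true,true,false,false,true,true],
  [true,true,true,true,true,false,true,true,false,false,false,true]]

/-- The elements of the model. -/
def elts : List M2 := [
  ⟨⟨1,0,0,0⟩,⟨0,0,0,0⟩,⟨0,0,0,0⟩,⟨1,0,0,0⟩⟩,
  ⟨⟨1,0,0,0⟩,⟨0,0,1,0⟩,⟨0,0,1,0⟩,⟨0,0,0,0⟩⟩,
  ⟨⟨0,0,0,0⟩,⟨-1,0,0,0⟩,⟨1,0,0,0⟩,⟨0,1,0,0⟩⟩,
  ⟨⟨0,0,0,0⟩,⟨0,0,1,0⟩,⟨0,0,1,0⟩,⟨-1,0,0,0⟩⟩,
  ⟨⟨0,0,1,0⟩,⟨-1,0,0,1⟩,⟨0,0,0,0⟩,⟨0,0,-1,0⟩⟩,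
  ⟨⟨0,0,-1,0⟩,⟨0,0,0,0⟩,⟨1,0,0,1⟩,⟨0,0,1,0⟩⟩,
  ⟨⟨-1,0,0,0⟩,⟨0,-1,0,0⟩,⟨0,1,0,0⟩,⟨0,1,0,0⟩⟩,
  ⟨⟨-1,0,0,0⟩,⟨0,0,0,0⟩,⟨0,0,0,0⟩,⟨-1,0,0,0⟩⟩,
  ⟨⟨0,0,1,0⟩,⟨0,0,0,1⟩,⟨-1,0,0,0⟩,⟨0,-1,-1,0⟩⟩,
  ⟨⟨0,-1,0,0⟩,⟨-1,0,0,0⟩,⟨1,0,0,0⟩,⟨0,0,0,0⟩⟩,
  ⟨⟨-1,0,0,1⟩,⟨0,-1,0,1⟩,⟨0,0,-1,0⟩,⟨0,0,0,-1⟩⟩,
  ⟨⟨0,0,-1,0⟩,⟨1,0,0,0⟩,⟨0,0,0,1⟩,⟨0,-1,1,0⟩⟩,
  ⟨⟨-1,0,0,-1⟩,⟨0,0,-1,0⟩,⟨0,1,0,1⟩,⟨0,0,0,1⟩⟩,
  ⟨⟨0,-1,0,0⟩,⟨0,-1,0,0⟩,⟨0,1,0,0⟩,⟨1,0,0,0⟩⟩,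
  ⟨⟨-1,0,0,0⟩,⟨0,0,-1,0⟩,⟨0,0,-1,0⟩,⟨0,0,0,0⟩⟩,
  ⟨⟨0,0,0,0⟩,⟨1,0,0,0⟩,⟨-1,0,0,0⟩,⟨0,-1,0,0⟩⟩,
  ⟨⟨0,-1,1,0⟩,⟨-1,0,0,0⟩,⟨0,0,0,-1⟩,⟨0,0,-1,0⟩⟩,
  ⟨⟨0,0,0,1⟩,⟨0,0,0,1⟩,⟨0,-1,-1,0⟩,⟨0,-1,0,-1⟩⟩,
  ⟨⟨0,-1,-1,0⟩,⟨0,0,0,-1⟩,⟨1,0,0,0⟩,⟨0,0,1,0⟩⟩,
  ⟨⟨-1,-1,0,0⟩,⟨0,-1,-1,0⟩,⟨0,1,-1,0⟩,⟨1,0,0,0⟩⟩,
  ⟨⟨0,-1,0,1⟩,⟨0,-1,1,0⟩,⟨0,0,0,-1⟩,⟨0,0,0,-1⟩⟩,
  ⟨⟨1,0,0,0⟩,⟨0,1,1,0⟩,⟨0,-1,1,0⟩,⟨-1,-1,0,0⟩⟩,
  ⟨⟨0,0,0,-1⟩,⟨0,1,-1,0⟩,⟨0,0,0,1⟩,⟨0,-1,0,1⟩⟩,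
  ⟨⟨0,-1,0,-1⟩,⟨0,0,0,-1⟩,⟨0,1,1,0⟩,⟨0,0,0,1⟩⟩,
  ⟨⟨0,0,0,0⟩,⟨0,0,-1,0⟩,⟨0,0,-1,0⟩,⟨1,0,0,0⟩⟩,
  ⟨⟨0,0,-1,0⟩,⟨1,0,0,-1⟩,⟨0,0,0,0⟩,⟨0,0,1,0⟩⟩,
  ⟨⟨0,0,1,0⟩,⟨0,0,0,0⟩,⟨-1,0,0,-1⟩,⟨0,0,-1,0⟩⟩,
  ⟨⟨1,0,0,0⟩,⟨0,1,0,0⟩,⟨0,-1,0,0⟩,⟨0,-1,0,0⟩⟩,
  ⟨⟨0,-1,0,0⟩,⟨-1,0,0,-1⟩,⟨1,0,0,-1⟩,⟨0,1,0,0⟩⟩,
  ⟨⟨0,-1,0,1⟩,⟨0,-1,0,0⟩,⟨0,0,-1,-1⟩,⟨1,0,0,-1⟩⟩,
  ⟨⟨0,0,0,1⟩,⟨0,0,1,0⟩,⟨0,-1,0,-1⟩,⟨-1,0,0,-1⟩⟩,
  ⟨⟨0,0,0,-1⟩,⟨0,1,0,-1⟩,⟨0,0,1,0⟩,⟨-1,0,0,1⟩⟩,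
  ⟨⟨0,-1,0,-1⟩,⟨0,0,-1,-1⟩,⟨0,1,0,0⟩,⟨1,0,0,1⟩⟩,
  ⟨⟨-1,-1,0,0⟩,⟨0,-1,0,-1⟩,⟨0,1,0,-1⟩,⟨0,1,0,0⟩⟩,
  ⟨⟨0,1,1,0⟩,⟨0,1,0,1⟩,⟨-1,-1,0,0⟩,⟨-1,-1,-1,0⟩⟩,
  ⟨⟨0,1,-1,0⟩,⟨1,1,0,0⟩,⟨0,-1,0,1⟩,⟨-1,-1,1,0⟩⟩,
  ⟨⟨0,0,-1,0⟩,⟨0,0,0,-1⟩,⟨1,0,0,0⟩,⟨0,1,1,0⟩⟩,
  ⟨⟨0,1,0,0⟩,⟨1,0,0,0⟩,⟨-1,0,0,0⟩,⟨0,0,0,0⟩⟩,
  ⟨⟨1,0,0,-1⟩,⟨0,1,0,-1⟩,⟨0,0,1,0⟩,⟨0,0,0,1⟩⟩,
  ⟨⟨0,0,1,0⟩,⟨-1,0,0,0⟩,⟨0,0,0,-1⟩,⟨0,1,-1,0⟩⟩,
  ⟨⟨1,0,0,1⟩,⟨0,0,1,0⟩,⟨0,-1,0,-1⟩,⟨0,0,0,-1⟩⟩,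
  ⟨⟨0,1,0,0⟩,⟨0,1,0,0⟩,⟨0,-1,0,0⟩,⟨-1,0,0,0⟩⟩,
  ⟨⟨-1,0,0,-1⟩,⟨0,0,-1,-1⟩,⟨0,1,0,0⟩,⟨0,1,0,1⟩⟩,
  ⟨⟨0,-1,0,0⟩,⟨0,-1,0,-1⟩,⟨0,1,0,-1⟩,⟨1,1,0,0⟩⟩,
  ⟨⟨-1,0,0,1⟩,⟨0,-1,0,0⟩,⟨0,0,-1,-1⟩,⟨0,1,0,-1⟩⟩,
  ⟨⟨0,1,0,-1⟩,⟨1,1,-1,0⟩,⟨-1,0,0,1⟩,⟨0,-1,0,1⟩⟩,
  ⟨⟨0,0,-1,-1⟩,⟨0,1,-1,-1⟩,⟨1,0,0,1⟩,⟨0,0,1,1⟩⟩,
  ⟨⟨0,0,1,1⟩,⟨-1,0,0,1⟩,⟨0,-1,-1,-1⟩,⟨0,0,-1,-1⟩⟩,
  ⟨⟨0,1,0,1⟩,⟨1,0,0,1⟩,⟨-1,-1,-1,0⟩,⟨0,-1,0,-1⟩⟩,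
  ⟨⟨1,1,0,0⟩,⟨1,1,1,0⟩,⟨-1,-1,1,0⟩,⟨-1,-1,0,0⟩⟩,
  ⟨⟨0,1,-1,0⟩,⟨1,0,0,0⟩,⟨0,0,0,1⟩,⟨0,0,1,0⟩⟩,
  ⟨⟨0,0,0,-1⟩,⟨0,0,0,-1⟩,⟨0,1,1,0⟩,⟨0,1,0,1⟩⟩,
  ⟨⟨0,1,1,0⟩,⟨0,0,0,1⟩,⟨-1,0,0,0⟩,⟨0,0,-1,0⟩⟩,
  ⟨⟨1,1,0,0⟩,⟨0,1,1,0⟩,⟨0,-1,1,0⟩,⟨-1,0,0,0⟩⟩,
  ⟨⟨0,1,0,-1⟩,⟨0,1,-1,0⟩,⟨0,0,0,1⟩,⟨0,0,0,1⟩⟩,
  ⟨⟨-1,0,0,0⟩,⟨0,-1,-1,0⟩,⟨0,1,-1,0⟩,⟨1,1,0,0⟩⟩,
  ⟨⟨0,0,0,1⟩,⟨0,-1,1,0⟩,⟨0,0,0,-1⟩,⟨0,1,0,-1⟩⟩,
  ⟨⟨0,1,0,1⟩,⟨0,0,0,1⟩,⟨0,-1,-1,0⟩,⟨0,0,0,-1⟩⟩,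
  ⟨⟨0,0,-1,-1⟩,⟨1,0,-1,-1⟩,⟨0,1,0,1⟩,⟨1,0,1,1⟩⟩,
  ⟨⟨0,-1,0,-1⟩,⟨-1,0,-1,-1⟩,⟨1,1,0,0⟩,⟨1,1,0,1⟩⟩,
  ⟨⟨1,1,1,0⟩,⟨0,1,0,1⟩,⟨-1,-1,0,0⟩,⟨0,-1,-1,0⟩⟩,
  ⟨⟨1,1,-1,0⟩,⟨1,1,0,0⟩,⟨0,-1,0,1⟩,⟨0,-1,1,0⟩⟩,
  ⟨⟨0,1,-1,-1⟩,⟨1,1,0,-1⟩,⟨0,0,1,1⟩,⟨-1,0,1,1⟩⟩,
  ⟨⟨0,-1,0,1⟩,⟨-1,-1,0,0⟩,⟨1,0,-1,-1⟩,⟨1,1,0,-1⟩⟩,
  ⟨⟨0,0,1,1⟩,⟨0,-1,0,1⟩,⟨-1,0,-1,-1⟩,⟨1,0,-1,-1⟩⟩,
  ⟨⟨0,1,1,1⟩,⟨0,0,1,1⟩,⟨-1,-1,0,-1⟩,⟨-1,0,-1,-1⟩⟩,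
  ⟨⟨0,1,0,0⟩,⟨1,0,0,1⟩,⟨-1,0,0,1⟩,⟨0,-1,0,0⟩⟩,
  ⟨⟨0,1,0,-1⟩,⟨0,1,0,0⟩,⟨0,0,1,1⟩,⟨-1,0,0,1⟩⟩,
  ⟨⟨0,0,0,-1⟩,⟨0,0,-1,0⟩,⟨0,1,0,1⟩,⟨1,0,0,1⟩⟩,
  ⟨⟨0,0,0,1⟩,⟨0,-1,0,1⟩,⟨0,0,-1,0⟩,⟨1,0,0,-1⟩⟩,
  ⟨⟨0,1,0,1⟩,⟨0,0,1,1⟩,⟨0,-1,0,0⟩,⟨-1,0,0,-1⟩⟩,
  ⟨⟨1,1,0,0⟩,⟨0,1,0,1⟩,⟨0,-1,0,1⟩,⟨0,-1,0,0⟩⟩,
  ⟨⟨0,-1,-1,0⟩,⟨0,-1,0,-1⟩,⟨1,1,0,0⟩,⟨1,1,1,0⟩⟩,
  ⟨⟨0,-1,1,0⟩,⟨-1,-1,0,0⟩,⟨0,1,0,-1⟩,⟨1,1,-1,0⟩⟩,
  ⟨⟨1,1,0,-1⟩,⟨1,1,0,0⟩,⟨-1,0,1,1⟩,⟨0,-1,0,1⟩⟩,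
  ⟨⟨1,0,-1,-1⟩,⟨0,1,0,-1⟩,⟨1,0,1,1⟩,⟨0,0,1,1⟩⟩,
  ⟨⟨-1,0,-1,-1⟩,⟨0,0,-1,-1⟩,⟨1,1,0,1⟩,⟨0,1,1,1⟩⟩,
  ⟨⟨1,0,1,1⟩,⟨-1,0,1,1⟩,⟨0,-1,0,-1⟩,⟨0,0,-1,-1⟩⟩,
  ⟨⟨1,1,0,1⟩,⟨1,0,1,1⟩,⟨-1,-1,0,0⟩,⟨0,-1,0,-1⟩⟩,
  ⟨⟨0,2,0,0⟩,⟨1,1,0,1⟩,⟨-1,-1,0,1⟩,⟨-1,-1,0,0⟩⟩,
  ⟨⟨-1,-1,0,0⟩,⟨-1,-1,0,-1⟩,⟨1,1,0,-1⟩,⟨0,2,0,0⟩⟩,
  ⟨⟨-1,0,1,1⟩,⟨-1,-1,0,1⟩,⟨0,0,-1,-1⟩,⟨0,1,-1,-1⟩⟩,
  ⟨⟨1,0,0,1⟩,⟨0,0,1,1⟩,⟨0,-1,0,0⟩,⟨0,-1,0,-1⟩⟩,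
  ⟨⟨0,1,0,0⟩,⟨0,1,0,1⟩,⟨0,-1,0,1⟩,⟨-1,-1,0,0⟩⟩,
  ⟨⟨1,0,0,-1⟩,⟨0,1,0,0⟩,⟨0,0,1,1⟩,⟨0,-1,0,1⟩⟩,
  ⟨⟨0,-1,0,1⟩,⟨-1,-1,1,0⟩,⟨1,0,0,-1⟩,⟨0,1,0,-1⟩⟩,
  ⟨⟨0,0,1,1⟩,⟨0,-1,1,1⟩,⟨-1,0,0,-1⟩,⟨0,0,-1,-1⟩⟩,
  ⟨⟨0,0,-1,-1⟩,⟨1,0,0,-1⟩,⟨0,1,1,1⟩,⟨0,0,1,1⟩⟩,
  ⟨⟨0,-1,0,-1⟩,⟨-1,0,0,-1⟩,⟨1,1,1,0⟩,⟨0,1,0,1⟩⟩,
  ⟨⟨-1,-1,0,0⟩,⟨-1,-1,-1,0⟩,⟨1,1,-1,0⟩,⟨1,1,0,0⟩⟩,
  ⟨⟨1,1,1,0⟩,⟨0,1,1,1⟩,⟨-1,-1,1,0⟩,⟨-1,-1,-1,0⟩⟩,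
  ⟨⟨1,1,-1,0⟩,⟨1,1,1,0⟩,⟨0,-1,1,1⟩,⟨-1,-1,1,0⟩⟩,
  ⟨⟨0,1,-1,-1⟩,⟨1,1,-1,0⟩,⟨0,0,0,2⟩,⟨0,-1,1,1⟩⟩,
  ⟨⟨0,1,1,1⟩,⟨0,0,0,2⟩,⟨-1,-1,-1,0⟩,⟨0,-1,-1,-1⟩⟩,
  ⟨⟨-1,-1,0,-1⟩,⟨0,-1,-1,-1⟩,⟨0,2,0,0⟩,⟨1,1,0,1⟩⟩,
  ⟨⟨-1,-1,0,1⟩,⟨0,-2,0,0⟩,⟨0,1,-1,-1⟩,⟨1,1,0,-1⟩⟩,
  ⟨⟨0,0,1,1⟩,⟨-1,0,1,1⟩,⟨0,-1,0,-1⟩,⟨-1,0,-1,-1⟩⟩,
  ⟨⟨0,1,0,1⟩,⟨1,0,1,1⟩,⟨-1,-1,0,0⟩,⟨-1,-1,0,-1⟩⟩,
  ⟨⟨-1,-1,-1,0⟩,⟨0,-1,0,-1⟩,⟨1,1,0,0⟩,⟨0,1,1,0⟩⟩,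
  ⟨⟨-1,-1,1,0⟩,⟨-1,-1,0,0⟩,⟨0,1,0,-1⟩,⟨0,1,-1,0⟩⟩,
  ⟨⟨0,-1,1,1⟩,⟨-1,-1,0,1⟩,⟨0,0,-1,-1⟩,⟨1,0,-1,-1⟩⟩,
  ⟨⟨0,1,0,-1⟩,⟨1,1,0,0⟩,⟨-1,0,1,1⟩,⟨-1,-1,0,1⟩⟩,
  ⟨⟨0,0,-1,-1⟩,⟨0,1,0,-1⟩,⟨1,0,1,1⟩,⟨-1,0,1,1⟩⟩,
  ⟨⟨0,-1,-1,-1⟩,⟨0,0,-1,-1⟩,⟨1,1,0,1⟩,⟨1,0,1,1⟩⟩,
  ⟨⟨1,1,0,0⟩,⟨1,1,0,1⟩,⟨-1,-1,0,1⟩,⟨0,-2,0,0⟩⟩,
  ⟨⟨0,0,0,2⟩,⟨0,-1,1,1⟩,⟨0,-1,-1,-1⟩,⟨0,0,0,-2⟩⟩,
  ⟨⟨0,0,0,-2⟩,⟨0,1,-1,-1⟩,⟨0,1,1,1⟩,⟨0,0,0,2⟩⟩,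
  ⟨⟨0,-2,0,0⟩,⟨-1,-1,0,-1⟩,⟨1,1,0,-1⟩,⟨1,1,0,0⟩⟩,
  ⟨⟨-1,-1,0,1⟩,⟨-1,-1,0,0⟩,⟨1,0,-1,-1⟩,⟨0,1,0,-1⟩⟩,
  ⟨⟨-1,0,1,1⟩,⟨0,-1,0,1⟩,⟨-1,0,-1,-1⟩,⟨0,0,-1,-1⟩⟩,
  ⟨⟨1,0,1,1⟩,⟨0,0,1,1⟩,⟨-1,-1,0,-1⟩,⟨0,-1,-1,-1⟩⟩,
  ⟨⟨-1,0,-1,-1⟩,⟨1,0,-1,-1⟩,⟨0,1,0,1⟩,⟨0,0,1,1⟩⟩,
  ⟨⟨-1,-1,0,-1⟩,⟨-1,0,-1,-1⟩,⟨1,1,0,0⟩,⟨0,1,0,1⟩⟩,
  ⟨⟨1,0,-1,-1⟩,⟨1,1,0,-1⟩,⟨0,0,1,1⟩,⟨0,-1,1,1⟩⟩,
  ⟨⟨1,1,0,1⟩,⟨0,1,1,1⟩,⟨0,-2,0,0⟩,⟨-1,-1,0,-1⟩⟩,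
  ⟨⟨0,-1,1,1⟩,⟨-1,-1,1,0⟩,⟨0,0,0,-2⟩,⟨0,1,-1,-1⟩⟩,
  ⟨⟨1,1,0,-1⟩,⟨0,2,0,0⟩,⟨0,-1,1,1⟩,⟨-1,-1,0,1⟩⟩,
  ⟨⟨0,-1,-1,-1⟩,⟨0,0,0,-2⟩,⟨1,1,1,0⟩,⟨0,1,1,1⟩⟩,
  ⟨⟨-1,-1,-1,0⟩,⟨0,-1,-1,-1⟩,⟨1,1,-1,0⟩,⟨1,1,1,0⟩⟩,
  ⟨⟨-1,-1,1,0⟩,⟨-1,-1,-1,0⟩,⟨0,1,-1,-1⟩,⟨1,1,-1,0⟩⟩]

theorem words_eq : words.map word = elts := by decide +kernel

theorem elts_closed : ∀ s ∈ elts, s.times genX ∈ elts ∧ s.times genY ∈ elts := by decide +kernel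

theorem elts_length : elts.length = 120 := by decide +kernel

section Eval

variable {K : Type u} [CommRing K] (φ i : K)

/-- Evaluation of a scalar. -/
def evG (x : GI) : K := x.a + x.b * φ + (x.c + x.d * φ) * i

/-- Evaluation of a matrix. -/
def ev (x : M2) : Matrix (Fin 2) (Fin 2) K := !![evG φ i x.p, evG φ i x.q; evG φ i x.r, evG φ i x.s]

/-- Reduction modulo five. -/
def red (x : M2) : ZMod 5 × ZMod 5 × ZMod 5 × ZMod 5 :=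
  (evG 3 2 x.p, evG 3 2 x.q, evG 3 2 x.r, evG 3 2 x.s)

theorem red_nodup : (elts.map red).Nodup := by decide +kernel

theorem red_surj : ∀ a b c d : ZMod 5, a * d - b * c = 1 → (a, b, c, d) ∈ elts.map red := by
  decide +kernel

theorem red_det : ∀ s ∈ elts,
    (red s).1 * (red s).2.2.2 - (red s).2.1 * (red s).2.2.1 = 1 := by decide +kernel

/-- The traces of the elements. -/
theorem elts_trace : ∀ s ∈ elts, s = one ∨ s.p.plus s.s ∈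
    [⟨-2,0,0,0⟩, ⟨0,0,0,0⟩, ⟨1,0,0,0⟩, ⟨-1,0,0,0⟩, ⟨0,1,0,0⟩, ⟨0,-1,0,0⟩, ⟨1,-1,0,0⟩,
      (⟨-1,1,0,0⟩ : GI)] := by decide +kernel

theorem evG_plus (x y : GI) : evG φ i (x.plus y) = evG φ i x + evG φ i y := by
  simp only [evG, GI.plus, Int.cast_add]; ring

variable {φ i}

theorem evG_times (hφ : φ * φ = φ + 1) (hi : i * i = -1) (x y : GI) :
    evG φ i (x.times y) = evG φ i x * evG φ i y := by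
  simp only [evG, GI.times, Int.cast_add, Int.cast_mul, Int.cast_sub]
  linear_combination (-(x.b : K) * y.b - ((x.b : K) * y.d + x.d * y.b) * i + x.d * y.d) * hφ -
    ((x.c : K) + x.d * φ) * ((y.c : K) + y.d * φ) * hi

theorem ev_times (hφ : φ * φ = φ + 1) (hi : i * i = -1) (x y : M2) :
    ev φ i (x.times y) = ev φ i x * ev φ i y := by
  simp only [ev, M2.times, evG_plus, evG_times hφ hi, Matrix.mul_fin_two]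

theorem ev_one : ev φ i one = (1 : Matrix (Fin 2) (Fin 2) K) := by
  simp [ev, one, evG, Matrix.one_fin_two]

theorem word_concat (w : List Bool) (k : Bool) :
    word (w ++ [k]) = (word w).times (cond k genX genY) := by
  simp [word, List.foldl_append]

theorem exists_mul (hφ : φ * φ = φ + 1) (hi : i * i = -1) {s : M2} (hs : s ∈ elts)
    (w : List Bool) :
    ∃ u ∈ elts, ev φ i u = ev φ i s * ev φ i (word w) ∧ red u = red (List.foldl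
      (fun m k => m.times (cond k genX genY)) s w) := by
  refine ⟨List.foldl (fun m k => m.times (cond k genX genY)) s w, ?_, ?_, rfl⟩
  · induction w using List.reverseRecOn with
    | nil => exact hs
    | append_singleton w k ih =>
      rw [List.foldl_append]
      cases k
      · exact (elts_closed _ ih).2
      · exact (elts_closed _ ih).1
  · induction w using List.reverseRecOn with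
    | nil => simp [word, ev_one]
    | append_singleton w k ih =>
      rw [List.foldl_append, word_concat, ev_times hφ hi (word w), ← mul_assoc, ← ih]
      exact ev_times hφ hi _ _

end Eval

theorem red_eq (x : M2) : red x =
    ((ev (3 : ZMod 5) 2 x) 0 0, (ev (3 : ZMod 5) 2 x) 0 1, (ev (3 : ZMod 5) 2 x) 1 0,
      (ev (3 : ZMod 5) 2 x) 1 1) := by
  simp [red, ev]

theorem three_rel : (3 : ZMod 5) * 3 = 3 + 1 := by decide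
theorem two_rel : (2 : ZMod 5) * 2 = -1 := by decide

/-- The group. -/
abbrev SL := Matrix.SpecialLinearGroup (Fin 2) (ZMod 5)

theorem exists_elt (g : SL) : ∃ s ∈ elts, ev (3 : ZMod 5) 2 s = g.1 := by
  have hd : g.1 0 0 * g.1 1 1 - g.1 0 1 * g.1 1 0 = 1 := by rw [← Matrix.det_fin_two]; exact g.2
  obtain ⟨s, hs, e⟩ := List.mem_map.1 (red_surj _ _ _ _ hd)
  refine ⟨s, hs, ?_⟩
  simp only [red_eq, Prod.mk.injEq] at e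
  ext j k; fin_cases j <;> fin_cases k <;> simp [e]

/-- The element of the model above a matrix. -/
noncomputable def pick (g : SL) : M2 := (exists_elt g).choose

theorem pick_mem (g : SL) : pick g ∈ elts := (exists_elt g).choose_spec.1

theorem pick_ev (g : SL) : ev (3 : ZMod 5) 2 (pick g) = g.1 := (exists_elt g).choose_spec.2

theorem eq_of_ev {s t : M2} (hs : s ∈ elts) (ht : t ∈ elts)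
    (e : ev (3 : ZMod 5) 2 s = ev (3 : ZMod 5) 2 t) : s = t :=
  List.inj_on_of_nodup_map red_nodup hs ht (by rw [red_eq, red_eq, e])

theorem exists_word {s : M2} (hs : s ∈ elts) : ∃ w : List Bool, word w = s := by
  rw [← words_eq] at hs
  obtain ⟨w, -, hw⟩ := List.mem_map.1 hs
  exact ⟨w, hw⟩

theorem card_SL : Nat.card SL = 120 := by
  have hinj : Function.Injective (fun g : SL => (⟨pick g, pick_mem g⟩ : {s // s ∈ elts})) :=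
    fun g g' e => Subtype.ext (by rw [← pick_ev g, ← pick_ev g', show pick g = pick g' from congrArg Subtype.val e])
  have hsurj : Function.Surjective (fun g : SL => (⟨pick g, pick_mem g⟩ : {s // s ∈ elts})) := by
    rintro ⟨s, hs⟩
    have hd : (ev (3 : ZMod 5) 2 s).det = 1 := by
      have := red_det s hs
      rw [Matrix.det_fin_two]
      rw [red_eq] at this
      exact this
    exact ⟨⟨_, hd⟩, Subtype.ext (eq_of_ev (pick_mem _) hs (pick_ev _))⟩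
  rw [Nat.card_congr (Equiv.ofBijective _ ⟨hinj, hsurj⟩), Nat.card_eq_fintype_card,
    Fintype.card_of_subtype elts.toFinset (fun x => List.mem_toFinset),
    List.toFinset_card_of_nodup (List.Nodup.of_map _ red_nodup), elts_length]

section Hom

variable {K : Type u} [CommRing K] {φ i : K}

/-- The representation of `SL(2,5)` given by a golden ratio and a square root of `-1`. -/
noncomputable def psi (hφ : φ * φ = φ + 1) (hi : i * i = -1) :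
    SL →* Matrix (Fin 2) (Fin 2) K where
  toFun g := ev φ i (pick g)
  map_one' := by
    rw [show pick 1 = one from eq_of_ev (pick_mem _) (by decide +kernel)
      (by rw [pick_ev, ev_one]; rfl)]
    exact ev_one
  map_mul' g g' := by
    obtain ⟨w, hw⟩ := exists_word (pick_mem g')
    obtain ⟨u, hu, hu1, hu2⟩ := exists_mul hφ hi (pick_mem g) w
    obtain ⟨u', hu', hu1', hu2'⟩ := exists_mul three_rel two_rel (pick_mem g) w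
    have huu : u = u' := List.inj_on_of_nodup_map red_nodup hu hu' (hu2.trans hu2'.symm)
    subst huu
    rw [hw] at hu1 hu1'
    rw [← hu1]
    congr 1
    refine eq_of_ev (pick_mem _) hu ?_
    rw [pick_ev, hu1', pick_ev, pick_ev]; rfl

theorem psi_mem_range {M : Submonoid (Matrix (Fin 2) (Fin 2) K)} (hφ : φ * φ = φ + 1)
    (hi : i * i = -1) (hX : ev φ i genX ∈ M) (hY : ev φ i genY ∈ M) (g : SL) :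
    psi hφ hi g ∈ M := by
  obtain ⟨w, hw⟩ := exists_word (pick_mem g)
  show ev φ i (pick g) ∈ M
  rw [← hw]
  induction w using List.reverseRecOn generalizing g with
  | nil => rw [show word [] = one from rfl, ev_one]; exact M.one_mem
  | append_singleton w k ih =>
    rw [word_concat, ev_times hφ hi]
    refine M.mul_mem ?_ (by cases k <;> assumption)
    clear hw ih
    induction w using List.reverseRecOn with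
    | nil => rw [show word [] = one from rfl, ev_one]; exact M.one_mem
    | append_singleton w k ih =>
      rw [word_concat, ev_times hφ hi]; exact M.mul_mem ih (by cases k <;> assumption)

end Hom

section Field

variable {K : Type u} [Field K] {φ i : K}

theorem psi_trace (hφ : φ * φ = φ + 1) (hi : i * i = -1) (h2 : (2 : K) ≠ 0) (h3 : (3 : K) ≠ 0)
    (h5 : (5 : K) ≠ 0) (g : SL) (hg : g ≠ 1) : (psi hφ hi g).trace ≠ 2 := by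
  intro e
  have e' : evG φ i ((pick g).p.plus (pick g).s) = 2 := by
    rw [evG_plus, ← e]
    simp [psi, ev, Matrix.trace_fin_two]
  rcases elts_trace _ (pick_mem g) with h | h
  · refine hg (Subtype.ext ?_)
    rw [← pick_ev g, h, ev_one]; rfl
  · simp only [List.mem_cons, List.not_mem_nil, or_false] at h
    rcases h with h | h | h | h | h | h | h | h <;> rw [h] at e' <;> simp [evG] at e'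
    · exact h2 (mul_self_eq_zero.1 (show (2 : K) * 2 = 0 by linear_combination -e'))
    · exact h2 e'.symm
    · exact one_ne_zero (show (1 : K) = 0 by linear_combination -e')
    · exact h3 (by linear_combination -e')
    · exact one_ne_zero (show (1 : K) = 0 by linear_combination hφ - (φ + 1) * e')
    · exact h5 (by linear_combination hφ + (φ - 3) * e')
    · exact one_ne_zero (show (1 : K) = 0 by linear_combination hφ + (φ - 2) * e')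
    · exact h5 (by linear_combination hφ - (φ + 2) * e')

theorem psi_injective (hφ : φ * φ = φ + 1) (hi : i * i = -1) (h2 : (2 : K) ≠ 0)
    (h3 : (3 : K) ≠ 0) (h5 : (5 : K) ≠ 0) : Function.Injective (psi hφ hi) := by
  rw [injective_iff_map_eq_one]
  intro g hg
  by_contra hne
  refine psi_trace hφ hi h2 h3 h5 g hne ?_
  rw [hg, Matrix.trace_one, Fintype.card_fin, Nat.cast_ofNat]

theorem psi_det (hφ : φ * φ = φ + 1) (hi : i * i = -1) (g : SL) : (psi hφ hi g).det = 1 := by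
  have := psi_mem_range (M := MonoidHom.mker (Matrix.detMonoidHom (n := Fin 2) (R := K))) hφ hi
    (by show (ev φ i genX).det = 1; simp [ev, genX, evG]; linear_combination -hi)
    (by show (ev φ i genY).det = 1; simp [ev, genY, evG]) g
  exact this

end Field

end Cfsg.Agent.Perm.Fpf.SL25
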