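import Mathlib
import Cfsg.Agent.Lib.Solv.UniqueSub

/-!
Finite groups with a fixed-point-free linear representation.
-/

set_option autoImplicit false
set_option linter.style.haveILetI false

namespace Cfsg.Agent.Perm.Fpf

universe u v w

variable {K : Type u} [Field K] {V : Type v} [AddCommGroup V] [Module K V]
  {G : Type w} [Group G]

/-- A linear representation in which no nontrivial element fixes a nonzero vector. -/
def IsFpf (ρ : G →* Module.End K V) : Prop :=
  ∀ g : G, g ≠ 1 → ∀ x : V, ρ g x = x → x = 0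

variable {ρ : G →* Module.End K V}

theorem IsFpf.comp (h : IsFpf ρ) {H : Type*} [Group H] (f : H →* G)
    (hf : Function.Injective f) : IsFpf (ρ.comp f) := by
  intro g hg x hx
  refine h (f g) (fun e => hg (hf ?_)) x hx
  rw [e, map_one]

theorem IsFpf.injective (h : IsFpf ρ) [Nontrivial V] : Function.Injective ρ := by
  rw [injective_iff_map_eq_one]
  intro g hg
  by_contra hne
  obtain ⟨x, hx⟩ := exists_ne (0 : V)
  exact hx (h g hne x (by rw [hg]; rfl))

theorem IsFpf.cancel (h : IsFpf ρ) {g : G} (hg : g ≠ 1) {f : Module.End K V}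
    (hf : (ρ g - 1) * f = 0) : f = 0 := by
  refine LinearMap.ext fun x => h g hg (f x) ?_
  have e : (ρ g) (f x) - f x = 0 := LinearMap.congr_fun hf x
  exact sub_eq_zero.1 e

theorem IsFpf.geom_sum_zero (h : IsFpf ρ) {g : G} (hg : g ≠ 1) {n : ℕ} (hn : g ^ n = 1) :
    ∑ i ∈ Finset.range n, ρ g ^ i = 0 := by
  refine h.cancel hg ?_
  rw [mul_geom_sum, ← map_pow, hn, map_one, sub_self]

theorem IsFpf.cube (h : IsFpf ρ) {g : G} (hg : g ≠ 1) (h3 : g ^ 3 = 1) :
    ρ g * ρ g + ρ g + 1 = 0 := by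
  have := h.geom_sum_zero hg h3
  simp only [Finset.sum_range_succ, Finset.sum_range_zero, zero_add, pow_zero, pow_one,
    sq] at this
  rw [← this]; abel

theorem IsFpf.involution (h : IsFpf ρ) {g : G} (hg : g ≠ 1) (h2 : g ^ 2 = 1) : ρ g = -1 := by
  have := h.geom_sum_zero hg h2
  simp only [Finset.sum_range_succ, Finset.sum_range_zero, zero_add, pow_zero, pow_one] at this
  exact eq_neg_of_add_eq_zero_right this

theorem IsFpf.involution_unique (h : IsFpf ρ) [Nontrivial V] {g k : G} (hg : g ≠ 1)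
    (hg2 : g ^ 2 = 1) (hk : k ≠ 1) (hk2 : k ^ 2 = 1) : g = k :=
  h.injective (by rw [h.involution hg hg2, h.involution hk hk2])

theorem IsFpf.involution_central (h : IsFpf ρ) [Nontrivial V] {g : G} (hg : g ≠ 1)
    (hg2 : g ^ 2 = 1) (x : G) : x * g = g * x :=
  h.injective (by rw [map_mul, map_mul, h.involution hg hg2, mul_neg_one, neg_one_mul])

theorem IsFpf.prime_ne_zero (h : IsFpf ρ) [Nontrivial V] {g : G} {p : ℕ} [Fact p.Prime]
    (hg : orderOf g = p) : (p : K) ≠ 0 := by
  intro h0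
  have hg1 : g ≠ 1 := fun e => by
    rw [e, orderOf_one] at hg; exact (Fact.out : p.Prime).ne_one hg.symm
  haveI : CharP K p := (CharP.charP_iff_prime_eq_zero Fact.out).2 h0
  haveI : CharP (Module.End K V) p :=
    charP_of_injective_algebraMap (algebraMap K (Module.End K V)).injective p
  have e : (ρ g - 1) ^ p = 0 := by
    rw [sub_pow_char_of_commute p (Commute.one_right _), one_pow, ← map_pow, ← hg,
      pow_orderOf_eq_one, map_one, sub_self]
  have hall : ∀ n : ℕ, (ρ g - 1) ^ n = 0 → (1 : Module.End K V) = 0 := by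
    intro n
    induction n with
    | zero => intro hn; simpa using hn
    | succ n ih => intro hn; exact ih (h.cancel hg1 (by rw [← pow_succ', hn]))
  exact one_ne_zero (hall p e)

theorem IsFpf.card_ne_zero (h : IsFpf ρ) [Nontrivial V] [Finite G] : (Nat.card G : K) ≠ 0 := by
  intro h0
  obtain ⟨p, hp⟩ := CharP.exists K
  rcases CharP.char_is_prime_or_zero K p with hpp | rfl
  · haveI := Fact.mk hpp
    obtain ⟨x, hx⟩ := exists_prime_orderOf_dvd_card' (G := G) p
      ((CharP.cast_eq_zero_iff K p _).1 h0)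
    exact h.prime_ne_zero hx (CharP.cast_eq_zero K p)
  · exact Nat.card_pos.ne' (by simpa using (CharP.cast_eq_zero_iff K 0 _).1 h0)

theorem IsFpf.natCast_ne_zero (h : IsFpf ρ) [Nontrivial V] [Finite G] {n : ℕ}
    (hn : n ∣ Nat.card G) : (n : K) ≠ 0 := by
  intro h0
  obtain ⟨m, hm⟩ := hn
  exact h.card_ne_zero (by rw [hm, Nat.cast_mul, h0, zero_mul])

/-- Two commuting elements of order `p` generate the same cyclic subgroup. -/
theorem IsFpf.commute_mem_zpowers (h : IsFpf ρ) [Nontrivial V] {x y : G} {p : ℕ} [Fact p.Prime]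
    (hx : x ^ p = 1) (hy : y ^ p = 1) (hy1 : y ≠ 1) (hc : Commute x y) :
    x ∈ Subgroup.zpowers y := by
  by_contra hno
  have hp0 : (p : K) ≠ 0 := h.prime_ne_zero (orderOf_eq_prime hy hy1)
  have hrow : ∀ i : ℕ, ∑ j ∈ Finset.range p, ρ (x * y ^ i) ^ j = 0 := fun i => by
    refine h.geom_sum_zero (fun e => hno ?_) ?_
    · rw [eq_inv_of_mul_eq_one_left e]
      exact Subgroup.inv_mem _ (Subgroup.npow_mem_zpowers y i)
    · rw [(hc.pow_right i).mul_pow, hx, ← pow_mul, mul_comm, pow_mul, hy, one_pow, one_mul]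
  have hsum : ∑ j ∈ Finset.range p, ∑ i ∈ Finset.range p, ρ (x * y ^ i) ^ j = 0 := by
    rw [Finset.sum_comm]; exact Finset.sum_eq_zero fun i _ => hrow i
  rw [Finset.sum_eq_single 0] at hsum
  · simp only [pow_zero, Finset.sum_const, Finset.card_range, nsmul_eq_mul, mul_one] at hsum
    rw [← map_natCast (algebraMap K (Module.End K V)),
      ← map_zero (algebraMap K (Module.End K V))] at hsum
    exact hp0 ((algebraMap K (Module.End K V)).injective hsum)
  · intro j hj hj0
    have hyj : y ^ j ≠ 1 := fun e => by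
      have := orderOf_dvd_of_pow_eq_one e
      rw [orderOf_eq_prime hy hy1] at this
      exact absurd (Nat.le_of_dvd (Nat.pos_of_ne_zero hj0) this)
        (not_le.2 (Finset.mem_range.1 hj))
    have e : ∀ i, ρ (x * y ^ i) ^ j = ρ (x ^ j) * ρ (y ^ j) ^ i := fun i => by
      rw [← map_pow, ← map_pow, ← map_mul, (hc.pow_right i).mul_pow, ← pow_mul, ← pow_mul,
        mul_comm i j]
    simp only [e, ← Finset.mul_sum]
    rw [h.geom_sum_zero hyj (by rw [← pow_mul, mul_comm, pow_mul, hy, one_pow]), mul_zero]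
  · intro h0; exact absurd (Finset.mem_range.2 (Fact.out : p.Prime).pos) h0

theorem IsFpf.uniqueOrderP (h : IsFpf ρ) [Nontrivial V] [Finite G] {p : ℕ} [Fact p.Prime]
    (P : Subgroup G) (hP : IsPGroup p P) : Cfsg.Agent.Solv.UniqueOrderP p P := by
  intro x y hx hy hy1
  haveI : Nontrivial P := ⟨⟨y, 1, hy1⟩⟩
  haveI := hP.center_nontrivial
  obtain ⟨z, hz⟩ := exists_prime_orderOf_dvd_card' (G := Subgroup.center P) p (by
    obtain ⟨n, hn, e⟩ :=
      ((hP.to_subgroup (Subgroup.center P)).nontrivial_iff_card).1 inferInstance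
    rw [e]; exact dvd_pow_self p hn.ne')
  have hz1 : ((z : P) : G) ≠ 1 := by
    intro e
    rw [show z = 1 from Subtype.ext (Subtype.ext e), orderOf_one] at hz
    exact (Fact.out : p.Prime).ne_one hz.symm
  have hzp : ((z : P) : G) ^ p = 1 := by
    have := congrArg (fun w : Subgroup.center P => ((w : P) : G)) (pow_orderOf_eq_one z)
    simpa [hz] using this
  have hcom : ∀ w : P, Commute (w : G) ((z : P) : G) := fun w =>
    congrArg Subtype.val (Subgroup.mem_center_iff.1 z.2 w)
  have hx' : (x : G) ^ p = 1 := by simpa using congrArg Subtype.val hx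
  have hy' : (y : G) ^ p = 1 := by simpa using congrArg Subtype.val hy
  have hy1' : (y : G) ≠ 1 := fun e => hy1 (Subtype.ext e)
  have h1 := h.commute_mem_zpowers hx' hzp hz1 (hcom x)
  have h2 := h.commute_mem_zpowers hzp hy' hy1' (hcom y).symm
  obtain ⟨k, hk⟩ := (Subgroup.zpowers_le.2 h2) h1
  exact ⟨k, Subtype.ext (by simpa using hk)⟩

theorem IsFpf.isCyclic_or_quaternion (h : IsFpf ρ) [Nontrivial V] [Finite G] {p : ℕ}
    [Fact p.Prime] (P : Subgroup G) (hP : IsPGroup p P) :
    IsCyclic P ∨ (p = 2 ∧ ∃ n : ℕ, Nonempty (P ≃* QuaternionGroup (2 ^ n))) :=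
  Cfsg.Agent.Solv.cyclic_or_quaternion hP (h.uniqueOrderP P hP)

theorem IsFpf.isCyclic_of_odd (h : IsFpf ρ) [Nontrivial V] [Finite G] {p : ℕ}
    [Fact p.Prime] (hp : p ≠ 2) (P : Subgroup G) (hP : IsPGroup p P) : IsCyclic P :=
  (h.isCyclic_or_quaternion P hP).resolve_right fun e => hp e.1

/-- Commuting elements of the same prime order generate the same subgroup. -/
theorem IsFpf.zpowers_eq_of_commute (h : IsFpf ρ) [Nontrivial V] {x y : G} {p : ℕ}
    [Fact p.Prime] (hx : orderOf x = p) (hy : orderOf y = p) (hc : Commute x y) :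
    Subgroup.zpowers x = Subgroup.zpowers y := by
  have hx1 : x ≠ 1 := fun e => by
    rw [e, orderOf_one] at hx; exact (Fact.out : p.Prime).ne_one hx.symm
  have hy1 : y ≠ 1 := fun e => by
    rw [e, orderOf_one] at hy; exact (Fact.out : p.Prime).ne_one hy.symm
  have hxp : x ^ p = 1 := by rw [← hx, pow_orderOf_eq_one]
  have hyp : y ^ p = 1 := by rw [← hy, pow_orderOf_eq_one]
  exact le_antisymm (Subgroup.zpowers_le.2 (h.commute_mem_zpowers hxp hyp hy1 hc))
    (Subgroup.zpowers_le.2 (h.commute_mem_zpowers hyp hxp hx1 hc.symm))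

end Cfsg.Agent.Perm.Fpf
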