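import Cfsg.Agent.Lib.Perm.Fpf.Integral

/-!
Frobenius groups from fixed-point-free actions.
-/

set_option autoImplicit false
set_option linter.style.haveILetI false
set_option linter.unusedSectionVars false

namespace Cfsg.Agent.Perm.Fpf

open scoped Pointwise

universe u v w

variable {X : Type w} [Group X]

/-- The semidirect product of a fixed-point-free action is a Frobenius group. -/
theorem complement_of_action [Finite X] [Nontrivial X] {V : Type} [Group V] [Finite V]
    [Nontrivial V] (φ : X →* MulAut V) (hφ : ∀ g, g ≠ 1 → ∀ x, φ g x = x → x = 1) :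
    ∃ (L : Type) (_ : Group L) (_ : Finite L) (H : Subgroup L), Cfsg.IsFrobeniusComplement H ∧
      Nonempty (X ≃* H) ∧ Nat.card (Cfsg.frobeniusKernel H) = Nat.card V := by
  have hinj : Function.Injective φ := by
    rw [injective_iff_map_eq_one]
    intro g hg
    by_contra hne
    obtain ⟨x, hx⟩ := exists_ne (1 : V)
    exact hx (hφ g hne x (by rw [hg]; rfl))
  let Y := φ.range
  haveI : Finite Y := Finite.of_surjective φ.rangeRestrict φ.rangeRestrict_surjective
  let ψ : Y →* MulAut V := φ.range.subtype
  haveI : Finite (V ⋊[ψ] Y) := Finite.of_equiv _ SemidirectProduct.equivProd.symm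
  let i : Y →* V ⋊[ψ] Y := SemidirectProduct.inr
  let e : X ≃* i.range :=
    (MonoidHom.ofInjective hinj).trans (MonoidHom.ofInjective SemidirectProduct.inr_injective)
  have hmem : ∀ y : V ⋊[ψ] Y, y ∈ i.range ↔ y.left = 1 := by
    intro y
    constructor
    · rintro ⟨z, rfl⟩
      exact SemidirectProduct.left_inr z
    · intro hy
      exact ⟨y.right, SemidirectProduct.ext (by rw [hy]; exact SemidirectProduct.left_inr _)
        (SemidirectProduct.right_inr _)⟩
  have hH : Cfsg.IsFrobeniusComplement i.range := by
    refine ⟨?_, ?_, fun g hg => ?_⟩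
    · rw [← Subgroup.nontrivial_iff_ne_bot]
      exact e.symm.toEquiv.nontrivial
    · intro htop
      obtain ⟨x, hx⟩ := exists_ne (1 : V)
      have := (hmem (SemidirectProduct.inl x)).1 (htop ▸ Subgroup.mem_top _)
      exact hx (by simpa using this)
    · rw [eq_bot_iff]
      rintro y ⟨hy, hy'⟩
      rw [Subgroup.mem_bot]
      replace hy' : y ∈ MulAut.conj g • i.range := hy'
      rw [Subgroup.mem_pointwise_smul_iff_inv_smul_mem] at hy'
      change (MulAut.conj g)⁻¹ y ∈ i.range at hy'
      rw [← map_inv, MulAut.conj_apply, inv_inv] at hy'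
      have h1 := (hmem _).1 hy
      have h2 := (hmem _).1 hy'
      have hg1 : g.left ≠ 1 := fun h => hg ((hmem g).2 h)
      by_contra hy1
      have hr : y.right ≠ 1 := fun h => hy1 (SemidirectProduct.ext h1 h)
      obtain ⟨a, ha⟩ := y.right.2
      have ha1 : a ≠ 1 := fun h => hr (Subtype.ext (by rw [← ha, h, map_one]; rfl))
      have key : (g⁻¹ * y * g).left = ψ g.right⁻¹ (g.left⁻¹ * ψ y.right g.left) := by
        simp [h1, map_mul]
      rw [key, map_eq_one_iff _ (ψ g.right⁻¹).injective, inv_mul_eq_one] at h2
      refine hg1 (hφ a ha1 _ ?_)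
      rw [ha]
      exact h2.symm
  refine ⟨V ⋊[ψ] Y, inferInstance, inferInstance, i.range, hH, ⟨e⟩, ?_⟩
  rw [Cfsg.Agent.Solv.frob_kernel_card hH]
  have h1 := i.range.card_mul_index
  have h2 : Nat.card (V ⋊[ψ] Y) = Nat.card V * Nat.card Y := SemidirectProduct.card
  have h3 : Nat.card i.range = Nat.card Y :=
    (Nat.card_congr (MonoidHom.ofInjective
      (f := i) SemidirectProduct.inr_injective).toEquiv).symm
  rw [h2, h3, mul_comm (Nat.card V)] at h1
  exact Nat.eq_of_mul_eq_mul_left Nat.card_pos h1

/-- A group with an integral fixed-point-free representation is a Frobenius complement. -/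
theorem HasIntFpf.complement [Finite X] [Nontrivial X] (h : HasIntFpf X) :
    ∃ (L : Type) (_ : Group L) (_ : Finite L) (H : Subgroup L), Cfsg.IsFrobeniusComplement H ∧
      Nonempty (X ≃* H) := by
  obtain ⟨r, hr, hp⟩ := Nat.exists_infinite_primes (Nat.card X + 1)
  haveI := Fact.mk hp
  obtain ⟨n, hn, μ, hμ⟩ := h.mod_prime r
    (fun hd => by have := Nat.le_of_dvd Nat.card_pos hd; omega)
  haveI : Nonempty (Fin n) := ⟨⟨0, hn⟩⟩
  let φ : X →* MulAut (Multiplicative (Fin n → ZMod r)) :=
    { toFun := fun g =>
        { toFun := fun x => Multiplicative.ofAdd (μ g x.toAdd)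
          invFun := fun x => Multiplicative.ofAdd (μ g⁻¹ x.toAdd)
          left_inv := fun x => by
            simp [← Module.End.mul_apply, ← map_mul]
          right_inv := fun x => by
            simp [← Module.End.mul_apply, ← map_mul]
          map_mul' := fun x y => by simp }
      map_one' := MulEquiv.ext fun x => by simp
      map_mul' := fun a b => MulEquiv.ext fun x => by simp }
  obtain ⟨L, i1, i2, H, hH, he, -⟩ := complement_of_action φ fun g hg x hx =>
    Multiplicative.toAdd.injective (hμ g hg x.toAdd (congrArg Multiplicative.toAdd hx))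
  exact ⟨L, i1, i2, H, hH, he⟩

/-- A nontrivial group with a fixed-point-free representation is a Frobenius complement. -/
theorem HasFpf.complement [Finite X] [Nontrivial X] (h : HasFpf X) :
    ∃ (L : Type) (_ : Group L) (_ : Finite L) (H : Subgroup L), Cfsg.IsFrobeniusComplement H ∧
      Nonempty (X ≃* H) :=
  h.hasIntFpf.complement

end Cfsg.Agent.Perm.Fpf
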