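import Cfsg.Agent.Lib.Perm.Fpf.Entry

/-!
A group with a fixed-point-free representation over some field has one by integer matrices.
-/

set_option autoImplicit false
set_option linter.style.haveILetI false
set_option linter.unusedSectionVars false

namespace Cfsg.Agent.Perm.Fpf

open Matrix

universe u v w

/-- A fixed-point-free representation by integer matrices. -/
def HasIntFpf (X : Type w) [Group X] : Prop :=
  ∃ (n : ℕ) (μ : X →* Matrix (Fin n) (Fin n) ℤ), 0 < n ∧ ∀ g, g ≠ 1 → ∀ x, μ g *ᵥ x = x → x = 0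

variable {X : Type w} [Group X]

/-- A fixed-point-free action on a lattice. -/
theorem hasIntFpf_of_module {M : Type v} [AddCommGroup M] [Module.Finite ℤ M]
    [Module.IsTorsionFree ℤ M] [Nontrivial M] (μ : X →* Module.End ℤ M)
    (hμ : ∀ g, g ≠ 1 → ∀ x, μ g x = x → x = 0) : HasIntFpf X := by
  let b := Module.finBasis ℤ M
  refine ⟨Module.finrank ℤ M, (LinearMap.toMatrixAlgEquiv b).toAlgHom.toMonoidHom.comp μ,
    Module.finrank_pos, fun g hg x hx => ?_⟩
  have e : b.equivFun (μ g (b.equivFun.symm x)) = x := by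
    conv_rhs => rw [← hx]
    have := LinearMap.toMatrix_mulVec_repr b b (μ g) (b.equivFun.symm x)
    simp only [← Module.Basis.equivFun_apply, LinearEquiv.apply_symm_apply] at this
    exact this.symm
  have h0 := hμ g hg (b.equivFun.symm x) (by
    rw [LinearEquiv.eq_symm_apply]; exact e)
  rwa [LinearEquiv.map_eq_zero_iff] at h0

theorem HasIntFpf.comp (h : HasIntFpf X) {Y : Type v} [Group Y] (f : Y →* X)
    (hf : Function.Injective f) : HasIntFpf Y := by
  obtain ⟨n, μ, hn, hμ⟩ := h
  exact ⟨n, μ.comp f, hn, fun g hg => hμ (f g) ((map_ne_one_iff f hf).2 hg)⟩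

/-- Reduction modulo a prime not dividing the order. -/
theorem HasIntFpf.mod_prime [Finite X] (h : HasIntFpf X) (r : ℕ) [Fact r.Prime]
    (hr : ¬ r ∣ Nat.card X) : ∃ n, 0 < n ∧ ∃ μ : X →* Module.End (ZMod r) (Fin n → ZMod r),
      ∀ g, g ≠ 1 → ∀ x, μ g x = x → x = 0 := by
  obtain ⟨n, μ, hn, hμ⟩ := h
  let φ : ℤ →+* ZMod r := Int.castRingHom (ZMod r)
  refine ⟨n, hn, (Matrix.toLinAlgEquiv' (R := ZMod r) (n := Fin n)).toAlgHom.toMonoidHom.comp
    ((φ.mapMatrix (m := Fin n)).toMonoidHom.comp μ), fun g hg x hx => ?_⟩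
  have hx' : φ.mapMatrix (μ g) *ᵥ x = x := by simpa using hx
  set o := orderOf g
  have hpow : ∀ i : ℕ, φ.mapMatrix (μ g) ^ i *ᵥ x = x := by
    intro i
    induction i with
    | zero => rw [pow_zero, one_mulVec]
    | succ i ih => rw [pow_succ, ← mulVec_mulVec, hx', ih]
  have hzero : ∑ i ∈ Finset.range o, μ g ^ i = 0 := by
    refine Matrix.ext_of_mulVec_single fun j => ?_
    rw [zero_mulVec]
    refine hμ g hg _ ?_
    have : (μ g - 1) * ∑ i ∈ Finset.range o, μ g ^ i = 0 := by
      rw [mul_geom_sum, ← map_pow, pow_orderOf_eq_one, map_one, sub_self]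
    have h2 : μ g * ∑ i ∈ Finset.range o, μ g ^ i = ∑ i ∈ Finset.range o, μ g ^ i := by
      rwa [sub_mul, one_mul, sub_eq_zero] at this
    rw [mulVec_mulVec, h2]
  have h1 : (o : ZMod r) • x = 0 := by
    have e : (∑ i ∈ Finset.range o, φ.mapMatrix (μ g) ^ i) *ᵥ x = (o : ZMod r) • x := by
      rw [sum_mulVec, Finset.sum_congr rfl (fun i _ => hpow i), Finset.sum_const,
        Finset.card_range, Nat.cast_smul_eq_nsmul]
    rw [← e, Finset.sum_congr rfl (fun i _ => (map_pow φ.mapMatrix (μ g) i).symm), ← map_sum, hzero,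
      map_zero, zero_mulVec]
  rcases smul_eq_zero.1 h1 with h' | h'
  · exact absurd ((ZMod.natCast_eq_zero_iff _ _).1 h' |>.trans (orderOf_dvd_natCard g)) hr
  · exact h'

/-- The product of groups of coprime orders. -/
theorem HasIntFpf.prod {Y : Type v} [Group Y] [Finite X] [Finite Y] (hX : HasIntFpf X)
    (hY : HasIntFpf Y) (hc : (Nat.card X).Coprime (Nat.card Y)) : HasIntFpf (X × Y) := by
  obtain ⟨n, α, hn, hα⟩ := hX
  obtain ⟨m, β, hm, hβ⟩ := hY
  haveI : Nonempty (Fin n) := ⟨⟨0, hn⟩⟩
  haveI : Nonempty (Fin m) := ⟨⟨0, hm⟩⟩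
  let μ : X × Y →* Module.End ℤ (Matrix (Fin n) (Fin m) ℤ) :=
    { toFun := fun z => { toFun := fun M => α z.1 * M * (β z.2).transpose
                          map_add' := fun a b => by rw [Matrix.mul_add, Matrix.add_mul]
                          map_smul' := fun c a => by simp [Matrix.mul_smul, Matrix.smul_mul] }
      map_one' := LinearMap.ext fun M => by simp
      map_mul' := fun a b => LinearMap.ext fun M => by
        simp [Matrix.transpose_mul, Matrix.mul_assoc] }
  have hleft : ∀ a : X, a ≠ 1 → ∀ M : Matrix (Fin n) (Fin m) ℤ, α a * M = M → M = 0 := by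
    intro a ha M hM
    refine Matrix.ext fun i j => ?_
    exact congrFun (hα a ha (fun k => M k j) (funext fun i => congrFun (congrFun hM i) j)) i
  refine hasIntFpf_of_module μ fun z hz M hM => ?_
  have hp : ∀ k, μ (z ^ k) M = M := by
    intro k
    induction k with
    | zero => rw [pow_zero, map_one]; rfl
    | succ k ih => rw [pow_succ, map_mul, Module.End.mul_apply, hM, ih]
  by_cases h1 : z.1 = 1
  · have h2 : z.2 ≠ 1 := fun e => hz (Prod.ext h1 e)
    have e : α z.1 * M * (β z.2).transpose = M := hM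
    rw [h1, map_one, Matrix.one_mul] at e
    refine Matrix.ext fun i j => congrFun (hβ z.2 h2 (fun k => M i k) (funext fun j => ?_)) j
    have := congrFun (congrFun e i) j
    simpa [Matrix.mul_apply, Matrix.mulVec, dotProduct, mul_comm] using this
  · have hne : z.1 ^ Nat.card Y ≠ 1 := fun e => h1 (orderOf_eq_one_iff.1
      (Nat.eq_one_of_dvd_coprimes hc (orderOf_dvd_natCard z.1) (orderOf_dvd_of_pow_eq_one e)))
    have e : α (z ^ Nat.card Y).1 * M * (β (z ^ Nat.card Y).2).transpose = M := hp (Nat.card Y)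
    rw [Prod.pow_fst, Prod.pow_snd, pow_card_eq_one', map_one, Matrix.transpose_one,
      Matrix.mul_one] at e
    exact hleft _ hne M e

section Annihilator

variable [Finite X]

/-- The sum of the powers of `g`. -/
noncomputable def normElt (A : Type u) [CommRing A] (g : X) : MonoidAlgebra A X :=
  ∑ i ∈ Finset.range (orderOf g), MonoidAlgebra.single g (1 : A) ^ i

/-- The functions killed by all cyclic sums. -/
def Killed (A : Type u) [CommRing A] (v : X → A) : Prop :=
  ∀ g : X, g ≠ 1 → ∀ h : X, ∑ i ∈ Finset.range (orderOf g), v ((g ^ i)⁻¹ * h) = 0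

theorem killed_coeff {A : Type u} [CommRing A] (F : MonoidAlgebra A X)
    (hF : ∀ g : X, g ≠ 1 → normElt A g * F = 0) : Killed A (fun k => F.coeff k) := by
  intro g hg h
  have := congrArg (fun y : MonoidAlgebra A X => y.coeff h) (hF g hg)
  simpa [normElt, Finset.sum_mul, MonoidAlgebra.single_pow] using this

theorem normElt_mul_self (A : Type u) [CommRing A] (g : X) :
    normElt A g * normElt A g = (orderOf g : MonoidAlgebra A X) * normElt A g := by
  have h1 : MonoidAlgebra.single g (1 : A) * normElt A g = normElt A g := by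
    have := mul_geom_sum (MonoidAlgebra.single g (1 : A)) (orderOf g)
    rw [MonoidAlgebra.single_pow, pow_orderOf_eq_one, one_pow, ← MonoidAlgebra.one_def, sub_self,
      sub_mul, one_mul, sub_eq_zero] at this
    exact this
  have hi : ∀ i, MonoidAlgebra.single g (1 : A) ^ i * normElt A g = normElt A g := by
    intro i
    induction i with
    | zero => rw [pow_zero, one_mul]
    | succ i ih => rw [pow_succ, mul_assoc, h1, ih]
  conv_lhs => arg 1; unfold normElt
  rw [Finset.sum_mul, Finset.sum_congr rfl (fun i _ => hi i), Finset.sum_const, Finset.card_range,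
    nsmul_eq_mul]

theorem normElt_map {A : Type u} {B : Type v} [CommRing A] [CommRing B] (f : A →+* B) (g : X) :
    MonoidAlgebra.mapRingHom X f (normElt A g) = normElt B g := by
  simp [normElt, map_sum, MonoidAlgebra.single_pow]

/-- A central idempotent killed by all cyclic sums. -/
theorem exists_central_idem {k : Type} [Field k] (hk : (Nat.card X : k) ≠ 0) {K : Type}
    [Field K] {V : Type v} [AddCommGroup V] [Module K V] [Nontrivial V] (ι : k →+* K)
    (ρ : X →* Module.End K V) (hρ : IsFpf ρ) :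
    ∃ f : MonoidAlgebra k X, IsIdempotentElem f ∧ f ≠ 0 ∧ (∀ y, y * f = f * y) ∧
      ∀ g : X, g ≠ 1 → normElt k g * f = 0 := by
  haveI : NeZero (Nat.card X : k) := ⟨hk⟩
  let ψ : MonoidAlgebra k X →+* Module.End K V :=
    MonoidAlgebra.liftNCRingHom ((algebraMap K (Module.End K V)).comp ι) ρ
      (fun a b => Algebra.commutes (ι a) (ρ b))
  have hs : ∀ g : X, ψ (MonoidAlgebra.single g 1) = ρ g := fun g => by
    simp [ψ, MonoidAlgebra.liftNCRingHom]
  obtain ⟨e, he, heI⟩ := IsSemisimpleRing.ideal_eq_span_idempotent (RingHom.ker ψ)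
  have hre : ∀ y ∈ RingHom.ker ψ, y * e = y := by
    intro y hy
    obtain ⟨a, rfl⟩ := Ideal.mem_span_singleton'.1 (heI ▸ hy)
    rw [mul_assoc, he.eq]
  have hψe : ψ e = 0 := by
    rw [← RingHom.mem_ker, heI]; exact Ideal.mem_span_singleton_self e
  have hex : ∀ y, e * y * e = e * y := fun y =>
    hre _ (by rw [RingHom.mem_ker, map_mul, hψe, zero_mul])
  have hc : ∀ y, y * e = e * y := by
    intro y
    set m := (1 - e) * y * e with hm
    have hmm : ∀ z, m * z * m = 0 := by
      intro z
      have : e * z * (1 - e) = 0 := by rw [mul_sub, mul_one, hex, sub_self]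
      calc m * z * m = (1 - e) * y * (e * z * (1 - e)) * (y * e) := by
            simp only [hm, mul_assoc]
        _ = 0 := by rw [this, mul_zero, zero_mul]
    obtain ⟨u, hu, huI⟩ := IsSemisimpleRing.ideal_eq_span_idempotent (Ideal.span {m})
    obtain ⟨a, ha⟩ := Ideal.mem_span_singleton'.1
      (huI ▸ Ideal.mem_span_singleton_self u : u ∈ Ideal.span {m})
    have hu0 : u = 0 := by
      rw [← hu.eq, ← ha, show a * m * (a * m) = a * (m * a * m) by simp only [mul_assoc], hmm,
        mul_zero]
    have hm0 : m = 0 := by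
      have := huI ▸ Ideal.mem_span_singleton_self m
      rw [hu0, Ideal.span_singleton_eq_bot.2 rfl, Ideal.mem_bot] at this
      exact this
    rw [hm, sub_mul, sub_mul, one_mul, sub_eq_zero, hex] at hm0
    exact hm0
  refine ⟨1 - e, he.one_sub, fun h0 => ?_, fun y => by rw [mul_sub, sub_mul, hc, mul_one, one_mul],
    fun g hg => ?_⟩
  · have := congrArg ψ h0
    rw [map_sub, map_one, hψe, map_zero, sub_zero] at this
    obtain ⟨x, hx⟩ := exists_ne (0 : V)
    exact hx (LinearMap.congr_fun this x)
  · rw [mul_sub, mul_one, hre, sub_self]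
    rw [RingHom.mem_ker, normElt, map_sum, ← hρ.geom_sum_zero hg (pow_orderOf_eq_one g)]
    exact Finset.sum_congr rfl fun i _ => by rw [map_pow, hs]

/-- If no nonzero integer function is killed, a fixed nonzero integer kills all killed
functions. -/
theorem exists_killer (h : ∀ v : X → ℤ, Killed ℤ v → v = 0) :
    ∃ d : ℤ, d ≠ 0 ∧ ∀ (A : Type) [CommRing A] (v : X → A), Killed A v → ∀ k, (d : A) * v k = 0 := by
  classical
  haveI := Fintype.ofFinite X
  let M : Matrix ({g : X // g ≠ 1} × X) X ℤ := Matrix.of fun p k =>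
    ∑ i ∈ Finset.range (orderOf (p.1 : X)), if ((p.1 : X) ^ i)⁻¹ * p.2 = k then 1 else 0
  have hM : ∀ (A : Type) [CommRing A] (v : X → A) (p : {g : X // g ≠ 1} × X),
      (M.map (Int.castRingHom A) *ᵥ v) p =
        ∑ i ∈ Finset.range (orderOf (p.1 : X)), v (((p.1 : X) ^ i)⁻¹ * p.2) := by
    intro A _ v p
    simp only [Matrix.mulVec, dotProduct, Matrix.map_apply, M, Matrix.of_apply, map_sum, Finset.sum_mul]
    rw [Finset.sum_comm]
    refine Finset.sum_congr rfl fun i _ => ?_
    simp
  have hdet : (M.transpose * M).det ≠ 0 := by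
    intro h0
    obtain ⟨v, hv, hv0⟩ := Matrix.exists_mulVec_eq_zero_iff.2 h0
    refine hv (h v fun g hg k => ?_)
    have h1 : (M *ᵥ v) ⬝ᵥ (M *ᵥ v) = 0 := by
      rw [Matrix.dotProduct_mulVec, ← Matrix.mulVec_transpose, mulVec_mulVec, hv0,
        zero_dotProduct]
    have h2 := congrFun (dotProduct_self_eq_zero.1 h1) (⟨g, hg⟩, k)
    have h3 := hM ℤ v (⟨g, hg⟩, k)
    rw [show M.map (Int.castRingHom ℤ) = M from Matrix.ext fun i j => by simp] at h3
    exact h3.symm.trans h2
  refine ⟨(M.transpose * M).det, hdet, fun A _ v hv k => ?_⟩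
  have h1 : M.map (Int.castRingHom A) *ᵥ v = 0 :=
    funext fun p => (hM A v p).trans (hv p.1 p.1.2 p.2)
  have h2 : (M.transpose * M).map (Int.castRingHom A) *ᵥ v = 0 := by
    rw [Matrix.map_mul, ← mulVec_mulVec, h1, mulVec_zero]
  have h3 := congrArg (fun w => ((M.transpose * M).map (Int.castRingHom A)).adjugate *ᵥ w) h2
  simp only [mulVec_mulVec, adjugate_mul, smul_mulVec, one_mulVec, mulVec_zero] at h3
  have h4 := congrFun h3 k
  rw [Pi.smul_apply, smul_eq_mul] at h4
  have e : ((M.transpose * M).map (Int.castRingHom A)).det =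
      ((M.transpose * M).det : A) := (RingHom.map_det (Int.castRingHom A) _).symm
  rw [e] at h4
  exact h4

/-- Some nonzero integer function is killed by all cyclic sums. -/
theorem IsFpf.exists_killed {K : Type} [Field K] {V : Type v} [AddCommGroup V] [Module K V]
    [Nontrivial V] (ρ : X →* Module.End K V) (hρ : IsFpf ρ) :
    ∃ v : X → ℤ, v ≠ 0 ∧ Killed ℤ v := by
  by_contra hcon
  push Not at hcon
  obtain ⟨d, hd, hkill⟩ := exists_killer (X := X) fun v hv => by_contra fun hv0 => hcon v hv0 hv
  rcases CharP.exists K with ⟨c, hc⟩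
  rcases CharP.char_is_prime_or_zero K c with hp | hp
  swap
  · subst hp
    haveI := CharP.charP_to_charZero K
    haveI : Finite X := inferInstance
    obtain ⟨f, -, hf0, -, hf⟩ := exists_central_idem (k := ℚ)
      (Nat.cast_ne_zero.2 Nat.card_pos.ne') (Rat.castHom K) ρ hρ
    refine hf0 (MonoidAlgebra.ext (Finsupp.ext fun k => ?_))
    have := hkill ℚ _ (killed_coeff f hf) k
    rcases mul_eq_zero.1 this with h | h
    · exact absurd (Int.cast_eq_zero.1 h) hd
    · simpa using h
  · haveI := Fact.mk hp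
    have hX : ¬ c ∣ Nat.card X := by
      exact fun hdvd => hρ.natCast_ne_zero hdvd (CharP.cast_eq_zero K c)
    obtain ⟨f, hfi, hf0, hfc, hf⟩ := exists_central_idem (k := ZMod c)
      (by rwa [Ne, ZMod.natCast_eq_zero_iff]) (ZMod.castHom dvd_rfl K) ρ hρ
    obtain ⟨j, hj1, hj⟩ : ∃ j, 1 ≤ j ∧ ¬ ((c : ℤ) ^ j ∣ d) := by
      refine ⟨d.natAbs + 1, by omega, fun hdvd => ?_⟩
      have h1 := Nat.le_of_dvd (Int.natAbs_pos.2 hd) (Int.natAbs_dvd_natAbs.2 hdvd)
      rw [Int.natAbs_pow, Int.natAbs_natCast] at h1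
      have h2 := Nat.lt_pow_self (n := d.natAbs + 1) hp.one_lt
      omega
    haveI : NeZero (c ^ j) := ⟨pow_ne_zero j hp.ne_zero⟩
    set A := ZMod (c ^ j)
    let π : A →+* ZMod c := ZMod.castHom (dvd_pow_self c (by omega)) (ZMod c)
    let red := MonoidAlgebra.mapRingHom X π
    let Z := Subring.center (MonoidAlgebra A X)
    have hπ : ∀ a : A, π a = ((a.val : ℕ) : ZMod c) := fun a => by
      rw [ZMod.castHom_apply, ZMod.cast_eq_val]
    have hker : ∀ y : MonoidAlgebra A X, red y = 0 → IsNilpotent y := by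
      intro y hy
      have hdiv : ∀ k, c ∣ (y.coeff k).val := by
        intro k
        have := congrArg (fun z : MonoidAlgebra (ZMod c) X => z.coeff k) hy
        simp [red] at this
        rw [hπ, ZMod.natCast_eq_zero_iff] at this
        exact this
      let y' : MonoidAlgebra A X :=
        MonoidAlgebra.ofCoeff (Finsupp.equivFunOnFinite.symm fun k => (((y.coeff k).val / c : ℕ) : A))
      have e : y = (c : A) • y' := by
        refine MonoidAlgebra.ext (Finsupp.ext fun k => ?_)
        simp only [y', MonoidAlgebra.coeff_smul, MonoidAlgebra.coeff_ofCoeff, Finsupp.smul_apply,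
          Finsupp.equivFunOnFinite_symm_apply_apply, smul_eq_mul]
        rw [← Nat.cast_mul, Nat.mul_div_cancel' (hdiv k), ZMod.natCast_zmod_val]
      refine ⟨j, ?_⟩
      rw [e, smul_pow, show ((c : A)) ^ j = 0 by rw [← Nat.cast_pow]; exact ZMod.natCast_self _,
        zero_smul]
    let F0 : MonoidAlgebra A X :=
      MonoidAlgebra.ofCoeff (Finsupp.equivFunOnFinite.symm fun k => (((f.coeff k).val : ℕ) : A))
    have hF0 : red F0 = f := by
      refine MonoidAlgebra.ext (Finsupp.ext fun k => ?_)
      simp [red, F0, π]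
    have hF0c : F0 ∈ Z := by
      refine Subring.mem_center_iff.2 fun y => ?_
      induction y using MonoidAlgebra.induction_on with
      | of a =>
        refine MonoidAlgebra.ext (Finsupp.ext fun k => ?_)
        have := congrArg (fun z : MonoidAlgebra (ZMod c) X => z.coeff k)
          (hfc (MonoidAlgebra.of (ZMod c) X a))
        simp at this
        simp [F0, this]
      | add p q hp hq => rw [add_mul, mul_add, hp, hq]
      | smul r p hp => rw [smul_mul_assoc, mul_smul_comm, hp]
    obtain ⟨F, hFi, hF⟩ := exists_isIdempotentElem_eq_of_ker_isNilpotent (red.comp Z.subtype)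
      (fun y hy => by
        obtain ⟨m, hm⟩ := hker y hy
        exact ⟨m, Subtype.ext (by rw [SubmonoidClass.coe_pow]; exact hm)⟩)
      f ⟨⟨F0, hF0c⟩, hF0⟩ hfi
    have hFz := Subring.mem_center_iff.1 F.2
    have hFk : ∀ g : X, g ≠ 1 → normElt A g * (F : MonoidAlgebra A X) = 0 := by
      intro g hg
      set y := normElt A g * (F : MonoidAlgebra A X) with hy
      have hyy : y * y = (orderOf g : MonoidAlgebra A X) * y := by
        rw [hy, mul_assoc, ← mul_assoc (F : MonoidAlgebra A X), ← hFz, mul_assoc,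
          show (F : MonoidAlgebra A X) * (F : MonoidAlgebra A X) = F from
            congrArg Subtype.val hFi.eq, ← mul_assoc, normElt_mul_self, mul_assoc]
      have hnil : IsNilpotent y := hker y (by
        rw [hy, map_mul, normElt_map, show red (F : MonoidAlgebra A X) = f from hF, hf g hg])
      have hu : IsUnit (orderOf g : A) := by
        rw [ZMod.isUnit_iff_coprime]
        refine Nat.Coprime.pow_right _ (Nat.Coprime.symm (hp.coprime_iff_not_dvd.2 fun hdvd => ?_))
        exact hX (hdvd.trans (orderOf_dvd_natCard g))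
      obtain ⟨u, hu⟩ := hu
      have hidem : IsIdempotentElem ((↑u⁻¹ : A) • y) := by
        show _ * _ = _
        rw [smul_mul_smul_comm, hyy, ← nsmul_eq_mul, ← Nat.cast_smul_eq_nsmul A, smul_smul, ← hu,
          mul_assoc, Units.inv_mul, mul_one]
      obtain ⟨m, hm⟩ := hnil
      have h0 : (↑u⁻¹ : A) • y = 0 := by
        have h1 := hidem.pow_succ_eq m
        rw [smul_pow, pow_succ y, hm, zero_mul, smul_zero] at h1
        exact h1.symm
      calc y = (u : A) • ((↑u⁻¹ : A) • y) := by rw [smul_smul, Units.mul_inv, one_smul]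
        _ = 0 := by rw [h0, smul_zero]
    obtain ⟨k, hk⟩ : ∃ k, f.coeff k ≠ 0 := by
      by_contra hk
      push Not at hk
      exact hf0 (MonoidAlgebra.ext (Finsupp.ext fun k => by simpa using hk k))
    have h1 := hkill A _ (killed_coeff _ hFk) k
    have h2 : π ((F : MonoidAlgebra A X).coeff k) = f.coeff k := by
      rw [← hF]; simp [red]
    rw [hπ] at h2
    have h3 : ((c ^ j : ℕ) : ℤ) ∣ d * ((((F : MonoidAlgebra A X).coeff k).val : ℕ) : ℤ) := by
      rw [← ZMod.intCast_zmod_eq_zero_iff_dvd, Int.cast_mul, Int.cast_natCast, ZMod.natCast_zmod_val]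
      exact h1
    refine hj ?_
    have hcop : IsCoprime ((c ^ j : ℕ) : ℤ) ((((F : MonoidAlgebra A X).coeff k).val : ℕ) : ℤ) := by
      rw [Nat.isCoprime_iff_coprime]
      refine Nat.Coprime.pow_left _ (hp.coprime_iff_not_dvd.2 fun hdvd => hk ?_)
      rw [← h2, (ZMod.natCast_eq_zero_iff _ _).2 hdvd]
    exact_mod_cast hcop.dvd_of_dvd_mul_right h3

end Annihilator

/-- A fixed-point-free representation over some field gives one by integer matrices. -/
theorem HasFpf.hasIntFpf [Finite X] (h : HasFpf X) : HasIntFpf X := by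
  refine h.elim fun ρ hρ => ?_
  obtain ⟨v, hv, hvk⟩ := IsFpf.exists_killed ρ hρ
  let L : Submodule ℤ (X → ℤ) :=
    { carrier := {v | Killed ℤ v}
      add_mem' := fun {a b} ha hb g hg k => by
        simp only [Pi.add_apply, Finset.sum_add_distrib, ha g hg k, hb g hg k, add_zero]
      zero_mem' := fun g hg k => by simp
      smul_mem' := fun c a ha g hg k => by
        simp only [Pi.smul_apply, ← Finset.smul_sum, ha g hg k, smul_zero] }
  have hinv : ∀ a : X, ∀ w ∈ L, (fun k => w (a⁻¹ * k)) ∈ L := by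
    intro a w hw g hg k
    have hg' : a⁻¹ * g * a ≠ 1 := fun e => hg (by
      have := congrArg (fun t => a * t * a⁻¹) e
      simpa [mul_assoc] using this)
    have := hw (a⁻¹ * g * a) hg' (a⁻¹ * k)
    rw [show orderOf (a⁻¹ * g * a) = orderOf g by
      have := orderOf_injective (MulAut.conj a⁻¹).toMonoidHom (MulAut.conj a⁻¹).injective g
      simpa using this] at this
    refine Eq.trans (Finset.sum_congr rfl fun i _ => congrArg w ?_) this
    have : (a⁻¹ * g * a) ^ i = a⁻¹ * g ^ i * a := by
      simpa using conj_pow (a := a⁻¹) (b := g) (i := i)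
    rw [this]; group
  haveI : Nontrivial L := ⟨⟨⟨v, hvk⟩, 0, fun e => hv (congrArg Subtype.val e)⟩⟩
  let μ : X →* Module.End ℤ L :=
    { toFun := fun a =>
        { toFun := fun w => ⟨fun k => (w : X → ℤ) (a⁻¹ * k), hinv a w w.2⟩
          map_add' := fun _ _ => rfl
          map_smul' := fun _ _ => rfl }
      map_one' := LinearMap.ext fun w => Subtype.ext (funext fun k => by simp)
      map_mul' := fun a b => LinearMap.ext fun w => Subtype.ext (funext fun k => by
        simp [mul_assoc]) }
  refine hasIntFpf_of_module μ fun a ha w hw => ?_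
  refine Subtype.ext (funext fun k => ?_)
  have hfix : ∀ k, (w : X → ℤ) (a⁻¹ * k) = (w : X → ℤ) k := fun k =>
    congrFun (congrArg Subtype.val hw) k
  have hall : ∀ i : ℕ, (w : X → ℤ) ((a ^ i)⁻¹ * k) = (w : X → ℤ) k := by
    intro i
    induction i with
    | zero => simp
    | succ i ih => rw [pow_succ, _root_.mul_inv_rev, mul_assoc, hfix, ih]
  have := w.2 a ha k
  rw [Finset.sum_congr rfl (fun i _ => hall i), Finset.sum_const, Finset.card_range,
    smul_eq_zero] at this
  rcases this with h' | h'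
  · exact absurd h' (orderOf_pos a).ne'
  · exact h'

end Cfsg.Agent.Perm.Fpf
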