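import Mathlib

/-!
Algebra of four axes at the vertices of a tetrahedron.
-/

set_option autoImplicit false

namespace Cfsg.Agent.Perm.Fpf

universe u v

variable {K : Type u} [Field K] {R : Type v} [Ring R] [Algebra K R]

/-- The anticommutator. -/
def anti (x y : R) : R := x * y + y * x

theorem anti_comm (x y : R) : anti x y = anti y x := add_comm _ _

/-- Cancellation of a nonzero scalar. -/
theorem smul_cancel {c : K} (hc : c ≠ 0) {x : R} (h : c • x = 0) : x = 0 := by
  simpa [smul_smul, hc] using congrArg (c⁻¹ • ·) h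

/-- Four axes of a regular tetrahedron. -/
structure Quad (A : Fin 4 → R) : Prop where
  sum : ∑ i, A i = 0
  sq : ∀ i, A i * A i = (-3 : K) • 1
  anti : ∀ i j, i ≠ j → anti (A i) (A j) = (2 : K) • 1
  van : ∀ Z : R, (∀ i, Z * A i + A i * Z = 0) → Z = 0

namespace Quad

variable {A : Fin 4 → R}

theorem perm (h : Quad (K := K) A) (σ : Equiv.Perm (Fin 4)) : Quad (K := K) (A ∘ σ) where
  sum := (Equiv.sum_comp σ A).trans h.sum
  sq i := h.sq (σ i)
  anti i j hij := h.anti (σ i) (σ j) fun e => hij (σ.injective e)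
  van Z hZ := h.van Z fun i => by simpa using hZ (σ.symm i)

theorem anti_all (h : Quad (K := K) A) (i j : Fin 4) :
    Fpf.anti (A i) (A j) = (if i = j then (-6 : K) else 2) • 1 := by
  by_cases e : i = j
  · subst e
    rw [if_pos rfl, Fpf.anti, h.sq, ← add_smul]
    norm_num
  · rw [if_neg e]; exact h.anti i j e

theorem sum_anti (h : Quad (K := K) A) (C : R) : ∑ i, Fpf.anti (A i) C = 0 := by
  simp only [Fpf.anti, Finset.sum_add_distrib, ← Finset.sum_mul, ← Finset.mul_sum, h.sum,
    zero_mul, mul_zero, add_zero]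

theorem anti_lin (h : Quad (K := K) A) (l : Fin 4 → K) (j : Fin 4) :
    Fpf.anti (∑ i, l i • A i) (A j) = (2 * (∑ i, l i) - 8 * l j) • (1 : R) := by
  have e : Fpf.anti (∑ i, l i • A i) (A j) = ∑ i, l i • Fpf.anti (A i) (A j) := by
    simp only [Fpf.anti, Finset.sum_mul, Finset.mul_sum, smul_mul_assoc, mul_smul_comm, smul_add,
      Finset.sum_add_distrib]
  rw [e]
  simp only [h.anti_all, smul_smul, ← Finset.sum_smul]
  congr 1
  fin_cases j <;> simp [Fin.sum_univ_four] <;> ring

/-- No further axis makes angles `±1/3` with all four axes. -/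
theorem no_scalar_point [Nontrivial R] (h : Quad (K := K) A) (h2 : (2 : K) ≠ 0) {C : R}
    (hC : C * C = (-3 : K) • 1) (l : Fin 4 → K) (hl : ∀ i, Fpf.anti (A i) C = l i • 1)
    (hl2 : ∀ i, l i * l i = 4) : False := by
  have hone : ∀ {c d : K}, c • (1 : R) = d • 1 → c = d := by
    intro c d e
    exact (algebraMap K R).injective (by rw [Algebra.algebraMap_eq_smul_one,
      Algebra.algebraMap_eq_smul_one, e])
  have hsum : ∑ i, l i = 0 := by
    refine hone ?_
    rw [Finset.sum_smul, zero_smul]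
    simp only [← hl, h.sum_anti]
  set S := ∑ i, l i • A i with hS
  have hSA : ∀ j, Fpf.anti S (A j) = (-8 * l j) • (1 : R) := fun j => by
    rw [hS, h.anti_lin, hsum]; congr 1; ring
  have hZ : (8 : K) • C + S = 0 := h.van _ fun j => by
    have : ((8 : K) • C + S) * A j + A j * ((8 : K) • C + S) =
        (8 : K) • Fpf.anti (A j) C + Fpf.anti S (A j) := by
      simp only [Fpf.anti, add_mul, mul_add, smul_mul_assoc, mul_smul_comm, smul_add]; abel
    rw [this, hl, hSA, smul_smul, ← add_smul]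
    rw [show 8 * l j + -8 * l j = 0 by ring, zero_smul]
  have hSS : Fpf.anti S S = (-128 : K) • (1 : R) := by
    have e : Fpf.anti S S = ∑ j, l j • Fpf.anti S (A j) := by
      conv_lhs => rw [Fpf.anti]
      nth_rewrite 2 [hS]
      nth_rewrite 2 [hS]
      simp only [Fpf.anti, Finset.sum_mul, Finset.mul_sum, smul_mul_assoc, mul_smul_comm,
        smul_add, Finset.sum_add_distrib]
    rw [e]
    simp only [hSA, smul_smul, ← Finset.sum_smul]
    congr 1
    simp only [Fin.sum_univ_four]
    linear_combination -8 * hl2 0 - 8 * hl2 1 - 8 * hl2 2 - 8 * hl2 3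
  rw [show S = -((8 : K) • C) from eq_neg_of_add_eq_zero_right hZ, Fpf.anti] at hSS
  simp only [neg_mul_neg, smul_mul_assoc, mul_smul_comm, smul_smul, hC, ← add_smul] at hSS
  have := hone hSS
  have : (2 : K) ^ 8 = 0 := by linear_combination -this
  exact pow_ne_zero 8 h2 this

/-- The formula for a further axis. -/
theorem extra (h : Quad (K := K) A) (h2 : (2 : K) ≠ 0) {C v : R}
    (hv : ∀ i, v * A i = A i * v) (h0 : Fpf.anti (A 0) C = (-2 : K) • 1)
    (h1 : Fpf.anti (A 1) C = (2 : K) • 1) (h3 : Fpf.anti (A 2) C = (-2 : K) • v) :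
    (4 : K) • C = A 0 - A 1 + v * (A 2 - A 3) := by
  have h3' : Fpf.anti (A 3) C = (2 : K) • v := by
    have := h.sum_anti C
    rw [Fin.sum_univ_four, h0, h1, h3] at this
    rw [eq_neg_of_add_eq_zero_right this]
    module
  rw [← sub_eq_zero]
  refine h.van _ fun j => ?_
  have key : ((4 : K) • C - (A 0 - A 1 + v * (A 2 - A 3))) * A j +
      A j * ((4 : K) • C - (A 0 - A 1 + v * (A 2 - A 3))) =
      (4 : K) • Fpf.anti (A j) C - (Fpf.anti (A 0) (A j) - Fpf.anti (A 1) (A j)) -
        v * (Fpf.anti (A 2) (A j) - Fpf.anti (A 3) (A j)) := by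
    simp only [Fpf.anti, sub_mul, mul_sub, add_mul, mul_add, smul_mul_assoc, mul_smul_comm,
      smul_add, mul_assoc]
    simp only [← mul_assoc, ← hv j]
    abel
  rw [key, h.anti_all, h.anti_all, h.anti_all, h.anti_all]
  fin_cases j <;> simp [h0, h1, h3, h3', mul_sub, mul_add, mul_neg, mul_smul_comm] <;> module

end Quad

/-- The anticommutator of two combinations with central coefficients. -/
theorem anti_bil {P Q S T v z : R} (h1 : z * P = P * z) (h2 : z * Q = Q * z) (h3 : v * S = S * v)
    (h4 : v * T = T * v) :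
    anti (P + v * Q) (S + z * T) =
      anti P S + z * anti P T + v * anti Q S + (v * z * (Q * T) + z * v * (T * Q)) := by
  have a1 : P * (z * T) = z * (P * T) := by rw [← mul_assoc, ← h1, mul_assoc]
  have a2 : v * Q * (z * T) = v * z * (Q * T) := by
    rw [mul_assoc, ← mul_assoc Q, ← h2, mul_assoc, ← mul_assoc v]
  have a3 : S * (v * Q) = v * (S * Q) := by rw [← mul_assoc, ← h3, mul_assoc]
  have a4 : z * T * (v * Q) = z * v * (T * Q) := by
    rw [mul_assoc, ← mul_assoc T, ← h4, mul_assoc, ← mul_assoc z]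
  simp only [anti, add_mul, mul_add, a1, a2, a3, a4, mul_assoc v Q S, mul_assoc z T P]
  abel

theorem scalar_inj [Nontrivial R] {c d : K} (e : c • (1 : R) = d • 1) : c = d :=
  (algebraMap K R).injective (by
    rw [Algebra.algebraMap_eq_smul_one, Algebra.algebraMap_eq_smul_one, e])

theorem coeff_eq (h2 : (2 : K) ≠ 0) (h3 : (3 : K) ≠ 0) [Nontrivial R] {v z : R} {k : K}
    (hk : k = 4 ∨ k = 20) (hvv : v * v = (5 : K) • 1) (hzz : z * z = (5 : K) • 1)
    (e : ((3 : K) • (1 : R) - v) * ((3 : K) • 1 - z) = k • 1) : z = -v := by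
  have e1 : (4 : K) • ((3 : K) • (1 : R) - z) = k • ((3 : K) • (1 : R) + v) := by
    have hp : ((3 : K) • (1 : R) + v) * ((3 : K) • 1 - v) = (4 : K) • 1 := by
      simp only [add_mul, mul_sub, smul_mul_assoc, one_mul, mul_smul_comm, mul_one, hvv, smul_smul]
      module
    calc (4 : K) • ((3 : K) • (1 : R) - z) =
        ((3 : K) • (1 : R) + v) * ((3 : K) • 1 - v) * ((3 : K) • 1 - z) := by
          rw [hp, smul_mul_assoc, one_mul]
      _ = ((3 : K) • (1 : R) + v) * (k • 1) := by rw [mul_assoc, e]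
      _ = _ := by rw [mul_smul_comm, mul_one]
  rcases hk with rfl | rfl
  · have : (4 : K) • (z + v) = 0 := by linear_combination (norm := module) -e1
    exact eq_neg_of_add_eq_zero_left (smul_cancel (by
      rw [show (4 : K) = 2 * 2 by norm_num]; exact mul_ne_zero h2 h2) this)
  · exfalso
    have h4 : (4 : K) ≠ 0 := by rw [show (4 : K) = 2 * 2 by norm_num]; exact mul_ne_zero h2 h2
    have hz : z = (-12 : K) • (1 : R) + (-5 : K) • v := by
      rw [← sub_eq_zero]
      refine smul_cancel h4 ?_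
      linear_combination (norm := module) -e1
    rw [hz] at hzz
    simp only [add_mul, mul_add, smul_mul_assoc, mul_smul_comm, one_mul, mul_one, hvv,
      smul_smul] at hzz
    have e2 : (120 : K) • v = (-264 : K) • (1 : R) := by linear_combination (norm := module) hzz
    have e3 := congrArg (fun x => x * x) e2
    simp only [smul_mul_assoc, mul_smul_comm, one_mul, hvv, smul_smul] at e3
    have e4 := scalar_inj e3
    have : (2 : K) ^ 8 * 3 ^ 2 = 0 := by linear_combination e4
    exact mul_ne_zero (pow_ne_zero _ h2) (pow_ne_zero _ h3) this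

/-- Two icosahedral blocks on a common tetrahedron coincide. -/
theorem two_blocks [Nontrivial R] (h2 : (2 : K) ≠ 0) (h3 : (3 : K) ≠ 0) (h5 : (5 : K) ≠ 0)
    {X Y S T C C' C₂ C₃ v v' w z : R}
    (hXX : X * X = (-8 : K) • 1) (hYY : Y * Y = (-8 : K) • 1) (hTT : T * T = (-8 : K) • 1)
    (hXY : anti X Y = 0) (hXS : anti X S = (-8 : K) • 1) (hXT : anti X T = (8 : K) • 1)
    (hYS : anti Y S = (8 : K) • 1) (hYT : anti Y T = (-8 : K) • 1)
    (hvc : v * X = X * v ∧ v * Y = Y * v ∧ v * S = S * v ∧ v * T = T * v)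
    (hv'c : v' * X = X * v' ∧ v' * Y = Y * v' ∧ v' * S = S * v' ∧ v' * T = T * v')
    (hwc : w * X = X * w ∧ w * Y = Y * w) (hzc : z * X = X * z ∧ z * Y = Y * z)
    (hvw : v * w = w * v) (hvz : v * z = z * v)
    (hvv : v * v = (5 : K) • 1) (hv'v' : v' * v' = (5 : K) • 1) (hww : w * w = (5 : K) • 1)
    (hzz : z * z = (5 : K) • 1)
    (eC : (4 : K) • C = X + v * Y) (eC' : (4 : K) • C' = X + v' * Y)
    (eC₂ : (4 : K) • C₂ = Y + w * X) (eC₃ : (4 : K) • C₃ = S + z * T)
    {k₁₂ k₁₃ k₁ k₂ k₃ : K}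
    (hk₁₂ : k₁₂ = 4 ∨ k₁₂ = 20) (d₁₂ : anti C C₂ * anti C C₂ = k₁₂ • 1)
    (hk₁₃ : k₁₃ = 4 ∨ k₁₃ = 20) (d₁₃ : anti C C₃ * anti C C₃ = k₁₃ • 1)
    (hk₁ : k₁ = 4 ∨ k₁ = 20) (d₁ : anti C' C * anti C' C = k₁ • 1)
    (hk₂ : k₂ = 4 ∨ k₂ = 20) (d₂ : anti C' C₂ * anti C' C₂ = k₂ • 1)
    (hk₃ : k₃ = 4 ∨ k₃ = 20) (d₃ : anti C' C₃ * anti C' C₃ = k₃ • 1) : False := by
  have h4 : (4 : K) ≠ 0 := by rw [show (4 : K) = 2 * 2 by norm_num]; exact mul_ne_zero h2 h2
  have h8 : (8 : K) ≠ 0 := by rw [show (8 : K) = 2 * 4 by norm_num]; exact mul_ne_zero h2 h4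
  have h16 : (16 : K) ≠ 0 := by rw [show (16 : K) = 4 * 4 by norm_num]; exact mul_ne_zero h4 h4
  have h64 : (64 : K) ≠ 0 := by rw [show (64 : K) = 4 * 16 by norm_num]; exact mul_ne_zero h4 h16
  have scale : ∀ P Q : R, (16 : K) • anti P Q = anti ((4 : K) • P) ((4 : K) • Q) := fun P Q => by
    simp only [anti, smul_mul_assoc, mul_smul_comm, smul_smul, smul_add]; norm_num
  have hcancel : ∀ {c : K}, c ≠ 0 → ∀ {P Q : R}, c • P = c • Q → P = Q := fun hc P Q e =>
    sub_eq_zero.1 (smul_cancel hc (by rw [smul_sub, e, sub_self]))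
  have hYX : Y * X = -(X * Y) := eq_neg_of_add_eq_zero_right hXY
  have eXX : anti X X = (-16 : K) • (1 : R) := by rw [anti, hXX, ← add_smul]; norm_num
  have eYY : anti Y Y = (-16 : K) • (1 : R) := by rw [anti, hYY, ← add_smul]; norm_num
  -- the second block point fixes `w`
  have e12 : anti C C₂ = -(v + w) := hcancel h16 (by
    rw [scale, eC, eC₂, anti_bil hwc.1 hwc.2 hvc.2.1 hvc.1, hXY, eXX, eYY, ← hvw, hYX,
      mul_smul_comm, mul_smul_comm, mul_one, mul_one, mul_neg]
    module)
  have hwv : w = v := by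
    rw [e12, neg_mul_neg] at d₁₂
    have e : (2 : K) • (v * w) = (k₁₂ - 10) • (1 : R) := by
      simp only [add_mul, mul_add, hvv, hww, ← hvw] at d₁₂
      linear_combination (norm := module) d₁₂
    rcases hk₁₂ with rfl | rfl
    · exfalso
      have e1 : v * w = (-3 : K) • (1 : R) := hcancel h2 (by rw [e, smul_smul]; norm_num)
      have e2 := congrArg (fun q => q * q) e1
      simp only [smul_mul_assoc, mul_smul_comm, one_mul, smul_smul] at e2
      rw [mul_assoc, ← mul_assoc w, ← hvw, mul_assoc, hww, mul_smul_comm, mul_one, mul_smul_comm,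
        hvv, smul_smul] at e2
      exact h16 (by linear_combination scalar_inj e2)
    · have e1 : v * w = (5 : K) • (1 : R) := hcancel h2 (by rw [e, smul_smul]; norm_num)
      refine hcancel h5 ?_
      calc (5 : K) • w = v * v * w := by rw [hvv, smul_mul_assoc, one_mul]
        _ = (5 : K) • v := by rw [mul_assoc, e1, mul_smul_comm, mul_one]
  -- the third block point fixes `z`
  have hzv : z = -v := by
    have e13 : anti C C₃ * (2 : K) • (1 : R) = -(((1 : R) - v) * (1 - z)) := hcancel h8 (by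
      rw [mul_smul_comm, mul_one, smul_smul, show (8 : K) * 2 = 16 by norm_num, scale, eC, eC₃,
        anti_bil hzc.1 hzc.2 hvc.2.2.1 hvc.2.2.2, hXS, hXT, hYS, ← hvz, ← mul_add,
        show Y * T + T * Y = _ from hYT, mul_smul_comm, mul_smul_comm, mul_smul_comm, mul_one,
        mul_one, mul_one, sub_mul, mul_sub, mul_sub, one_mul, mul_one, one_mul]
      module)
    refine coeff_eq h2 h3 hk₁₃ hvv hzz (hcancel h4 ?_)
    have e := congrArg (fun q => q * q) e13
    simp only [mul_smul_comm, smul_mul_assoc, mul_one, smul_smul, d₁₃, neg_mul_neg] at e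
    have e' : ((1 : R) - v) * (1 - z) * ((1 - v) * (1 - z)) =
        ((1 : R) - v) * (1 - v) * ((1 - z) * (1 - z)) := by
      rw [mul_assoc, mul_assoc, ← mul_assoc (1 - z),
        show (1 - z) * (1 - v) = (1 - v) * ((1 : R) - z) by
          simp only [sub_mul, mul_sub, one_mul, mul_one, hvz]; abel, mul_assoc]
    rw [e'] at e
    simp only [sub_mul, mul_sub, one_mul, mul_one, hvv, hzz] at e
    simp only [sub_mul, mul_sub, one_mul, mul_one, smul_mul_assoc, mul_smul_comm, smul_smul]
    simp only [add_mul, mul_add, sub_mul, mul_sub, smul_mul_assoc, mul_smul_comm, one_mul,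
      mul_one] at e
    linear_combination (norm := module) -e
  subst hwv; subst hzv
  -- the two invariants of the two coefficients
  set σ := w * v' + v' * w with hσ
  set W := w * v' - v' * w with hW
  set P := w + v' with hP
  set Z := Y * T - T * Y with hZ
  have hWP : W * P + P * W = 0 := by
    simp only [hW, hP, sub_mul, mul_sub, add_mul, mul_add]
    rw [← mul_assoc w w v', hvv, mul_assoc v' w w, hvv, ← mul_assoc v' v' w, hv'v',
      mul_assoc w v' v', hv'v', mul_assoc w v' w, mul_assoc v' w v', smul_mul_assoc,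
      mul_smul_comm, smul_mul_assoc, mul_smul_comm, one_mul, mul_one, one_mul, mul_one]
    abel
  have hA : w * v' * (v' * w) = (25 : K) • (1 : R) := by
    rw [mul_assoc, ← mul_assoc v', hv'v', smul_mul_assoc, one_mul, mul_smul_comm, hvv, smul_smul]
    norm_num
  have hB : v' * w * (w * v') = (25 : K) • (1 : R) := by
    rw [mul_assoc, ← mul_assoc w, hvv, smul_mul_assoc, one_mul, mul_smul_comm, hv'v', smul_smul]
    norm_num
  have hWW : W * W = σ * σ - (100 : K) • 1 := by
    simp only [hW, hσ, sub_mul, mul_sub, add_mul, mul_add, hA, hB]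
    module
  have hPP : P * P = (10 : K) • 1 + σ := by
    simp only [hP, hσ, add_mul, mul_add, hvv, hv'v']
    module
  have e1 : (2 : K) • anti C' C = -((2 : K) • 1 + σ) := hcancel h8 (by
    rw [smul_smul, show (8 : K) * 2 = 16 by norm_num, scale, eC', eC,
      anti_bil hvc.1 hvc.2.1 hv'c.1 hv'c.2.1, hXY, eXX, anti_comm Y X, hXY, mul_zero, mul_zero,
      hYY, mul_smul_comm, mul_one, mul_smul_comm, mul_one, hσ]
    module)
  have T1 : ((2 : K) • (1 : R) + σ) * ((2 : K) • 1 + σ) = (4 * k₁) • 1 := by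
    rw [← neg_mul_neg, ← e1, smul_mul_assoc, mul_smul_comm, d₁, smul_smul, smul_smul]
    norm_num
  have hXYc : ∀ {u : R}, u * X = X * u → u * Y = Y * u → u * (X * Y) = X * Y * u := fun a b => by
    rw [← mul_assoc, a, mul_assoc, b, mul_assoc]
  have hWXY : W * (X * Y) = X * Y * W := by
    simp only [hW, sub_mul, mul_sub]
    rw [mul_assoc w, hXYc hv'c.1 hv'c.2.1, ← mul_assoc w, hXYc hvc.1 hvc.2.1, mul_assoc v',
      hXYc hvc.1 hvc.2.1, ← mul_assoc v', hXYc hv'c.1 hv'c.2.1]
    simp only [mul_assoc]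
  have hPXY : P * (X * Y) = X * Y * P := by
    simp only [hP, add_mul, mul_add, hXYc hvc.1 hvc.2.1, hXYc hv'c.1 hv'c.2.1]
  have hXY2 : X * Y * (X * Y) = (-64 : K) • (1 : R) := by
    rw [mul_assoc, ← mul_assoc Y, hYX, neg_mul, mul_assoc, hYY, mul_smul_comm, mul_one, mul_neg,
      mul_smul_comm, hXX, smul_smul]
    module
  have e2 : (16 : K) • anti C' C₂ = (-16 : K) • P + W * (X * Y) := by
    rw [scale, eC', eC₂, anti_bil hvc.1 hvc.2.1 hv'c.2.1 hv'c.1, hXY, eXX, eYY, hYX, hW, hP,
      mul_smul_comm, mul_smul_comm, mul_one, mul_one, mul_neg, sub_mul]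
    module
  have T2 : (140 : K) • (1 : R) + (4 : K) • σ - σ * σ = (4 * k₂) • 1 := hcancel h64 (by
    have e := congrArg (fun q => q * q) e2
    simp only [smul_mul_assoc, mul_smul_comm, d₂, smul_smul, add_mul, mul_add] at e
    have i1 : W * (X * Y) * (W * (X * Y)) = (-64 : K) • (W * W) := by
      calc _ = W * W * (X * Y * (X * Y)) := by
            rw [mul_assoc W, ← mul_assoc (X * Y), ← hWXY]; simp only [mul_assoc]
        _ = _ := by rw [hXY2, mul_smul_comm, mul_one]
    have i2 : P * (W * (X * Y)) = -(W * (X * Y) * P) := by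
      rw [mul_assoc W, ← hPXY, ← mul_assoc P, ← mul_assoc W, eq_neg_iff_add_eq_zero, ← add_mul,
        add_comm, hWP, zero_mul]
    rw [i1, i2, hPP, hWW] at e
    linear_combination (norm := module) -e)
  have h8σ : (8 : K) • σ = (4 * k₁ + 4 * k₂ - 144) • (1 : R) := by
    simp only [add_mul, mul_add, smul_mul_assoc, mul_smul_comm, one_mul, mul_one, smul_smul] at T1
    linear_combination (norm := module) T1 + T2
  have hσs : σ = ((4 * k₁ + 4 * k₂ - 144) / 8) • (1 : R) := hcancel h8 (by
    rw [h8σ, smul_smul, mul_div_cancel₀ _ h8])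
  have t1 : (2 + (4 * k₁ + 4 * k₂ - 144) / 8) ^ 2 = 4 * k₁ := by
    refine scalar_inj (R := R) ?_
    rw [← T1, hσs]
    simp only [add_mul, mul_add, smul_mul_assoc, mul_smul_comm, one_mul, mul_one, smul_smul]
    module
  have hσ6 : σ = (-6 : K) • (1 : R) := by
    rcases hk₁ with rfl | rfl <;> rcases hk₂ with rfl | rfl <;> field_simp at t1
    · exact absurd (by linear_combination t1 : (2 : K) ^ 13 = 0) (pow_ne_zero _ h2)
    · rw [hσs]; congr 1; field_simp; ring
    · exact absurd (by linear_combination -t1 : (2 : K) ^ 12 = 0) (pow_ne_zero _ h2)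
    · exact absurd (by linear_combination -t1 : (2 : K) ^ 12 = 0) (pow_ne_zero _ h2)
  -- the third point gives the contradiction
  set U := (16 : K) • (v' - w) + W * Z with hU
  have e3 : (32 : K) • anti C' C₃ = (-64 : K) • 1 + U := by
    have eYT : (2 : K) • (Y * T) = (-8 : K) • (1 : R) + Z := by rw [← hYT, anti, hZ]; module
    have eTY : (2 : K) • (T * Y) = (-8 : K) • (1 : R) - Z := by rw [← hYT, anti, hZ]; module
    have : (16 : K) • anti C' C₃ = anti X S + -w * anti X T + v' * anti Y S +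
        (v' * -w * (Y * T) + -w * v' * (T * Y)) := by
      rw [scale, eC', eC₃]
      exact anti_bil hzc.1 hzc.2 hv'c.2.2.1 hv'c.2.2.2
    calc (32 : K) • anti C' C₃ = (2 : K) • ((16 : K) • anti C' C₃) := by
          rw [smul_smul]; norm_num
      _ = _ := by
        rw [this, hXS, hXT, hYS]
        simp only [smul_add, neg_mul, mul_neg, smul_neg, ← mul_smul_comm (2 : K) (v' * w) (Y * T),
          ← mul_smul_comm (2 : K) (w * v') (T * Y), eYT, eTY]
        simp only [mul_add, mul_sub, mul_smul_comm, mul_one, hU, hW, sub_mul]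
        have := hσ6
        rw [hσ] at this
        linear_combination (norm := module) (8 : K) • this
  have hZc : ∀ {u : R}, u * Y = Y * u → u * T = T * u → u * Z = Z * u := fun a b => by
    simp only [hZ, mul_sub, sub_mul]
    congr 1
    · rw [← mul_assoc, a, mul_assoc, b, ← mul_assoc]
    · rw [← mul_assoc, b, mul_assoc, a, ← mul_assoc]
  have hWZ : W * Z = Z * W := by
    simp only [hW, sub_mul, mul_sub]
    rw [mul_assoc w, hZc hv'c.2.1 hv'c.2.2.2, ← mul_assoc w, hZc hvc.2.1 hvc.2.2.2, mul_assoc v',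
      hZc hvc.2.1 hvc.2.2.2, ← mul_assoc v', hZc hv'c.2.1 hv'c.2.2.2]
    simp only [mul_assoc]
  have hPD : P * (v' - w) + (v' - w) * P = 0 := by
    simp only [hP, add_mul, mul_add, sub_mul, mul_sub, hvv, hv'v']; abel
  have hPU : P * U + U * P = 0 := by
    have hPZ : P * Z = Z * P := by
      simp only [hP, add_mul, mul_add, hZc hvc.2.1 hvc.2.2.2, hZc hv'c.2.1 hv'c.2.2.2]
    have i : P * (W * Z) + W * Z * P = 0 := by
      rw [mul_assoc W, ← hPZ, ← mul_assoc P, ← mul_assoc W, ← add_mul, add_comm, hWP, zero_mul]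
    simp only [hU, mul_add, add_mul, mul_smul_comm, smul_mul_assoc]
    linear_combination (norm := module) (16 : K) • hPD + i
  have hZZ : Z * Z = (-192 : K) • (1 : R) := by
    have hYY' : ∀ u : R, Y * (Y * u) = (-8 : K) • u := fun u => by
      rw [← mul_assoc, hYY, smul_mul_assoc, one_mul]
    have hTT' : ∀ u : R, T * (T * u) = (-8 : K) • u := fun u => by
      rw [← mul_assoc, hTT, smul_mul_assoc, one_mul]
    have hsq := congrArg (fun q => q * q) hYT
    simp only [anti, add_mul, mul_add, smul_mul_assoc, mul_smul_comm, one_mul, smul_smul,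
      mul_assoc, hYY', hTT', hYY, hTT] at hsq
    simp only [hZ, sub_mul, mul_sub, mul_assoc, hYY', hTT', mul_smul_comm, mul_one, hYY, hTT,
      smul_smul] at hsq ⊢
    linear_combination (norm := module) hsq
  have hDD : (v' - w) * (v' - w) = (16 : K) • (1 : R) := by
    have := hσ6
    rw [hσ] at this
    simp only [sub_mul, mul_sub, hvv, hv'v']
    linear_combination (norm := module) -this
  have hWW' : W * W = (-64 : K) • (1 : R) := by
    rw [hWW, hσ6]; simp only [smul_mul_assoc, mul_smul_comm, one_mul, smul_smul]; module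
  have hDW : (v' - w) * W + W * (v' - w) = 0 := by
    simp only [hW, sub_mul, mul_sub]
    rw [← mul_assoc w w v', hvv, mul_assoc v' w w, hvv, ← mul_assoc v' v' w, hv'v',
      mul_assoc w v' v', hv'v', mul_assoc w v' w, mul_assoc v' w v', smul_mul_assoc,
      mul_smul_comm, smul_mul_assoc, mul_smul_comm, one_mul, mul_one, one_mul, mul_one]
    abel
  have hUU : U * U = (16384 : K) • (1 : R) := by
    have hDZ : (v' - w) * Z = Z * (v' - w) := by
      simp only [sub_mul, mul_sub, hZc hvc.2.1 hvc.2.2.2, hZc hv'c.2.1 hv'c.2.2.2]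
    have i1 : (v' - w) * (W * Z) + W * Z * (v' - w) = 0 := by
      rw [mul_assoc W, ← hDZ, ← mul_assoc, ← mul_assoc W, ← add_mul, hDW, zero_mul]
    have i2 : W * Z * (W * Z) = (12288 : K) • (1 : R) := by
      calc _ = W * W * (Z * Z) := by rw [mul_assoc W, ← mul_assoc Z, ← hWZ]; simp only [mul_assoc]
        _ = _ := by rw [hWW', hZZ, smul_mul_assoc, one_mul, smul_smul]; norm_num
    simp only [hU, add_mul, mul_add, smul_mul_assoc, mul_smul_comm, smul_smul, hDD, i2]
    linear_combination (norm := module) (16 : K) • i1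
  have hUs : (128 : K) • U = (20480 - 1024 * k₃) • (1 : R) := by
    have e := congrArg (fun q => q * q) e3
    simp only [smul_mul_assoc, mul_smul_comm, d₃, smul_smul, add_mul, mul_add, one_mul, mul_one,
      hUU] at e
    linear_combination (norm := module) e
  rcases hk₃ with rfl | rfl
  · have hUc : U = (128 : K) • (1 : R) := hcancel (c := (128 : K))
      (by rw [show (128 : K) = 2 * 64 by norm_num]; exact mul_ne_zero h2 h64)
      (by rw [hUs, smul_smul]; norm_num)
    rw [hUc, mul_smul_comm, smul_mul_assoc, mul_one, one_mul, ← add_smul] at hPU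
    have hP0 : P = 0 := smul_cancel (by
      rw [show (128 : K) + 128 = 4 * 64 by norm_num]; exact mul_ne_zero h4 h64) hPU
    rw [hP0, zero_mul, hσ6, ← add_smul] at hPP
    exact h4 (by
      have := scalar_inj (R := R) (c := (0 : K)) (d := 10 + -6) (by rw [zero_smul]; exact hPP)
      linear_combination -this)
  · have hU0 : U = 0 := smul_cancel
      (show (128 : K) ≠ 0 by rw [show (128 : K) = 2 * 64 by norm_num]; exact mul_ne_zero h2 h64)
      (by rw [hUs]; norm_num)
    rw [hU0, mul_zero] at hUU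
    have := scalar_inj (R := R) (c := (0 : K)) (d := 16384) (by rw [zero_smul]; exact hUU)
    exact pow_ne_zero 14 h2 (by linear_combination -this)

end Cfsg.Agent.Perm.Fpf
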