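import Cfsg.Agent.Lib.Perm.Fpf.SL25Model

/-!
The elements of order three of `SL(2,5)`.
-/

set_option autoImplicit false
set_option linter.style.haveILetI false

namespace Cfsg.Agent.Perm.Fpf

universe u

/-- The braid relation. -/
def Braid {α : Type u} [Mul α] (a b : α) : Prop := a * b * a = b * a * b

/-- Two elements of order three at an icosahedral angle. -/
def Ico {α : Type u} [Mul α] (a b : α) : Prop :=
  a * b ≠ b * a ∧ ¬ Braid a b ∧ ¬ Braid a (b * b)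

namespace SL25

/-- A two-by-two matrix over the field of five elements. -/
structure T where
  p : ZMod 5
  q : ZMod 5
  r : ZMod 5
  s : ZMod 5
deriving DecidableEq

instance : Mul T :=
  ⟨fun x y => ⟨x.p * y.p + x.q * y.r, x.p * y.q + x.q * y.s, x.r * y.p + x.s * y.r,
    x.r * y.q + x.s * y.s⟩⟩

instance (a b : T) : Decidable (Braid a b) := inferInstanceAs (Decidable (_ = _))
instance (a b : T) : Decidable (Ico a b) := inferInstanceAs (Decidable (_ ∧ _ ∧ _))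

/-- The elements of order three. -/
def three : List T := [
  ⟨0, 1, 4, 4⟩, ⟨0, 2, 2, 4⟩, ⟨0, 3, 3, 4⟩, ⟨0, 4, 1, 4⟩, ⟨1, 1, 2, 3⟩, ⟨1, 2, 1, 3⟩, ⟨1, 3, 4, 3⟩, ⟨1, 4, 3, 3⟩, ⟨2, 1, 3, 2⟩, ⟨2, 2, 4, 2⟩, ⟨2, 3, 1, 2⟩, ⟨2, 4, 2, 2⟩, ⟨3, 1, 2, 1⟩, ⟨3, 2, 1, 1⟩, ⟨3, 3, 4, 1⟩, ⟨3, 4, 3, 1⟩, ⟨4, 1, 4, 0⟩, ⟨4, 2, 2, 0⟩, ⟨4, 3, 3, 0⟩, ⟨4, 4, 1, 0⟩]

theorem three_nodup : three.Nodup ∧ three.length = 20 := by decide +kernel

theorem three_det : ∀ x ∈ three,
    x.p * x.s - x.q * x.r = 1 ∧ x * x * x = ⟨1, 0, 0, 1⟩ ∧ x ≠ ⟨1, 0, 0, 1⟩ := by decide +kernel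

theorem three_complete : ∀ p q r s : ZMod 5, p * s - q * r = 1 →
    (⟨p, q, r, s⟩ : T) * ⟨p, q, r, s⟩ * ⟨p, q, r, s⟩ = ⟨1, 0, 0, 1⟩ →
    (⟨p, q, r, s⟩ : T) ≠ ⟨1, 0, 0, 1⟩ → (⟨p, q, r, s⟩ : T) ∈ three := by decide +kernel

theorem three_ico : ∀ a ∈ three, (three.filter fun b => decide (Ico a b)).length = 6 := by
  decide +kernel

/-- The angle conditions on a further axis. -/
def Point {α : Type u} [Mul α] (qi qj qk y : α) : Prop :=
  qi * y ≠ y * qi ∧ qj * y ≠ y * qj ∧ Braid qi (y * y) ∧ Braid qj y ∧ Ico qk y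

instance (a b c d : T) : Decidable (Point a b c d) :=
  inferInstanceAs (Decidable (_ ∧ _ ∧ _ ∧ _ ∧ _))

theorem three_points : ∀ a ∈ three, ∀ b ∈ three, a * b ≠ b * a → Braid a b →
    (three.any fun y => decide (Point a b (a * b * (a * a)) y)) = true ∧
    (three.any fun y => decide (Point (a * b * (a * a)) (a * a * b * a) a y)) = true ∧
    (three.any fun y => decide (Point a (a * b * (a * a)) b y)) = true := by decide +kernel

/-- The entries of an element. -/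
def toT (g : SL) : T := ⟨g.1 0 0, g.1 0 1, g.1 1 0, g.1 1 1⟩

theorem toT_injective : Function.Injective toT := by
  intro g h e
  simp only [toT, T.mk.injEq] at e
  refine Subtype.ext ?_
  ext i j
  fin_cases i <;> fin_cases j <;> simp [e]

theorem toT_mul (g h : SL) : toT (g * h) = toT g * toT h := by
  show toT (g * h) = ⟨_, _, _, _⟩
  simp [toT, Matrix.SpecialLinearGroup.coe_mul, Matrix.mul_apply, Fin.sum_univ_two]

theorem toT_one : toT 1 = ⟨1, 0, 0, 1⟩ := by simp [toT]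

theorem toT_mem_three {g : SL} : toT g ∈ three ↔ g ^ 3 = 1 ∧ g ≠ 1 := by
  constructor
  · intro hg
    obtain ⟨-, h3, h1⟩ := three_det _ hg
    refine ⟨toT_injective ?_, fun e => h1 (by rw [e, toT_one])⟩
    rw [pow_three', toT_mul, toT_mul, h3, toT_one]
  · rintro ⟨h3, h1⟩
    refine three_complete _ _ _ _ ?_ ?_ fun e => h1 (toT_injective (e.trans toT_one.symm))
    · rw [← Matrix.det_fin_two]; exact g.2
    · show toT g * toT g * toT g = _
      rw [← toT_mul, ← toT_mul, ← pow_three', h3, toT_one]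

theorem exists_toT {x : T} (hx : x ∈ three) : ∃ g : SL, toT g = x := by
  obtain ⟨hd, -, -⟩ := three_det x hx
  exact ⟨⟨!![x.p, x.q; x.r, x.s], by rw [Matrix.det_fin_two_of]; exact hd⟩, by simp [toT]⟩

section Transport

variable {H : Type u} [Group H] (e : H ≃* SL)
include e

theorem to_mul (x y : H) : toT (e (x * y)) = toT (e x) * toT (e y) := by
  rw [map_mul, toT_mul]

theorem to_eq {x y : H} : toT (e x) = toT (e y) ↔ x = y :=
  toT_injective.eq_iff.trans e.injective.eq_iff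

theorem to_braid {x y : H} : Braid (toT (e x)) (toT (e y)) ↔ Braid x y := by
  simp only [Braid, ← to_mul, to_eq]

theorem to_ico {x y : H} : Ico (toT (e x)) (toT (e y)) ↔ Ico x y := by
  simp only [Ico, Ne, ← to_mul, to_eq, to_braid]

theorem to_mem {x : H} : toT (e x) ∈ three ↔ x ^ 3 = 1 ∧ x ≠ 1 := by
  rw [toT_mem_three, ← map_pow, MulEquiv.map_eq_one_iff, Ne, MulEquiv.map_eq_one_iff]

theorem exists_to {x : T} (hx : x ∈ three) : ∃ h : H, toT (e h) = x := by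
  obtain ⟨g, hg⟩ := exists_toT hx
  exact ⟨e.symm g, by rw [e.apply_symm_apply, hg]⟩

theorem card_three : Nat.card {x : H // x ^ 3 = 1 ∧ x ≠ 1} = 20 := by
  have hb : Function.Bijective (fun x : {x : H // x ^ 3 = 1 ∧ x ≠ 1} =>
      (⟨toT (e x), (to_mem e).2 x.2⟩ : {y // y ∈ three})) := by
    refine ⟨fun x y h => Subtype.ext ((to_eq e).1 (congrArg Subtype.val h)), fun y => ?_⟩
    obtain ⟨h, hh⟩ := exists_to e y.2
    exact ⟨⟨h, (to_mem e).1 (hh ▸ y.2)⟩, Subtype.ext hh⟩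
  rw [Nat.card_congr (Equiv.ofBijective _ hb), Nat.card_eq_fintype_card,
    Fintype.card_of_subtype three.toFinset (fun x => List.mem_toFinset),
    List.toFinset_card_of_nodup three_nodup.1, three_nodup.2]

theorem card_ico {x : H} (hx : x ^ 3 = 1 ∧ x ≠ 1) :
    Nat.card {y : H // (y ^ 3 = 1 ∧ y ≠ 1) ∧ Ico x y} = 6 := by
  have hl := three_ico _ ((to_mem e).2 hx)
  set l := three.filter fun b => decide (Ico (toT (e x)) b) with hldef
  have hmem : ∀ b, b ∈ l ↔ b ∈ three ∧ Ico (toT (e x)) b := by simp [hldef]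
  have hb : Function.Bijective (fun y : {y : H // (y ^ 3 = 1 ∧ y ≠ 1) ∧ Ico x y} =>
      (⟨toT (e y), (hmem _).2 ⟨(to_mem e).2 y.2.1, (to_ico e).2 y.2.2⟩⟩ : {z // z ∈ l})) := by
    refine ⟨fun y z h => Subtype.ext ((to_eq e).1 (congrArg Subtype.val h)), fun z => ?_⟩
    obtain ⟨h, hh⟩ := exists_to e ((hmem _).1 z.2).1
    refine ⟨⟨h, (to_mem e).1 (hh ▸ ((hmem _).1 z.2).1), (to_ico e).1 ?_⟩, Subtype.ext hh⟩
    rw [hh]; exact ((hmem _).1 z.2).2
  rw [Nat.card_congr (Equiv.ofBijective _ hb), Nat.card_eq_fintype_card,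
    Fintype.card_of_subtype l.toFinset (fun x => List.mem_toFinset),
    List.toFinset_card_of_nodup (three_nodup.1.filter _), hl]

theorem exists_points {a b : H} (ha : a ^ 3 = 1 ∧ a ≠ 1) (hb : b ^ 3 = 1 ∧ b ≠ 1)
    (hne : a * b ≠ b * a) (hbr : Braid a b) :
    (∃ y : H, (y ^ 3 = 1 ∧ y ≠ 1) ∧ Point a b (a * b * (a * a)) y) ∧
    (∃ y : H, (y ^ 3 = 1 ∧ y ≠ 1) ∧ Point (a * b * (a * a)) (a * a * b * a) a y) ∧
    (∃ y : H, (y ^ 3 = 1 ∧ y ≠ 1) ∧ Point a (a * b * (a * a)) b y) := by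
  have hp := three_points _ ((to_mem e).2 ha) _ ((to_mem e).2 hb)
    (by simpa only [← to_mul, Ne, to_eq] using hne) ((to_braid e).2 hbr)
  have key : ∀ {p q r : H}, (three.any fun y => decide (Point (toT (e p)) (toT (e q)) (toT (e r)) y))
      = true → ∃ y : H, (y ^ 3 = 1 ∧ y ≠ 1) ∧ Point p q r y := by
    intro p q r h
    obtain ⟨y, hy, hy'⟩ := List.any_eq_true.1 h
    obtain ⟨g, rfl⟩ := exists_to e hy
    refine ⟨g, (to_mem e).1 hy, ?_⟩
    simpa only [Point, Ne, ← to_mul, to_eq, to_braid, to_ico] using of_decide_eq_true hy'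
  simp only [← to_mul] at hp
  exact ⟨key hp.1, key hp.2.1, key hp.2.2⟩

end Transport

end SL25

end Cfsg.Agent.Perm.Fpf
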