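import Cfsg.Agent.Lib.Perm.Fpf.PairRep
import Cfsg.Agent.Lib.Perm.Fpf.Quad
import Cfsg.Agent.Lib.Perm.Fpf.SL25Facts
import Cfsg.Agent.Lib.Char.Burnside

/-!
Fixed-point-free groups generated by elements of order three.
-/

set_option autoImplicit false
set_option linter.style.haveILetI false

namespace Cfsg.Agent.Perm.Fpf

universe u v w

variable {K : Type u} [Field K] {V : Type v} [AddCommGroup V] [Module K V]
  {G : Type w} [Group G] {ρ : G →* Module.End K V}

/-- An element of order three. -/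
def Tri (a : G) : Prop := a ^ 3 = 1 ∧ a ≠ 1

theorem Tri.mul3 {a : G} (h : Tri a) : a * a * a = 1 := by rw [← pow_three']; exact h.1

theorem Tri.sq {a : G} (h : Tri a) : Tri (a * a) := by
  refine ⟨?_, fun e => h.2 ?_⟩
  · rw [pow_three', show a * a * (a * a) * (a * a) = (a * a * a) * (a * a * a) by group, h.mul3,
      one_mul]
  · have := h.mul3; rwa [e, one_mul] at this

theorem Tri.sq_sq {a : G} (h : Tri a) : a * a * (a * a) = a := by
  rw [show a * a * (a * a) = a * a * a * a by group, h.mul3, one_mul]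

theorem Tri.inv {a : G} (h : Tri a) : a⁻¹ = a * a :=
  inv_eq_of_mul_eq_one_right (by rw [← mul_assoc]; exact h.mul3)

theorem Tri.conj {a : G} (h : Tri a) (x : G) : Tri (x * a * x⁻¹) := by
  refine ⟨by rw [conj_pow, h.1, mul_one, mul_inv_cancel], fun e => h.2 ?_⟩
  simpa using (mul_inv_eq_one.1 e)

theorem dd_comm_symm (a b : G) : dd ρ a b = dd ρ b a := add_comm _ _

theorem dd_eq_anti (a b : G) : dd ρ a b = anti (ax ρ a) (ax ρ b) := rfl

theorem ax_conj (x a : G) : ax ρ (x * a * x⁻¹) = ρ x * ax ρ a * ρ x⁻¹ := by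
  have e : ρ x * ρ x⁻¹ = 1 := by rw [← map_mul, mul_inv_cancel, map_one]
  simp only [ax, map_mul]
  rw [mul_add, add_mul, mul_one, e]
  congr 1
  simp only [two_mul, mul_add, add_mul]

/-- The four axes through a braided pair. -/
def qd (a b : G) : Fin 4 → G := ![a, b, a * b * (a * a), a * a * b * a]

theorem tri_qd {a b : G} (ha : Tri a) (hb : Tri b) (i : Fin 4) : Tri (qd a b i) := by
  fin_cases i
  · exact ha
  · exact hb
  · show Tri (a * b * (a * a)); rw [← ha.inv]; exact hb.conj a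
  · show Tri (a * a * b * a)
    have := hb.conj (a * a)
    rwa [ha.sq.inv, ha.sq_sq] at this

/-- The commutant of a linear map in the group. -/
def fixer (ρ : G →* Module.End K V) (f : Module.End K V) : Subgroup G where
  carrier := {g | ρ g * f = f * ρ g}
  one_mem' := by simp
  mul_mem' := fun {x y} hx hy => by
    show ρ (x * y) * f = f * ρ (x * y)
    rw [map_mul, mul_assoc, show ρ y * f = _ from hy, ← mul_assoc, show ρ x * f = _ from hx,
      mul_assoc]
  inv_mem' := fun {x} hx => by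
    show ρ x⁻¹ * f = f * ρ x⁻¹
    calc ρ x⁻¹ * f = ρ x⁻¹ * (f * ρ x) * ρ x⁻¹ := by
          rw [mul_assoc, mul_assoc f, ← map_mul ρ x, mul_inv_cancel, map_one, mul_one]
      _ = f * ρ x⁻¹ := by
          rw [← show ρ x * f = f * ρ x from hx, ← mul_assoc, ← map_mul ρ x⁻¹, inv_mul_cancel,
            map_one, one_mul]

theorem card_block {B : Subgroup G} (hB : Nonempty (B ≃* SL25.SL)) : Nat.card B = 120 := by
  obtain ⟨e⟩ := hB
  rw [Nat.card_congr e.toEquiv, SL25.card_SL]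

variable (h : IsFpf ρ)
include h

theorem IsFpf.cancel_right [FiniteDimensional K V] {g : G} (hg : g ≠ 1) {f : Module.End K V}
    (hf : f * (ρ g - 1) = 0) : f = 0 := by
  have hinj : Function.Injective (ρ g - 1 : Module.End K V) := by
    rw [injective_iff_map_eq_zero]
    intro x hx
    exact h g hg x (sub_eq_zero.1 hx)
  refine LinearMap.ext fun x => ?_
  obtain ⟨y, rfl⟩ := LinearMap.surjective_of_injective hinj x
  exact LinearMap.congr_fun hf y

theorem IsFpf.ax_sq_eq {a : G} (ha : Tri a) : ax ρ a * ax ρ a = (-3 : K) • 1 := by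
  have e := h.cube ha.2 ha.1
  rw [show ax ρ a * ax ρ a = (4 : K) • (ρ a * ρ a + ρ a + 1) + (-3 : K) • 1 by
    simp only [ax, two_mul, add_mul, mul_add, one_mul, mul_one]; module, e, smul_zero, zero_add]

theorem IsFpf.ax_inv {a : G} (ha : Tri a) : ax ρ (a * a) = -ax ρ a := by
  have e := h.cube ha.2 ha.1
  rw [ax, ax, map_mul, eq_neg_iff_add_eq_zero, show 2 * (ρ a * ρ a) + 1 + (2 * ρ a + 1) =
    2 * (ρ a * ρ a + ρ a + 1) by simp only [two_mul]; abel, e, mul_zero]

theorem IsFpf.dd_inv {a b : G} (hb : Tri b) : dd ρ a (b * b) = -dd ρ a b := by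
  rw [dd, dd, h.ax_inv hb, mul_neg, neg_mul, neg_add]

theorem IsFpf.dd_commute (h2 : (2 : K) ≠ 0) {a b : G} (ha : Tri a) :
    ρ a * dd ρ a b = dd ρ a b * ρ a := by
  have e : (2 : K) • (ρ a * dd ρ a b - dd ρ a b * ρ a) =
      ax ρ a * ax ρ a * ax ρ b - ax ρ b * (ax ρ a * ax ρ a) := by
    have hA : (2 : K) • ρ a = ax ρ a - 1 := by
      rw [ax, add_sub_cancel_right, two_mul, two_smul]
    rw [smul_sub, ← smul_mul_assoc, ← mul_smul_comm, hA, dd]
    simp only [sub_mul, mul_sub, add_mul, mul_add, one_mul, mul_one, mul_assoc]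
    abel
  rw [h.ax_sq_eq ha, smul_mul_assoc, one_mul, mul_smul_comm, mul_one, sub_self] at e
  exact sub_eq_zero.1 (smul_cancel h2 e)

theorem IsFpf.dd_commute' (h2 : (2 : K) ≠ 0) {a b : G} (hb : Tri b) :
    ρ b * dd ρ a b = dd ρ a b * ρ b := by
  rw [dd_comm_symm]; exact h.dd_commute h2 hb

theorem IsFpf.braid_iff [FiniteDimensional K V] [Nontrivial V] (h2 : (2 : K) ≠ 0) {a b : G}
    (ha : Tri a) (hb : Tri b) (hne : a ≠ b) : Braid a b ↔ dd ρ a b = (2 : K) • 1 := by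
  have key : (8 : K) • (ρ (a * b * a) - ρ (b * a * b)) =
      (dd ρ a b - (2 : K) • 1) * (ax ρ a - ax ρ b) := by
    have hA : (2 : K) • ρ a = ax ρ a - 1 := by
      rw [ax, add_sub_cancel_right, two_mul, two_smul]
    have hB : (2 : K) • ρ b = ax ρ b - 1 := by
      rw [ax, add_sub_cancel_right, two_mul, two_smul]
    have e1 : (8 : K) • ρ (a * b * a) = (ax ρ a - 1) * (ax ρ b - 1) * (ax ρ a - 1) := by
      rw [← hA, ← hB, map_mul, map_mul]
      simp only [smul_mul_assoc, mul_smul_comm, smul_smul]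
      norm_num
    have e2 : (8 : K) • ρ (b * a * b) = (ax ρ b - 1) * (ax ρ a - 1) * (ax ρ b - 1) := by
      rw [← hA, ← hB, map_mul, map_mul]
      simp only [smul_mul_assoc, mul_smul_comm, smul_smul]
      norm_num
    rw [smul_sub, e1, e2, dd]
    have hAA : ∀ u, ax ρ a * (ax ρ a * u) = (-3 : K) • u := fun u => by
      rw [← mul_assoc, h.ax_sq_eq ha, smul_mul_assoc, one_mul]
    have hBB : ∀ u, ax ρ b * (ax ρ b * u) = (-3 : K) • u := fun u => by
      rw [← mul_assoc, h.ax_sq_eq hb, smul_mul_assoc, one_mul]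
    simp only [sub_mul, mul_sub, add_mul, mul_add, one_mul, mul_one, smul_mul_assoc, mul_assoc,
      hAA, hBB, h.ax_sq_eq ha, h.ax_sq_eq hb, mul_smul_comm, smul_smul, smul_add, smul_sub]
    module
  have h8 : (8 : K) ≠ 0 := by rw [show (8 : K) = 2 ^ 3 by norm_num]; exact pow_ne_zero 3 h2
  constructor
  · intro e
    rw [show a * b * a = b * a * b from e, sub_self, smul_zero] at key
    have e1 : (dd ρ a b - (2 : K) • 1) * (ρ a - ρ b) = 0 := by
      refine smul_cancel h2 ?_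
      rw [← mul_smul_comm, key]
      congr 1
      simp only [ax, two_mul, two_smul]
      abel
    refine sub_eq_zero.1 (h.cancel_right (g := a * (b * b)) (fun e2 => hne ?_) ?_)
    · calc a = a * (b * b * b) := by rw [hb.mul3, mul_one]
        _ = a * (b * b) * b := by group
        _ = b := by rw [e2, one_mul]
    · have hh : ρ (a * (b * b)) - 1 = (ρ a - ρ b) * ρ (b * b) := by
        rw [sub_mul, ← map_mul, ← map_mul, ← mul_assoc b b b, hb.mul3, map_one]
      rw [hh, ← mul_assoc, e1, zero_mul]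
  · intro e
    rw [e, sub_self, zero_mul] at key
    exact h.injective (sub_eq_zero.1 (smul_cancel h8 key))

theorem IsFpf.eq_or_of_commute [Nontrivial V] {a b : G} (ha : Tri a) (hb : Tri b)
    (hc : a * b = b * a) : b = a ∨ b = a * a := by
  haveI := Fact.mk Nat.prime_three
  obtain ⟨k, hk⟩ := h.commute_mem_zpowers (p := 3) hb.1 ha.1 ha.2 hc.symm
  have h3 : a ^ (3 : ℤ) = 1 := by exact_mod_cast ha.1
  simp only at hk
  rw [← Int.emod_add_mul_ediv k 3, zpow_add, zpow_mul, h3, one_zpow, mul_one] at hk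
  have h0 := Int.emod_nonneg k (show (3 : ℤ) ≠ 0 by norm_num)
  have h1 := Int.emod_lt_of_pos k (show (0 : ℤ) < 3 by norm_num)
  rcases (show k % 3 = 0 ∨ k % 3 = 1 ∨ k % 3 = 2 by omega) with e | e | e <;> rw [e] at hk
  · exact absurd (by simpa using hk.symm) hb.2
  · exact Or.inl (by simpa using hk.symm)
  · refine Or.inr ?_
    rw [← hk, zpow_two]

variable [IsAlgClosed K] [FiniteDimensional K V] [Nontrivial V] [Finite G]

omit h in
theorem two_ne_of_pair (h : IsFpf ρ) {a b : G} (ha : Tri a) (hb : Tri b)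
    (hne : a * b ≠ b * a) : (2 : K) ≠ 0 :=
  (h.pair_cases ha.1 hb.1 hne).1

theorem IsFpf.dd_cases {a b : G} (ha : Tri a) (hb : Tri b) (hne : a * b ≠ b * a) :
    (Braid a b ∧ dd ρ a b = (2 : K) • 1) ∨ (Braid a (b * b) ∧ dd ρ a b = (-2 : K) • 1) ∨
    (Ico a b ∧ dd ρ a b * dd ρ a b = (20 : K) • 1 ∧
      Nonempty (Subgroup.closure ({a, b} : Set G) ≃* SL25.SL)) := by
  obtain ⟨h2, hc⟩ := h.pair_cases ha.1 hb.1 hne
  have hne1 : a ≠ b := fun e => hne (by rw [e])
  have hne2 : a ≠ b * b := fun e => hne (by rw [e, mul_assoc])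
  have e2 : (2 : Module.End K V) = (2 : K) • 1 := by rw [two_smul, one_add_one_eq_two]
  have e20 : (20 : Module.End K V) = (20 : K) • 1 := by
    rw [← Algebra.algebraMap_eq_smul_one, map_ofNat]
  rcases hc with e | e | ⟨e, hiso⟩
  · exact Or.inl ⟨(h.braid_iff h2 ha hb hne1).2 (by rw [e, e2]), by rw [e, e2]⟩
  · refine Or.inr (Or.inl ⟨(h.braid_iff h2 ha hb.sq hne2).2 ?_, by rw [e, e2, neg_smul]⟩)
    rw [h.dd_inv hb, e, neg_neg, e2]
  · rw [e20] at e
    have h16 : (16 : K) ≠ 0 := by rw [show (16 : K) = 2 ^ 4 by norm_num]; exact pow_ne_zero 4 h2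
    refine Or.inr (Or.inr ⟨⟨hne, fun hb' => ?_, fun hb' => ?_⟩, e, hiso⟩)
    · rw [(h.braid_iff h2 ha hb hne1).1 hb'] at e
      simp only [smul_mul_assoc, mul_smul_comm, one_mul, smul_smul] at e
      exact h16 (by linear_combination -(scalar_inj e))
    · have e1 := (h.braid_iff h2 ha hb.sq hne2).1 hb'
      rw [h.dd_inv hb, neg_eq_iff_eq_neg] at e1
      rw [e1] at e
      simp only [neg_mul_neg, smul_mul_assoc, mul_smul_comm, one_mul, smul_smul] at e
      exact h16 (by linear_combination -(scalar_inj e))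

theorem IsFpf.ico_spec {a b : G} (ha : Tri a) (hb : Tri b) (hi : Ico a b) :
    dd ρ a b * dd ρ a b = (20 : K) • 1 ∧
      Nonempty (Subgroup.closure ({a, b} : Set G) ≃* SL25.SL) := by
  rcases h.dd_cases ha hb hi.1 with ⟨e, -⟩ | ⟨e, -⟩ | ⟨-, e⟩
  exacts [absurd e hi.2.1, absurd e hi.2.2, e]

theorem IsFpf.ico_symm {a b : G} (ha : Tri a) (hb : Tri b) (hi : Ico a b) : Ico b a := by
  obtain ⟨e, -⟩ := h.ico_spec ha hb hi
  have h2 := two_ne_of_pair h ha hb hi.1
  have h16 : (16 : K) ≠ 0 := by rw [show (16 : K) = 2 ^ 4 by norm_num]; exact pow_ne_zero 4 h2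
  rw [dd_comm_symm] at e
  rcases h.dd_cases hb ha (fun e' => hi.1 e'.symm) with ⟨-, d⟩ | ⟨-, d⟩ | ⟨hi', -⟩
  · rw [d] at e
    simp only [smul_mul_assoc, mul_smul_comm, one_mul, smul_smul] at e
    exact absurd (by linear_combination -(scalar_inj e)) h16
  · rw [d] at e
    simp only [smul_mul_assoc, mul_smul_comm, one_mul, smul_smul] at e
    exact absurd (by linear_combination -(scalar_inj e)) h16
  · exact hi'

theorem IsFpf.quad {a b : G} (ha : Tri a) (hb : Tri b) (hne : a * b ≠ b * a) (hbr : Braid a b) :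
    Quad (K := K) (fun i => ax ρ (qd a b i)) := by
  have h2 := two_ne_of_pair h ha hb hne
  have h4 : (4 : K) ≠ 0 := by rw [show (4 : K) = 2 * 2 by norm_num]; exact mul_ne_zero h2 h2
  have hne1 : a ≠ b := fun e => hne (by rw [e])
  set A := ax ρ a with hA
  set B := ax ρ b with hB
  have hk : A * B + B * A = (2 : K) • 1 := (h.braid_iff h2 ha hb hne1).1 hbr
  have hAA : A * A = (-3 : K) • 1 := h.ax_sq_eq ha
  have hBB : B * B = (-3 : K) • 1 := h.ax_sq_eq hb
  have hBA : B * A = (2 : K) • 1 - A * B := eq_sub_of_add_eq' hk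
  have ha1 : (2 : K) • ρ a = A - 1 := by rw [hA, ax, add_sub_cancel_right, two_mul, two_smul]
  have ha2 : (2 : K) • ρ (a * a) = -A - 1 := by
    rw [hA, ← h.ax_inv ha, ax, add_sub_cancel_right, two_mul, two_smul]
  have hABA : A * B * A = (2 : K) • A + (3 : K) • B := by
    rw [mul_assoc, hBA, mul_sub, ← mul_assoc, hAA, mul_smul_comm, mul_one, smul_mul_assoc,
      one_mul]
    module
  set C := ax ρ (a * b * (a * a)) with hCdef
  set E := ax ρ (a * a * b * a) with hEdef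
  set W := A * B - B * A with hW
  have hC : (4 : K) • C = (-2 : K) • A - (2 : K) • B - W := by
    have e : C = ρ a * B * ρ (a * a) := by rw [hCdef, ← ha.inv, ax_conj]
    calc (4 : K) • C = ((2 : K) • ρ a) * B * ((2 : K) • ρ (a * a)) := by
          rw [e]; simp only [smul_mul_assoc, mul_smul_comm, smul_smul]; norm_num
      _ = _ := by
        rw [ha1, ha2, hW]
        simp only [sub_mul, mul_sub, mul_neg, one_mul, mul_one, hABA]
        module
  have hE : (4 : K) • E = (-2 : K) • A - (2 : K) • B + W := by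
    have e : E = ρ (a * a) * B * ρ a := by
      have := ax_conj (ρ := ρ) (a * a) b
      rw [ha.sq.inv, ha.sq_sq] at this
      exact this
    calc (4 : K) • E = ((2 : K) • ρ (a * a)) * B * ((2 : K) • ρ a) := by
          rw [e]; simp only [smul_mul_assoc, mul_smul_comm, smul_smul]; norm_num
      _ = _ := by
        rw [ha1, ha2, hW]
        simp only [sub_mul, mul_sub, neg_mul, one_mul, mul_one, hABA]
        module
  have hAW : anti A W = 0 := by
    simp only [anti, hW, mul_sub, sub_mul, ← mul_assoc]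
    rw [hAA, mul_assoc B A A, hAA, mul_smul_comm, smul_mul_assoc, one_mul, mul_one]
    abel
  have hBW : anti B W = 0 := by
    simp only [anti, hW, mul_sub, sub_mul, ← mul_assoc]
    rw [hBB, mul_assoc A B B, hBB, mul_smul_comm, smul_mul_assoc, one_mul, mul_one]
    abel
  have d01 : anti A B = (2 : K) • 1 := hk
  have lin : ∀ {P C' : Module.End K V} (s t : K),
      (4 : K) • C' = (-2 : K) • A - (2 : K) • B + s • W →
      anti P A = t • 1 → anti P B = (-4 - t) • 1 → anti P W = 0 →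
      anti P C' = (2 : K) • 1 := by
    intro P C' s t e1 e2 e3 e4
    refine sub_eq_zero.1 (smul_cancel h4 ?_)
    rw [smul_sub, show (4 : K) • anti P C' = anti P ((4 : K) • C') by
      simp only [anti, smul_add, mul_smul_comm, smul_mul_assoc], e1]
    have : anti P ((-2 : K) • A - (2 : K) • B + s • W) =
        (-2 : K) • anti P A - (2 : K) • anti P B + s • anti P W := by
      simp only [anti, mul_add, add_mul, mul_sub, sub_mul, mul_smul_comm, smul_mul_assoc, smul_add]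
      abel
    rw [this, e2, e3, e4]
    module
  have hC' : (4 : K) • C = (-2 : K) • A - (2 : K) • B + (-1 : K) • W := by rw [hC]; module
  have hE' : (4 : K) • E = (-2 : K) • A - (2 : K) • B + (1 : K) • W := by rw [hE]; module
  have dAA : anti A A = (-6 : K) • (1 : Module.End K V) := by rw [anti, hAA, ← add_smul]; norm_num
  have dBB : anti B B = (-6 : K) • (1 : Module.End K V) := by rw [anti, hBB, ← add_smul]; norm_num
  have d02 : anti A C = (2 : K) • 1 := lin _ (-6) hC' dAA (by rw [d01]; norm_num) hAW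
  have d03 : anti A E = (2 : K) • 1 := lin _ (-6) hE' dAA (by rw [d01]; norm_num) hAW
  have d12 : anti B C = (2 : K) • 1 :=
    lin _ 2 hC' (by rw [anti_comm, d01]) (by rw [dBB]; norm_num) hBW
  have d13 : anti B E = (2 : K) • 1 :=
    lin _ 2 hE' (by rw [anti_comm, d01]) (by rw [dBB]; norm_num) hBW
  have hsum : A + B + C + E = 0 := smul_cancel h4 (by simp only [smul_add, hC, hE]; module)
  have hCC : C * C = (-3 : K) • 1 := h.ax_sq_eq (tri_qd ha hb 2)
  have hEE : E * E = (-3 : K) • 1 := h.ax_sq_eq (tri_qd ha hb 3)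
  have d23 : anti C E = (2 : K) • 1 := by
    have e : anti C A + anti C B + anti C C + anti C E = 0 := by
      have : anti C (A + B + C + E) = 0 := by rw [hsum, anti, mul_zero, zero_mul, add_zero]
      rw [← this]; simp only [anti, mul_add, add_mul]; abel
    rw [anti_comm C A, d02, anti_comm C B, d12, show anti C C = (-6 : K) • (1 : Module.End K V) by
      rw [anti, hCC, ← add_smul]; norm_num] at e
    rw [eq_neg_of_add_eq_zero_right e]
    module
  constructor
  · rw [Fin.sum_univ_four]; exact hsum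
  · intro i; exact h.ax_sq_eq (tri_qd ha hb i)
  · intro i j hij
    fin_cases i <;> fin_cases j <;>
      first
        | exact absurd rfl hij
        | (show anti _ _ = _; first
          | exact d01 | exact d02 | exact d03 | exact d12 | exact d13 | exact d23
          | (rw [anti_comm]; first
            | exact d01 | exact d02 | exact d03 | exact d12 | exact d13 | exact d23))
  · intro Z hZ
    have zA : Z * A = -(A * Z) := eq_neg_of_add_eq_zero_left (hZ 0)
    have zB : Z * B = -(B * Z) := eq_neg_of_add_eq_zero_left (hZ 1)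
    have hcm : Z * W = W * Z := by
      rw [hW, mul_sub, sub_mul, ← mul_assoc, zA, ← mul_assoc, zB, neg_mul, neg_mul, mul_assoc,
        zB, mul_assoc, zA, mul_neg, mul_neg, neg_neg, neg_neg, mul_assoc, mul_assoc]
    have hWe : W = (-2 : K) • A - (2 : K) • B - (4 : K) • C := by rw [hC]; abel
    have hcw : Z * W = -(W * Z) := by
      have zC : Z * C = -(C * Z) := eq_neg_of_add_eq_zero_left (hZ 2)
      rw [hWe]
      simp only [mul_sub, sub_mul, mul_smul_comm, smul_mul_assoc, zA, zB, zC]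
      module
    have hW2 : W * W = (-32 : K) • 1 := by
      have i1 : A * B * (B * A) = (9 : K) • (1 : Module.End K V) := by
        rw [mul_assoc, ← mul_assoc B, hBB, smul_mul_assoc, one_mul, mul_smul_comm, hAA, smul_smul]
        norm_num
      have i2 : B * A * (A * B) = (9 : K) • (1 : Module.End K V) := by
        rw [mul_assoc, ← mul_assoc A, hAA, smul_mul_assoc, one_mul, mul_smul_comm, hBB, smul_smul]
        norm_num
      have e := congrArg (fun q => q * q) hk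
      simp only [add_mul, mul_add, smul_mul_assoc, mul_smul_comm, one_mul, smul_smul, i1, i2] at e
      simp only [hW, sub_mul, mul_sub, i1, i2]
      linear_combination (norm := module) e
    have h32 : (-32 : K) ≠ 0 := by
      rw [show (-32 : K) = -(2 ^ 5) by norm_num]; exact neg_ne_zero.2 (pow_ne_zero 5 h2)
    have hZW : Z * W = 0 := smul_cancel h2 (by
      rw [two_smul]; nth_rewrite 2 [hcw]; rw [← hcm, add_neg_cancel])
    refine smul_cancel h32 ?_
    rw [← mul_one Z, ← mul_smul_comm, ← hW2, ← mul_assoc, hZW, zero_mul]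

theorem IsFpf.two_ico {a b c : G} (ha : Tri a) (hb : Tri b) (hc : Tri c) (hne : a * b ≠ b * a)
    (hbr : Braid a b) (hoff : ∀ i, qd a b i * c ≠ c * qd a b i) (k : Fin 4) :
    ∃ i, i ≠ k ∧ Ico (qd a b i) c := by
  by_contra hno
  push Not at hno
  have h2 := two_ne_of_pair h ha hb hne
  have hq := h.quad ha hb hne hbr
  have hs : ∀ i, i ≠ k → ∃ l : K, l * l = 4 ∧ (l = 2 ∨ l = -2) ∧
      dd ρ (qd a b i) c = l • 1 := by
    intro i hi
    rcases h.dd_cases (tri_qd ha hb i) hc (hoff i) with ⟨-, d⟩ | ⟨-, d⟩ | ⟨d, -⟩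
    · exact ⟨2, by norm_num, Or.inl rfl, d⟩
    · exact ⟨-2, by norm_num, Or.inr rfl, d⟩
    · exact absurd d (hno i hi)
  have hsum : ∑ i, dd ρ (qd a b i) c = 0 := hq.sum_anti (ax ρ c)
  rcases h.dd_cases (tri_qd ha hb k) hc (hoff k) with ⟨-, d⟩ | ⟨-, d⟩ | ⟨-, dsq, -⟩
  rotate_left 2
  · -- a single icosahedral angle
    choose l hl hl2 hd using hs
    obtain ⟨i₁, i₂, i₃, hi₁, hi₂, hi₃, huniv⟩ : ∃ i₁ i₂ i₃ : Fin 4, i₁ ≠ k ∧ i₂ ≠ k ∧ i₃ ≠ k ∧
        ∀ f : Fin 4 → Module.End K V, ∑ i, f i = f k + f i₁ + f i₂ + f i₃ := by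
      fin_cases k
      · exact ⟨1, 2, 3, by decide, by decide, by decide, fun f => Fin.sum_univ_four f⟩
      · exact ⟨0, 2, 3, by decide, by decide, by decide, fun f => by
          rw [Fin.sum_univ_four]; simp only [Fin.mk_one]; abel⟩
      · exact ⟨0, 1, 3, by decide, by decide, by decide, fun f => by
          rw [Fin.sum_univ_four, show (⟨2, _⟩ : Fin 4) = 2 from rfl]; abel⟩
      · exact ⟨0, 1, 2, by decide, by decide, by decide, fun f => by
          rw [Fin.sum_univ_four, show (⟨3, _⟩ : Fin 4) = 3 from rfl]; abel⟩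
    rw [huniv, hd i₁ hi₁, hd i₂ hi₂, hd i₃ hi₃] at hsum
    have e : dd ρ (qd a b k) c = (-(l i₁ hi₁ + l i₂ hi₂ + l i₃ hi₃)) • 1 := by
      linear_combination (norm := module) hsum
    rw [e] at dsq
    simp only [smul_mul_assoc, mul_smul_comm, one_mul, smul_smul] at dsq
    have e2 := scalar_inj dsq
    have h16 : (2 : K) ^ 4 ≠ 0 := pow_ne_zero 4 h2
    rcases hl2 i₁ hi₁ with p | p <;> rcases hl2 i₂ hi₂ with q | q <;>
      rcases hl2 i₃ hi₃ with r | r <;> rw [p, q, r] at e2 <;> apply h16 <;>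
      first | linear_combination e2 | linear_combination -e2
  all_goals
    have hall : ∀ i, ∃ l : K, l * l = 4 ∧ dd ρ (qd a b i) c = l • 1 := fun i => by
      by_cases e : i = k
      · subst e
        first
          | exact ⟨2, by norm_num, d⟩
          | exact ⟨-2, by norm_num, d⟩
      · obtain ⟨l, hl, -, hd⟩ := hs i e; exact ⟨l, hl, hd⟩
    choose l hl hd using hall
    exact hq.no_scalar_point h2 (h.ax_sq_eq hc) l hd hl

theorem IsFpf.block_eq_closure {B : Subgroup G} (hB : Nonempty (B ≃* SL25.SL)) {a b : G}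
    (ha : Tri a) (hb : Tri b) (hi : Ico a b) (haB : a ∈ B) (hbB : b ∈ B) :
    Subgroup.closure ({a, b} : Set G) = B := by
  have hle : Subgroup.closure ({a, b} : Set G) ≤ B :=
    (Subgroup.closure_le _).2 (fun x hx => by rcases hx with rfl | rfl <;> assumption)
  exact Subgroup.eq_of_le_of_card_ge hle
    (by rw [card_block hB, card_block (h.ico_spec ha hb hi).2])

theorem IsFpf.coeff {B : Subgroup G} (hB : Nonempty (B ≃* SL25.SL)) {a b : G}
    (ha : Tri a) (hb : Tri b) (hi : Ico a b) (haB : a ∈ B) (hbB : b ∈ B) :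
    ∃ v : Module.End K V, (∀ g ∈ B, ρ g * v = v * ρ g) ∧ v * v = (5 : K) • 1 ∧
      dd ρ a b = (-2 : K) • v ∧ ∀ g ∈ B, v * ax ρ g = ax ρ g * v := by
  have h2 := two_ne_of_pair h ha hb hi.1
  have hsub : ∀ g ∈ B, ρ g * dd ρ a b = dd ρ a b * ρ g := by
    intro g hg
    rw [← h.block_eq_closure hB ha hb hi haB hbB] at hg
    have : Subgroup.closure ({a, b} : Set G) ≤ fixer ρ (dd ρ a b) := (Subgroup.closure_le _).2
      (fun x hx => by
        rcases hx with rfl | rfl
        · exact h.dd_commute h2 ha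
        · exact h.dd_commute' h2 hb)
    exact this hg
  refine ⟨(-(1 / 2) : K) • dd ρ a b, fun g hg => ?_, ?_, ?_, fun g hg => ?_⟩
  · rw [mul_smul_comm, smul_mul_assoc, hsub g hg]
  · rw [smul_mul_assoc, mul_smul_comm, (h.ico_spec ha hb hi).1, smul_smul, smul_smul]
    congr 1; field_simp; ring
  · rw [smul_smul]
    rw [show (-2 : K) * -(1 / 2) = 1 by field_simp, one_smul]
  · simp only [ax, two_mul, mul_add, add_mul, mul_one, one_mul, smul_mul_assoc, mul_smul_comm,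
      hsub g hg, smul_add]

theorem IsFpf.block_unique {B B' : Subgroup G} (hB : Nonempty (B ≃* SL25.SL))
    (hB' : Nonempty (B' ≃* SL25.SL)) {a b : G} (ha : Tri a) (hb : Tri b)
    (hne : a * b ≠ b * a) (hbr : Braid a b) (haB : a ∈ B) (hbB : b ∈ B) (haB' : a ∈ B')
    (hbB' : b ∈ B') : B = B' := by
  have h2 := two_ne_of_pair h ha hb hne
  have hcard := card_block hB
  have h3 : (3 : K) ≠ 0 := by
    exact_mod_cast h.natCast_ne_zero (n := 3)
      ((show 3 ∣ Nat.card B by rw [hcard]; norm_num).trans (Subgroup.card_subgroup_dvd_card B))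
  have h5 : (5 : K) ≠ 0 := by
    exact_mod_cast h.natCast_ne_zero (n := 5)
      ((show 5 ∣ Nat.card B by rw [hcard]; norm_num).trans (Subgroup.card_subgroup_dvd_card B))
  obtain ⟨eB⟩ := id hB
  obtain ⟨eB'⟩ := id hB'
  have hco : ∀ {D : Subgroup G} {x y : D}, Tri (x : G) → Tri (y : G) → (x : G) * y ≠ y * x →
      Braid (x : G) y → ((x ^ 3 = 1 ∧ x ≠ 1) ∧ (y ^ 3 = 1 ∧ y ≠ 1) ∧ x * y ≠ y * x ∧ Braid x y) :=
    fun hx hy hxy hbrxy => ⟨⟨Subtype.ext hx.1, fun e => hx.2 (congrArg Subtype.val e)⟩,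
      ⟨Subtype.ext hy.1, fun e => hy.2 (congrArg Subtype.val e)⟩,
      fun e => hxy (congrArg Subtype.val e), Subtype.ext hbrxy⟩
  have hget : ∀ {D : Subgroup G} {p q r : D} {y : D}, (y ^ 3 = 1 ∧ y ≠ 1) → SL25.Point p q r y →
      Tri (y : G) ∧ SL25.Point (p : G) q r y := by
    intro D p q r y hy hP
    exact ⟨⟨congrArg Subtype.val hy.1, fun e => hy.2 (Subtype.ext e)⟩,
      fun e => hP.1 (Subtype.ext e), fun e => hP.2.1 (Subtype.ext e),
      congrArg Subtype.val hP.2.2.1, congrArg Subtype.val hP.2.2.2.1,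
      fun e => hP.2.2.2.2.1 (Subtype.ext e), fun e => hP.2.2.2.2.2.1 (Subtype.ext e),
      fun e => hP.2.2.2.2.2.2 (Subtype.ext e)⟩
  obtain ⟨pa, pb, pn, pbr⟩ := hco (D := B) (x := ⟨a, haB⟩) (y := ⟨b, hbB⟩) ha hb hne hbr
  obtain ⟨qa, qb, qn, qbr⟩ := hco (D := B') (x := ⟨a, haB'⟩) (y := ⟨b, hbB'⟩) ha hb hne hbr
  obtain ⟨⟨y₁, hy₁, hP₁⟩, ⟨y₂, hy₂, hP₂⟩, ⟨y₃, hy₃, hP₃⟩⟩ := SL25.exists_points eB pa pb pn pbr
  obtain ⟨⟨y', hy', hP'⟩, -, -⟩ := SL25.exists_points eB' qa qb qn qbr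
  obtain ⟨t₁, P₁⟩ := hget hy₁ hP₁
  obtain ⟨t₂, P₂⟩ := hget hy₂ hP₂
  obtain ⟨t₃, P₃⟩ := hget hy₃ hP₃
  obtain ⟨t', P'⟩ := hget hy' hP'
  simp only [Subgroup.coe_mul] at P₁ P₂ P₃ P'
  set q := qd a b with hqdef
  have hq := h.quad ha hb hne hbr
  rw [← hqdef] at hq
  have tq := tri_qd ha hb
  rw [← hqdef] at tq
  have hqB : ∀ i, q i ∈ B := by
    intro i; fin_cases i
    exacts [haB, hbB, mul_mem (mul_mem haB hbB) (mul_mem haB haB),
      mul_mem (mul_mem (mul_mem haB haB) hbB) haB]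
  have hqB' : ∀ i, q i ∈ B' := by
    intro i; fin_cases i
    exacts [haB', hbB', mul_mem (mul_mem haB' hbB') (mul_mem haB' haB'),
      mul_mem (mul_mem (mul_mem haB' haB') hbB') haB']
  -- coincidence with an element of the first block
  by_cases hin : (y' : G) ∈ B
  · exact (h.block_eq_closure hB (tq 2) t' P'.2.2.2.2 (hqB 2) hin).symm.trans
      (h.block_eq_closure hB' (tq 2) t' P'.2.2.2.2 (hqB' 2) y'.2)
  exfalso
  have hnc : ∀ {y : G}, Tri y → y ∈ B → (y' : G) * y ≠ y * (y' : G) := by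
    intro y hy hyB e
    rcases h.eq_or_of_commute hy t' e.symm with e1 | e1 <;> rw [e1] at hin
    exacts [hin hyB, hin (mul_mem hyB hyB)]
  have hval : ∀ {x y : G}, Tri x → Tri y → x * y ≠ y * x →
      ∃ k : K, (k = 4 ∨ k = 20) ∧
        anti (ax ρ x) (ax ρ y) * anti (ax ρ x) (ax ρ y) = k • 1 := by
    intro x y hx hy hxy
    rcases h.dd_cases hx hy hxy with ⟨-, d⟩ | ⟨-, d⟩ | ⟨-, d, -⟩
    · exact ⟨4, Or.inl rfl, by rw [← dd_eq_anti, d, smul_mul_assoc, one_mul, smul_smul]; norm_num⟩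
    · exact ⟨4, Or.inl rfl, by rw [← dd_eq_anti, d, smul_mul_assoc, one_mul, smul_smul]; norm_num⟩
    · exact ⟨20, Or.inr rfl, by rw [← dd_eq_anti]; exact d⟩
  -- the formulas for the further axes
  have hform : ∀ {D : Subgroup G}, Nonempty (D ≃* SL25.SL) → (∀ i, q i ∈ D) →
      ∀ (σ : Equiv.Perm (Fin 4)) {y : G}, Tri y → y ∈ D →
      SL25.Point (q (σ 0)) (q (σ 1)) (q (σ 2)) y →
      ∃ v : Module.End K V, (∀ g ∈ D, ρ g * v = v * ρ g) ∧ v * v = (5 : K) • 1 ∧
        (∀ g ∈ D, v * ax ρ g = ax ρ g * v) ∧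
        (∀ g g' : G, g ∈ D → g' ∈ D → v * dd ρ g g' = dd ρ g g' * v) ∧
        (∃ g g' : G, g ∈ D ∧ g' ∈ D ∧ v = (-(1 / 2) : K) • dd ρ g g') ∧
        (4 : K) • ax ρ y = ax ρ (q (σ 0)) - ax ρ (q (σ 1)) +
          v * (ax ρ (q (σ 2)) - ax ρ (q (σ 3))) := by
    intro D hD hqD σ y hy hyD hP
    obtain ⟨p0, p1, p2, p3, p4⟩ := hP
    obtain ⟨v, hvc, hvv, hvd, hvx⟩ := h.coeff hD (tq (σ 2)) hy p4 (hqD _) hyD
    refine ⟨v, hvc, hvv, hvx, fun g g' hg hg' => ?_, ⟨_, _, hqD (σ 2), hyD, ?_⟩, ?_⟩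
    · rw [dd, mul_add, add_mul, ← mul_assoc, ← mul_assoc, hvx g hg, hvx g' hg',
        mul_assoc (ax ρ g), hvx g' hg', mul_assoc (ax ρ g'), hvx g hg, ← mul_assoc, ← mul_assoc]
    · rw [hvd, smul_smul, show -(1 / 2 : K) * -2 = 1 by field_simp, one_smul]
    · refine (hq.perm σ).extra h2 (v := v) (fun i => hvx _ (hqD _)) ?_ ?_ ?_
      · show anti (ax ρ (q (σ 0))) _ = _
        have := (h.braid_iff h2 (tq _) hy.sq (fun e => p0 (by rw [e, mul_assoc]))).1 p2
        rw [h.dd_inv hy, dd_eq_anti, neg_eq_iff_eq_neg] at this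
        rw [this, neg_smul]
      · show anti (ax ρ (q (σ 1))) _ = _
        exact (h.braid_iff h2 (tq _) hy (fun e => p1 (by rw [e]))).1 p3
      · exact hvd
  let σ₂ : Equiv.Perm (Fin 4) :=
    ⟨![2, 3, 0, 1], ![2, 3, 0, 1], fun i => by fin_cases i <;> rfl,
      fun i => by fin_cases i <;> rfl⟩
  let σ₃ : Equiv.Perm (Fin 4) :=
    ⟨![0, 2, 1, 3], ![0, 2, 1, 3], fun i => by fin_cases i <;> rfl,
      fun i => by fin_cases i <;> rfl⟩
  obtain ⟨v, -, hvv, hvx, hvd, -, eC⟩ := hform hB hqB 1 t₁ y₁.2 P₁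
  obtain ⟨v', -, hv'v', hv'x, -, -, eC'⟩ := hform hB' hqB' 1 t' y'.2 P'
  obtain ⟨w, -, hww, hwx, -, ⟨g₂, g₂', hg₂, hg₂', hwe⟩, eC₂⟩ := hform hB hqB σ₂ t₂ y₂.2 P₂
  obtain ⟨z, -, hzz, hzx, -, ⟨g₃, g₃', hg₃, hg₃', hze⟩, eC₃⟩ := hform hB hqB σ₃ t₃ y₃.2 P₃
  simp only [Equiv.Perm.coe_one, id_eq] at eC eC'
  change (4 : K) • ax ρ (y₂ : G) = ax ρ (q 2) - ax ρ (q 3) + w * (ax ρ (q 0) - ax ρ (q 1)) at eC₂
  change (4 : K) • ax ρ (y₃ : G) = ax ρ (q 0) - ax ρ (q 2) + z * (ax ρ (q 1) - ax ρ (q 3)) at eC₃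
  set X := ax ρ (q 0) - ax ρ (q 1) with hX
  set Y := ax ρ (q 2) - ax ρ (q 3) with hY
  set S := ax ρ (q 0) - ax ρ (q 2) with hS
  set T := ax ρ (q 1) - ax ρ (q 3) with hT
  have hd : ∀ i j k l : Fin 4, anti (ax ρ (q i) - ax ρ (q j)) (ax ρ (q k) - ax ρ (q l)) =
      ((if i = k then (-6 : K) else 2) - (if i = l then (-6 : K) else 2) -
        (if j = k then (-6 : K) else 2) + (if j = l then (-6 : K) else 2)) •
        (1 : Module.End K V) := by
    intro i j k l
    simp only [add_smul, sub_smul, ← hq.anti_all]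
    simp only [anti, mul_sub, sub_mul]
    abel
  have hsq : ∀ i j : Fin 4, i ≠ j →
      (ax ρ (q i) - ax ρ (q j)) * (ax ρ (q i) - ax ρ (q j)) =
        (-8 : K) • (1 : Module.End K V) := by
    intro i j hij
    refine sub_eq_zero.1 (smul_cancel h2 ?_)
    have := hd i j i j
    rw [if_pos rfl, if_neg hij, if_neg hij.symm, if_pos rfl, anti] at this
    rw [smul_sub, two_smul, this]
    module
  have hcom : ∀ {D : Subgroup G} {u : Module.End K V}, (∀ i, q i ∈ D) →
      (∀ g ∈ D, u * ax ρ g = ax ρ g * u) → ∀ i j,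
      u * (ax ρ (q i) - ax ρ (q j)) = (ax ρ (q i) - ax ρ (q j)) * u := fun hqD hu i j => by
    rw [mul_sub, sub_mul, hu _ (hqD i), hu _ (hqD j)]
  obtain ⟨k₁₂, hk₁₂, e₁₂⟩ := hval t₁ t₂ (fun e => by
    rcases h.eq_or_of_commute t₁ t₂ e with e1 | e1
    · exact P₁.2.2.2.2.2.2 (e1 ▸ P₂.2.2.1)
    · have := P₂.2.2.1; rw [e1, t₁.sq_sq] at this; exact P₁.2.2.2.2.2.1 this)
  obtain ⟨k₁₃, hk₁₃, e₁₃⟩ := hval t₁ t₃ (fun e => by
    rcases h.eq_or_of_commute t₁ t₃ e with e1 | e1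
    · exact P₁.2.2.2.2.2.1 (e1 ▸ P₃.2.2.2.1)
    · exact P₁.2.2.2.2.2.2 (e1 ▸ P₃.2.2.2.1))
  obtain ⟨k₁, hk₁, e₁⟩ := hval t' t₁ (hnc t₁ y₁.2)
  obtain ⟨k₂, hk₂, e₂⟩ := hval t' t₂ (hnc t₂ y₂.2)
  obtain ⟨k₃, hk₃, e₃⟩ := hval t' t₃ (hnc t₃ y₃.2)
  have hvw : v * w = w * v := by
    rw [hwe, mul_smul_comm, smul_mul_assoc, hvd _ _ hg₂ hg₂']
  have hvz : v * z = z * v := by
    rw [hze, mul_smul_comm, smul_mul_assoc, hvd _ _ hg₃ hg₃']
  exact two_blocks h2 h3 h5 (X := X) (Y := Y) (S := S) (T := T)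
    (hsq 0 1 (by decide)) (hsq 2 3 (by decide)) (hsq 1 3 (by decide))
    ((hd 0 1 2 3).trans (by norm_num [Fin.ext_iff]))
    ((hd 0 1 0 2).trans (by norm_num [Fin.ext_iff]))
    ((hd 0 1 1 3).trans (by norm_num [Fin.ext_iff]))
    ((hd 2 3 0 2).trans (by norm_num [Fin.ext_iff]))
    ((hd 2 3 1 3).trans (by norm_num [Fin.ext_iff]))
    ⟨hcom hqB hvx 0 1, hcom hqB hvx 2 3, hcom hqB hvx 0 2, hcom hqB hvx 1 3⟩
    ⟨hcom hqB' hv'x 0 1, hcom hqB' hv'x 2 3, hcom hqB' hv'x 0 2, hcom hqB' hv'x 1 3⟩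
    ⟨hcom hqB hwx 0 1, hcom hqB hwx 2 3⟩ ⟨hcom hqB hzx 0 1, hcom hqB hzx 2 3⟩
    hvw hvz hvv hv'v' hww hzz eC eC' eC₂ eC₃ hk₁₂ e₁₂ hk₁₃ e₁₃ hk₁ e₁ hk₂ e₂ hk₃ e₃

end Cfsg.Agent.Perm.Fpf
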