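import Cfsg.Agent.Lib.Perm.Fpf.Lines

/-!
A fixed-point-free group generated by elements of order three is solvable or `SL(2,5)`.
-/

set_option autoImplicit false
set_option linter.style.haveILetI false

namespace Cfsg.Agent.Perm.Fpf

universe u v w

variable {K : Type u} [Field K] {V : Type v} [AddCommGroup V] [Module K V]
  {G : Type w} [Group G] {ρ : G →* Module.End K V}

theorem qd_conj {a b : G} (ha : Tri a) (hb : Tri b) (hbr : Braid a b) {g : G}
    (hg : g = a ∨ g = b) (i : Fin 4) : ∃ j, g * qd a b i * g⁻¹ = qd a b j := by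
  have hbr' : a * b * a = b * a * b := hbr
  have h3 := ha.mul3
  have h3' := hb.mul3
  rcases hg with rfl | rfl
  · fin_cases i
    · exact ⟨0, show g * g * g⁻¹ = g by group⟩
    · exact ⟨2, show g * b * g⁻¹ = g * b * (g * g) by rw [ha.inv]⟩
    · refine ⟨3, show g * (g * b * (g * g)) * g⁻¹ = g * g * b * g from ?_⟩
      rw [ha.inv, show g * (g * b * (g * g)) * (g * g) = g * g * b * g * (g * g * g) by group, h3,
        mul_one]
    · refine ⟨1, show g * (g * g * b * g) * g⁻¹ = b from ?_⟩
      rw [show g * (g * g * b * g) * g⁻¹ = (g * g * g) * b by group, h3, one_mul]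
  · have e1 : g * a * g⁻¹ = a * a * g * a := by
      rw [hb.inv]
      calc g * a * (g * g) = (g * a * g) * g := by group
        _ = (a * g * a) * g := by rw [hbr']
        _ = a * (g * a * g) := by group
        _ = a * (a * g * a) := by rw [hbr']
        _ = _ := by group
    have e2 : g * (a * g * (a * a)) * g⁻¹ = a := by
      rw [← mul_assoc, ← mul_assoc g a g, ← hbr', show a * g * a * (a * a) = a * g * (a * a * a) by
        group, h3, mul_one, mul_inv_cancel_right]
    fin_cases i
    · exact ⟨3, show g * a * g⁻¹ = a * a * g * a from e1⟩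
    · exact ⟨1, show g * g * g⁻¹ = g by group⟩
    · exact ⟨0, show g * (a * g * (a * a)) * g⁻¹ = a from e2⟩
    · refine ⟨2, show g * (a * a * g * a) * g⁻¹ = a * g * (a * a) from ?_⟩
      have e3 : g⁻¹ * a * g = a * g * (a * a) := by
        conv_lhs => rw [← e2]
        group
      rw [← e3, ← e1, hb.inv]
      calc g * (g * a * (g * g)) * (g * g) = g * g * a * g * (g * g * g) := by group
        _ = g * g * a * g := by rw [h3', mul_one]

theorem card_ge_five_false {α : Type w} {S : Set α} (f : Fin 4 → α)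
    (hS : ∀ x ∈ S, ∃ i, f i = x) : Nat.card S ≤ 4 := by
  have : Function.Surjective (fun i : {i // f i ∈ S} => (⟨f i, i.2⟩ : S)) := fun x => by
    obtain ⟨i, hi⟩ := hS x x.2
    exact ⟨⟨i, hi ▸ x.2⟩, Subtype.ext hi⟩
  refine (Nat.card_le_card_of_surjective _ this).trans ?_
  refine (Nat.card_le_card_of_injective _ Subtype.val_injective).trans ?_
  simp

theorem solvable_of_quad [Finite G] {a b : G} (ha : Tri a) (hb : Tri b) (hbr : Braid a b)
    (hgen : Subgroup.closure ({a, b} : Set G) = ⊤) : Group.IsSolvable G := by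
  classical
  set S : Set G := Set.range (qd a b) with hS
  have hinv : ∀ g : G, ∀ x ∈ S, g * x * g⁻¹ ∈ S := by
    intro g
    have hg : g ∈ Subgroup.closure ({a, b} : Set G) := hgen ▸ Subgroup.mem_top g
    induction hg using Subgroup.closure_induction with
    | mem g hg =>
      rintro _ ⟨i, rfl⟩
      obtain ⟨j, hj⟩ := qd_conj ha hb hbr hg i
      exact ⟨j, hj.symm⟩
    | one => intro x hx; simpa using hx
    | mul g k _ _ ihg ihk =>
      intro x hx
      have := ihg _ (ihk x hx)
      rwa [show g * (k * x * k⁻¹) * g⁻¹ = g * k * x * (g * k)⁻¹ by group] at this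
    | inv g _ ih =>
      intro x hx
      have hinj : Function.Injective (fun y : S => (⟨g * y.1 * g⁻¹, ih _ y.2⟩ : S)) :=
        fun y z e => Subtype.ext (by simpa using congrArg Subtype.val e)
      obtain ⟨y, hy⟩ := Finite.surjective_of_injective hinj ⟨x, hx⟩
      have hy' : g * y.1 * g⁻¹ = x := congrArg Subtype.val hy
      rw [← hy', show g⁻¹ * (g * y.1 * g⁻¹) * g⁻¹⁻¹ = y.1 by group]
      exact y.2
  let f : G →* Equiv.Perm S :=
    { toFun := fun g =>
        ⟨fun x => ⟨g * x.1 * g⁻¹, hinv g _ x.2⟩,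
          fun x => ⟨g⁻¹ * x.1 * g, by simpa using hinv g⁻¹ _ x.2⟩,
          fun x => Subtype.ext (by simp [mul_assoc]),
          fun x => Subtype.ext (by simp [mul_assoc])⟩
      map_one' := Equiv.ext fun x => Subtype.ext (by simp)
      map_mul' := fun g k => Equiv.ext fun x => Subtype.ext (by
        show g * k * x.1 * (g * k)⁻¹ = g * (k * x.1 * k⁻¹) * g⁻¹
        group) }
  have hker : f.ker ≤ Subgroup.center G := by
    intro g hg
    rw [Subgroup.mem_center_iff]
    have hfix : ∀ x ∈ S, g * x * g⁻¹ = x := fun x hx =>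
      congrArg Subtype.val (Equiv.congr_fun (MonoidHom.mem_ker.1 hg) ⟨x, hx⟩)
    have : Subgroup.closure ({a, b} : Set G) ≤ Subgroup.centralizer {g} :=
      (Subgroup.closure_le _).2 fun x hx => by
        have hxS : x ∈ S := by
          rcases hx with rfl | rfl
          exacts [⟨0, rfl⟩, ⟨1, rfl⟩]
        exact Subgroup.mem_centralizer_singleton_iff.2 (mul_inv_eq_iff_eq_mul.1 (hfix x hxS)).symm
    exact fun x => Subgroup.mem_centralizer_singleton_iff.1 (this (hgen ▸ Subgroup.mem_top x))
  haveI : Group.IsSolvable (Equiv.Perm S) := by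
    have hc : Nat.card S ≤ 4 := card_ge_five_false (qd a b) (fun x hx => hx)
    refine Cfsg.Agent.Char.isSolvable_of_two_primes Nat.prime_two Nat.prime_three _ rfl ?_
    intro r hr hrd
    rw [Nat.card_perm] at hrd
    have : r ∣ (4).factorial := hrd.trans (Nat.factorial_dvd_factorial hc)
    have hr4 : r ≤ 4 := hr.dvd_factorial.1 this
    have := hr.two_le
    interval_cases r
    · exact Or.inl rfl
    · exact Or.inr rfl
    · exact absurd hr (by norm_num)
  haveI : Group.IsSolvable (Subgroup.center G) :=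
    Group.isSolvable_of_comm fun u v => Subtype.ext (Subgroup.mem_center_iff.1 v.2 u.1)
  exact solvable_of_ker_le_range (Subgroup.center G).subtype f (by rwa [Subgroup.range_subtype])

variable [IsAlgClosed K] [FiniteDimensional K V] [Nontrivial V] [Finite G]

open scoped Classical in
theorem IsFpf.generated_by_three (h : IsFpf ρ) (hgen : Subgroup.closure {g : G | Tri g} = ⊤) :
    Group.IsSolvable G ∨ Nonempty (G ≃* SL25.SL) := by
  classical
  haveI := Fintype.ofFinite G
  -- all elements of order three commute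
  by_cases hab : ∀ a b : G, Tri a → Tri b → a * b = b * a
  · left
    have : ∀ x y : G, x * y = y * x := by
      intro x y
      have hx : x ∈ Subgroup.closure {g : G | Tri g} := hgen ▸ Subgroup.mem_top x
      have hy : y ∈ Subgroup.closure {g : G | Tri g} := hgen ▸ Subgroup.mem_top y
      have h1 : Subgroup.closure {g : G | Tri g} ≤
          Subgroup.centralizer {g : G | Tri g} := (Subgroup.closure_le _).2 fun u hu =>
        Subgroup.mem_centralizer_iff.2 fun t ht => hab t u ht hu
      have h2 : Subgroup.closure {g : G | Tri g} ≤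
          Subgroup.centralizer ({y} : Set G) := (Subgroup.closure_le _).2 fun u hu =>
        Subgroup.mem_centralizer_singleton_iff.2
          (Subgroup.mem_centralizer_iff.1 (h1 hy) u hu)
      exact Subgroup.mem_centralizer_singleton_iff.1 (h2 hx)
    exact Group.isSolvable_of_comm this
  push Not at hab
  obtain ⟨a₀, b₀, ha₀, hb₀, hne₀⟩ := hab
  by_cases hico : ∀ a b : G, Tri a → Tri b → ¬ Ico a b
  · left
    obtain ⟨b, hb, hne, hbr⟩ : ∃ b, Tri b ∧ a₀ * b ≠ b * a₀ ∧ Braid a₀ b := by
      rcases h.dd_cases ha₀ hb₀ hne₀ with ⟨e, -⟩ | ⟨e, -⟩ | ⟨e, -⟩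
      · exact ⟨b₀, hb₀, hne₀, e⟩
      · refine ⟨b₀ * b₀, hb₀.sq, fun e' => hne₀ ?_, e⟩
        have hc : Commute a₀ (b₀ * b₀) := e'
        have := hc.mul_right hc
        rwa [hb₀.sq_sq] at this
      · exact absurd e (hico _ _ ha₀ hb₀)
    refine solvable_of_quad ha₀ hb hbr (eq_top_iff.2 (hgen ▸ (Subgroup.closure_le _).2 ?_))
    intro c hc
    have hqm : ∀ i, qd a₀ b i ∈ Subgroup.closure ({a₀, b} : Set G) := by
      have hA : a₀ ∈ Subgroup.closure ({a₀, b} : Set G) :=
        Subgroup.subset_closure (Set.mem_insert _ _)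
      have hB : b ∈ Subgroup.closure ({a₀, b} : Set G) :=
        Subgroup.subset_closure (Set.mem_insert_of_mem _ rfl)
      intro i; fin_cases i
      exacts [hA, hB, mul_mem (mul_mem hA hB) (mul_mem hA hA),
        mul_mem (mul_mem (mul_mem hA hA) hB) hA]
    by_contra hoff
    obtain ⟨i, -, hi⟩ := h.two_ico ha₀ hb hc hne hbr (fun i e => hoff (by
      rcases h.eq_or_of_commute (tri_qd ha₀ hb i) hc e with e1 | e1 <;> rw [e1]
      exacts [hqm i, mul_mem (hqm i) (hqm i)])) 0
    exact hico _ _ (tri_qd ha₀ hb i) hc hi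
  push Not at hico
  obtain ⟨x, y, hx, hy, hxy⟩ := hico
  right
  set H := Subgroup.closure ({x, y} : Set G) with hH
  obtain ⟨e⟩ := (h.ico_spec hx hy hxy).2
  suffices hall : ∀ g : G, Tri g → g ∈ H by
    have : H = ⊤ := eq_top_iff.2 (hgen ▸ (Subgroup.closure_le _).2 hall)
    exact ⟨(Subgroup.topEquiv.symm.trans (MulEquiv.subgroupCongr this.symm)).trans e⟩
  set P : Finset G := Finset.univ.filter (fun g => Tri g) with hP
  have memP : ∀ {g}, g ∈ P ↔ Tri g := by simp [hP]
  -- translation into a block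
  have htrans : ∀ {B : Subgroup G} (p q : B), (Ico p q ↔ Ico (p : G) q) := by
    intro B p q
    simp only [Ico, Braid, ← Subgroup.coe_mul, Ne, Subtype.coe_inj]
  have hblock : ∀ {B : Subgroup G}, Nonempty (B ≃* SL25.SL) →
      (P.filter fun g => g ∈ B).card = 20 ∧
      ∀ p, Tri p → p ∈ B → (P.filter fun g => g ∈ B ∧ Ico p g).card = 6 := by
    rintro B ⟨eB⟩
    have hTri : ∀ g : B, (g ^ 3 = 1 ∧ g ≠ 1) ↔ Tri (g : G) := fun g => by
      exact ⟨fun hg => ⟨congrArg Subtype.val hg.1, fun e => hg.2 (Subtype.ext e)⟩,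
        fun hg => ⟨Subtype.ext hg.1, fun e => hg.2 (congrArg Subtype.val e)⟩⟩
    constructor
    · rw [← SL25.card_three eB, Nat.card_eq_fintype_card, Fintype.card_subtype]
      refine Finset.card_bij' (fun g hg => ⟨g, (Finset.mem_filter.1 hg).2⟩) (fun g _ => g.1)
        ?_ ?_ (fun _ _ => rfl) (fun _ _ => rfl)
      · intro g hg
        simp only [Finset.mem_filter, Finset.mem_univ, true_and] at hg ⊢
        exact (hTri _).2 (memP.1 hg.1)
      · intro g hg
        simp only [Finset.mem_filter, Finset.mem_univ, true_and] at hg ⊢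
        exact ⟨memP.2 ((hTri g).1 hg), g.2⟩
    · intro p hp hpB
      rw [← SL25.card_ico eB ((hTri ⟨p, hpB⟩).2 hp), Nat.card_eq_fintype_card,
        Fintype.card_subtype]
      refine Finset.card_bij' (fun g hg => ⟨g, (Finset.mem_filter.1 hg).2.1⟩) (fun g _ => g.1)
        ?_ ?_ (fun _ _ => rfl) (fun _ _ => rfl)
      · intro g hg
        simp only [Finset.mem_filter, Finset.mem_univ, true_and] at hg ⊢
        exact ⟨(hTri _).2 (memP.1 hg.1), (htrans _ _).2 hg.2.2⟩
      · intro g hg
        simp only [Finset.mem_filter, Finset.mem_univ, true_and] at hg ⊢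
        exact ⟨memP.2 ((hTri g).1 hg.1), g.2, (htrans _ _).1 hg.2⟩
  set f : G → ℕ := fun p => (P.filter fun g => Ico p g).card with hf
  obtain ⟨p, hp, hmax⟩ := Finset.exists_max_image P f ⟨x, memP.2 hx⟩
  have hp' : Tri p := memP.1 hp
  -- lower bound on the number of elements of order three
  set J := P.filter fun g => Ico p g with hJ
  set 𝓑 := J.image fun q => Subgroup.closure ({p, q} : Set G) with h𝓑
  have hB𝓑 : ∀ B ∈ 𝓑, Nonempty (B ≃* SL25.SL) ∧ p ∈ B := by
    intro B hB
    obtain ⟨q, hq, rfl⟩ := Finset.mem_image.1 hB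
    rw [hJ, Finset.mem_filter, memP] at hq
    exact ⟨(h.ico_spec hp' hq.1 hq.2).2, Subgroup.subset_closure (Set.mem_insert _ _)⟩
  have hclose : ∀ B ∈ 𝓑, ∀ q, Tri q → q ∈ B → Ico p q →
      Subgroup.closure ({p, q} : Set G) = B := fun B hB q hq hqB hi =>
    h.block_eq_closure (hB𝓑 B hB).1 hp' hq hi (hB𝓑 B hB).2 hqB
  have hJcard : J.card = 6 * 𝓑.card := by
    rw [Finset.card_eq_sum_card_image (fun q => Subgroup.closure ({p, q} : Set G)) J, ← h𝓑,
      Finset.sum_congr rfl (g := fun _ => 6), Finset.sum_const, smul_eq_mul, mul_comm]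
    intro B hB
    rw [← (hblock (hB𝓑 B hB).1).2 p hp' (hB𝓑 B hB).2]
    congr 1
    ext q
    simp only [hJ, Finset.mem_filter, memP]
    constructor
    · rintro ⟨⟨hq, hi⟩, hqB⟩
      exact ⟨hq, hqB ▸ Subgroup.subset_closure (Set.mem_insert_of_mem _ rfl), hi⟩
    · rintro ⟨hq, hqB, hi⟩
      exact ⟨⟨hq, hi⟩, hclose B hB q hq hqB hi⟩
  have hlow : 2 + 18 * 𝓑.card ≤ P.card := by
    have hd : (𝓑 : Set (Subgroup G)).PairwiseDisjoint
        (fun B : Subgroup G => (P.filter fun g => g ∈ B) \ {p, p * p}) := by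
      intro B hB B' hB' hne
      rw [Function.onFun, Finset.disjoint_left]
      intro q hq hq'
      simp only [Finset.mem_sdiff, Finset.mem_filter, memP, Finset.mem_insert,
        Finset.mem_singleton, not_or] at hq hq'
      have hnc : p * q ≠ q * p := fun e => by
        rcases h.eq_or_of_commute hp' hq.1.1 e with e1 | e1
        exacts [hq.2.1 e1, hq.2.2 e1]
      refine hne ?_
      obtain ⟨hBi, hpB⟩ := hB𝓑 B hB
      obtain ⟨hBi', hpB'⟩ := hB𝓑 B' hB'
      rcases h.dd_cases hp' hq.1.1 hnc with ⟨e1, -⟩ | ⟨e1, -⟩ | ⟨e1, -⟩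
      · exact h.block_unique hBi hBi' hp' hq.1.1 hnc e1 hpB hq.1.2 hpB' hq'.1.2
      · refine h.block_unique hBi hBi' hp' hq.1.1.sq (fun e2 => hnc ?_) e1 hpB
          (mul_mem hq.1.2 hq.1.2) hpB' (mul_mem hq'.1.2 hq'.1.2)
        have hc : Commute p (q * q) := e2
        have := hc.mul_right hc
        rwa [hq.1.1.sq_sq] at this
      · exact (hclose B hB q hq.1.1 hq.1.2 e1).symm.trans (hclose B' hB' q hq.1.1 hq'.1.2 e1)
    have hsub : (𝓑.biUnion fun B : Subgroup G => (P.filter fun g => g ∈ B) \ {p, p * p}) ⊆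
        P \ {p, p * p} := by
      intro q hq
      obtain ⟨B, -, hq⟩ := Finset.mem_biUnion.1 hq
      simp only [Finset.mem_sdiff, Finset.mem_filter] at hq ⊢
      exact ⟨hq.1.1, hq.2⟩
    have hpp : p ≠ p * p := fun e1 => hp'.2 (mul_eq_left.1 e1.symm)
    have h1 := Finset.card_le_card hsub
    rw [Finset.card_biUnion hd, Finset.sum_congr rfl (g := fun _ => 18), Finset.sum_const,
      smul_eq_mul] at h1
    · rw [Finset.card_sdiff_of_subset (by
        intro u hu; simp only [Finset.mem_insert, Finset.mem_singleton] at hu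
        rcases hu with rfl | rfl
        exacts [hp, memP.2 hp'.sq]), Finset.card_pair hpp] at h1
      have := Finset.card_le_card (show ({p, p * p} : Finset G) ⊆ P by
        intro u hu; simp only [Finset.mem_insert, Finset.mem_singleton] at hu
        rcases hu with rfl | rfl
        exacts [hp, memP.2 hp'.sq])
      rw [Finset.card_pair hpp] at this
      omega
    · intro B hB
      obtain ⟨hBi, hpB⟩ := hB𝓑 B hB
      rw [Finset.card_sdiff_of_subset (by
        intro u hu; simp only [Finset.mem_insert, Finset.mem_singleton] at hu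
        rcases hu with rfl | rfl
        exacts [Finset.mem_filter.2 ⟨hp, hpB⟩,
          Finset.mem_filter.2 ⟨memP.2 hp'.sq, mul_mem hpB hpB⟩]),
        Finset.card_pair hpp, (hblock hBi).1]
  -- a braided pair in the first block
  have hxH : x ∈ H := Subgroup.subset_closure (Set.mem_insert _ _)
  obtain ⟨b, hb, hbH, hne, hbr⟩ : ∃ b, Tri b ∧ b ∈ H ∧ x * b ≠ b * x ∧ Braid x b := by
    obtain ⟨c, hc, hcn⟩ : ∃ c ∈ P.filter (fun g => g ∈ H),
        c ∉ {x, x * x} ∪ P.filter (fun g => g ∈ H ∧ Ico x g) :=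
      Finset.exists_mem_notMem_of_card_lt_card (by
        rw [(hblock ⟨e⟩).1]
        refine lt_of_le_of_lt (Finset.card_union_le _ _) ?_
        rw [(hblock ⟨e⟩).2 x hx hxH]
        exact lt_of_le_of_lt (Nat.add_le_add_right Finset.card_le_two 6) (by norm_num))
    simp only [Finset.mem_filter, memP, Finset.mem_union, Finset.mem_insert, Finset.mem_singleton,
      not_or, not_and] at hc hcn
    have hnc : x * c ≠ c * x := fun e1 => by
      rcases h.eq_or_of_commute hx hc.1 e1 with e2 | e2
      exacts [hcn.1.1 e2, hcn.1.2 e2]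
    rcases h.dd_cases hx hc.1 hnc with ⟨e1, -⟩ | ⟨e1, -⟩ | ⟨e1, -⟩
    · exact ⟨c, hc.1, hc.2, hnc, e1⟩
    · refine ⟨c * c, hc.1.sq, mul_mem hc.2 hc.2, fun e2 => hnc ?_, e1⟩
      have hcc : Commute x (c * c) := e2
      have := hcc.mul_right hcc
      rwa [hc.1.sq_sq] at this
    · exact absurd e1 (hcn.2 hc.1 hc.2)
  -- upper bound
  set q := qd x b with hq
  set off := P.filter fun c => ∀ i, q i * c ≠ c * q i with hoff
  have hon : (P \ off).card ≤ 8 := by
    have : P \ off ⊆ Finset.univ.image q ∪ Finset.univ.image (fun i => q i * q i) := by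
      intro c hc
      simp only [hoff, Finset.mem_sdiff, Finset.mem_filter, not_and, not_forall] at hc
      obtain ⟨i, hi⟩ := hc.2 hc.1
      rcases h.eq_or_of_commute (tri_qd hx hb i) (memP.1 hc.1) (not_not.1 hi) with e1 | e1
      · exact Finset.mem_union_left _ (Finset.mem_image.2 ⟨i, Finset.mem_univ _, e1.symm⟩)
      · exact Finset.mem_union_right _ (Finset.mem_image.2 ⟨i, Finset.mem_univ _, e1.symm⟩)
    refine (Finset.card_le_card this).trans ((Finset.card_union_le _ _).trans ?_)
    exact (Nat.add_le_add Finset.card_image_le Finset.card_image_le).trans (by simp)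
  have hup : 2 * off.card ≤ 4 * (6 * 𝓑.card) := by
    calc 2 * off.card = ∑ c ∈ off, 2 := by rw [Finset.sum_const, smul_eq_mul, mul_comm]
      _ ≤ ∑ c ∈ off, (Finset.univ.filter fun i => Ico (q i) c).card := by
          refine Finset.sum_le_sum fun c hc => ?_
          rw [hoff, Finset.mem_filter, memP] at hc
          obtain ⟨i, -, hi⟩ := h.two_ico hx hb hc.1 hne hbr hc.2 0
          obtain ⟨j, hji, hj⟩ := h.two_ico hx hb hc.1 hne hbr hc.2 i
          exact Finset.one_lt_card.2
            ⟨i, by simp [hq, hi], j, by simp [hq, hj], hji.symm⟩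
      _ = ∑ i, (off.filter fun c => Ico (q i) c).card := by
          simp only [Finset.card_filter]; exact Finset.sum_comm
      _ ≤ ∑ _i : Fin 4, f p := Finset.sum_le_sum fun i _ =>
          (Finset.card_le_card (Finset.filter_subset_filter _ (Finset.filter_subset _ _))).trans
            (hmax (q i) (memP.2 (tri_qd hx hb i)))
      _ = 4 * (6 * 𝓑.card) := by
          rw [Finset.sum_const, Finset.card_univ, Fintype.card_fin, smul_eq_mul, ← hJcard]
  have htot : P.card = (P \ off).card + off.card :=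
    (Finset.card_sdiff_add_card_eq_card (Finset.filter_subset _ _)).symm
  have h20 : P.card ≤ 20 := by omega
  intro g hg
  have heq : P.filter (fun g => g ∈ H) = P :=
    Finset.eq_of_subset_of_card_le (Finset.filter_subset _ _) (by rw [(hblock ⟨e⟩).1]; exact h20)
  have := memP.2 hg
  rw [← heq, Finset.mem_filter] at this
  exact this.2

end Cfsg.Agent.Perm.Fpf
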