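import Cfsg.Agent.Lib.Perm.Fpf.TwoPair

/-!
Two noncommuting elements of order three in a fixed-point-free group.
-/

set_option autoImplicit false
set_option linter.style.haveILetI false

namespace Cfsg.Agent.Perm.Fpf

universe u v w

variable {K : Type u} [Field K] {V : Type v} [AddCommGroup V] [Module K V]
  {G : Type w} [Group G]

/-- The axis of an element of order three. -/
noncomputable def ax (ρ : G →* Module.End K V) (a : G) : Module.End K V := 2 * ρ a + 1

/-- Twice the inner product of two axes. -/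
noncomputable def dd (ρ : G →* Module.End K V) (a b : G) : Module.End K V :=
  ax ρ a * ax ρ b + ax ρ b * ax ρ a

variable {ρ : G →* Module.End K V}

theorem ring_dd {R : Type v} [Ring R] (x y : R) :
    (2 * x + 1) * (2 * y + 1) + (2 * y + 1) * (2 * x + 1) = 4 * (1 + x + y + x * y + y * x) - 2 := by
  rw [show (4 : R) = 1 + 1 + (1 + 1) by norm_num, show (2 : R) = 1 + 1 by norm_num]; noncomm_ring

theorem ring_sq {R : Type v} [Ring R] (s : R) :
    (4 * s - 2) * (4 * s - 2) = 16 * (s * s) - 16 * s + 4 := by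
  rw [show (16 : R) = (4 : ℕ) * (4 : ℕ) by norm_num, show (4 : R) = ((4 : ℕ) : R) by norm_num,
    show (2 : R) = ((2 : ℕ) : R) by norm_num]
  simp only [sub_mul, mul_sub, ← mul_assoc, Nat.cast_comm]
  norm_num; noncomm_ring

theorem IsFpf.pair_cases [IsAlgClosed K] [FiniteDimensional K V] [Nontrivial V] [Finite G]
    (h : IsFpf ρ) {a b : G} (ha : a ^ 3 = 1) (hb : b ^ 3 = 1) (hne : a * b ≠ b * a) :
    (2 : K) ≠ 0 ∧ (dd ρ a b = 2 ∨ dd ρ a b = -2 ∨
      (dd ρ a b * dd ρ a b = 20 ∧
        Nonempty (Subgroup.closure ({a, b} : Set G) ≃* SL25.SL))) := by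
  classical
  have ha1 : a ≠ 1 := fun e => hne (by simp [e])
  have hb1 : b ≠ 1 := fun e => hne (by simp [e])
  have hA := h.cube ha1 ha
  have hB := h.cube hb1 hb
  set s : Module.End K V := 1 + ρ a + ρ b + ρ a * ρ b + ρ b * ρ a with hs
  have hsa : ρ a * s = s * ρ a := by
    have : ρ a * s - s * ρ a = (ρ a * ρ a + ρ a + 1) * ρ b - ρ b * (ρ a * ρ a + ρ a + 1) := by
      rw [hs]; noncomm_ring
    rw [← sub_eq_zero, this, hA]; simp
  -- a two-dimensional invariant subspace
  obtain ⟨c, hc⟩ := Module.End.exists_eigenvalue s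
  haveI : Nontrivial (s.eigenspace c) := Submodule.nontrivial_iff_ne_bot.2 hc
  have hmaps : ∀ x ∈ s.eigenspace c, ρ a x ∈ s.eigenspace c := fun x hx => by
    rw [Module.End.mem_eigenspace_iff] at hx ⊢
    have := LinearMap.congr_fun hsa x
    simp only [Module.End.mul_apply] at this
    rw [← this, hx, map_smul]
  obtain ⟨ω, hω⟩ := Module.End.exists_eigenvalue ((ρ a).restrict hmaps)
  obtain ⟨e', he'⟩ := hω.exists_hasEigenvector
  set e : V := (e' : V) with hedef
  have he0 : e ≠ 0 := fun e0 => he'.2 (Subtype.ext e0)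
  have hae : ρ a e = ω • e := congrArg Subtype.val he'.apply_eq_smul
  have hse : s e = c • e := Module.End.mem_eigenspace_iff.1 e'.2
  have hcube : ∀ {g : G}, g ≠ 1 → g ^ 3 = 1 → ∀ x, ρ g (ρ g x) = -ρ g x - x := fun hg hg3 x => by
    have := LinearMap.congr_fun (h.cube hg hg3) x
    simp only [LinearMap.add_apply, Module.End.mul_apply, Module.End.one_apply,
      LinearMap.zero_apply] at this
    linear_combination (norm := module) this
  have hω2 : ω * ω + ω + 1 = 0 := by
    have := hcube ha1 ha e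
    rw [hae, map_smul, hae, smul_smul] at this
    refine smul_left_injective K he0 (?_ : (ω * ω + ω + 1) • e = (0 : K) • e)
    simp only [add_smul, one_smul, zero_smul, this]; abel
  have hab : ρ a (ρ b e) = (c - 1 - ω) • e + (-(1 + ω)) • ρ b e := by
    simp only [hs, LinearMap.add_apply, Module.End.mul_apply, Module.End.one_apply, hae,
      map_smul] at hse
    linear_combination (norm := module) hse
  have hbb : ρ b (ρ b e) = -ρ b e - e := hcube hb1 hb e
  have hind : LinearIndependent K ![e, ρ b e] := by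
    rw [LinearIndependent.pair_iff' he0]
    intro μ hμ
    have hbe : ρ b e = μ • e := hμ.symm
    have hfix : ρ ((b * a)⁻¹ * (a * b)) e = e := by
      have h1 : ρ (a * b) e = ρ (b * a) e := by
        simp only [map_mul, Module.End.mul_apply, hae, hbe, map_smul, smul_smul, mul_comm]
      rw [map_mul, Module.End.mul_apply, h1, ← Module.End.mul_apply, ← map_mul, inv_mul_cancel,
        map_one, Module.End.one_apply]
    exact he0 (h _ (fun e1 => hne (inv_mul_eq_one.1 e1).symm) e hfix)
  set W := Submodule.span K (Set.range ![e, ρ b e]) with hW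
  have heW : e ∈ W := Submodule.subset_span ⟨0, rfl⟩
  have hbeW : ρ b e ∈ W := Submodule.subset_span ⟨1, rfl⟩
  have hgenW : ∀ g : G, (ρ g e ∈ W ∧ ρ g (ρ b e) ∈ W) → ∀ x ∈ W, ρ g x ∈ W := by
    rintro g ⟨g1, g2⟩ x hx
    refine Submodule.span_induction ?_ ?_ ?_ ?_ hx
    · rintro _ ⟨j, rfl⟩; fin_cases j <;> assumption
    · rw [map_zero]; exact W.zero_mem
    · intro x y _ _ hx hy; rw [map_add]; exact W.add_mem hx hy
    · intro r x _ hx; rw [map_smul]; exact W.smul_mem r hx
  have hinv : ∀ g ∈ Subgroup.closure ({a, b} : Set G), ∀ x ∈ W, ρ g x ∈ W := by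
    intro g hg
    induction hg using Subgroup.closure_induction with
    | mem g hg =>
      rcases hg with rfl | rfl
      · refine hgenW _ ⟨hae ▸ W.smul_mem ω heW, ?_⟩
        rw [hab]; exact W.add_mem (W.smul_mem _ heW) (W.smul_mem _ hbeW)
      · refine hgenW _ ⟨hbeW, ?_⟩
        rw [hbb]; exact W.sub_mem (W.neg_mem hbeW) heW
    | one => intro x hx; rw [map_one]; exact hx
    | mul g k _ _ hg hk => intro x hx; rw [map_mul]; exact hg _ (hk x hx)
    | inv g _ hg =>
      have hpow : ∀ n : ℕ, ∀ x ∈ W, ρ (g ^ n) x ∈ W := by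
        intro n
        induction n with
        | zero => intro x hx; rw [pow_zero, map_one]; exact hx
        | succ n ih => intro x hx; rw [pow_succ, map_mul]; exact ih _ (hg x hx)
      have hgi : g⁻¹ = g ^ (orderOf g - 1) := by
        refine inv_eq_of_mul_eq_one_right ?_
        rw [← pow_succ', Nat.sub_add_cancel (orderOf_pos g), pow_orderOf_eq_one]
      rw [hgi]; exact hpow _
  let bas : Module.Basis (Fin 2) K W := Module.Basis.span hind
  set H := Subgroup.closure ({a, b} : Set G) with hHdef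
  let σ : H →* Matrix (Fin 2) (Fin 2) K :=
    { toFun := fun g => LinearMap.toMatrixAlgEquiv bas ((ρ g).restrict (hinv g g.2))
      map_one' := by
        rw [← map_one (LinearMap.toMatrixAlgEquiv bas)]
        congr 1
        refine LinearMap.ext fun x => Subtype.ext ?_
        show ρ ((1 : H) : G) x = x
        rw [OneMemClass.coe_one, map_one]; rfl
      map_mul' := fun g k => by
        rw [← map_mul]
        congr 1
        refine LinearMap.ext fun x => Subtype.ext ?_
        show ρ ((g * k : H) : G) x = ρ g (ρ k x)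
        rw [Subgroup.coe_mul, map_mul]; rfl }
  let a' : H := ⟨a, Subgroup.subset_closure (Set.mem_insert a _)⟩
  let b' : H := ⟨b, Subgroup.subset_closure (Set.mem_insert_of_mem _ rfl)⟩
  have hb0 : (bas 0 : V) = e := congrArg Subtype.val (Module.Basis.span_apply hind 0)
  have hb1' : (bas 1 : V) = ρ b e := congrArg Subtype.val (Module.Basis.span_apply hind 1)
  have hentry : ∀ (g : H) (j : Fin 2) (p q : K), ρ g (bas j : V) = p • e + q • ρ b e →
      σ g 0 j = p ∧ σ g 1 j = q := by
    intro g j p q hg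
    have e1 : (ρ g).restrict (hinv g g.2) (bas j) = p • bas 0 + q • bas 1 := Subtype.ext (by
      show ρ g (bas j : V) = p • (bas 0 : V) + q • (bas 1 : V)
      rw [hg, hb0, hb1'])
    constructor <;>
    · show LinearMap.toMatrixAlgEquiv bas _ _ j = _
      rw [LinearMap.toMatrixAlgEquiv_apply, e1, map_add, map_smul, map_smul,
        Module.Basis.repr_self, Module.Basis.repr_self]
      simp
  have hda : (σ a').det = 1 := by
    obtain ⟨p00, p10⟩ := hentry a' 0 ω 0 (by rw [hb0]; show ρ a e = _; rw [hae]; simp)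
    obtain ⟨p01, p11⟩ := hentry a' 1 (c - 1 - ω) (-(1 + ω)) (by rw [hb1']; exact hab)
    rw [Matrix.det_fin_two, p00, p10, p01, p11]; linear_combination -hω2
  have hdb : (σ b').det = 1 := by
    obtain ⟨p00, p10⟩ := hentry b' 0 0 1 (by rw [hb0]; show ρ b e = _; simp)
    obtain ⟨p01, p11⟩ := hentry b' 1 (-1) (-1) (by
      rw [hb1']; show ρ b (ρ b e) = _; rw [hbb]; module)
    rw [Matrix.det_fin_two, p00, p10, p01, p11]; ring
  have hgen : Subgroup.closure ({a', b'} : Set H) = ⊤ := by
    rw [← Subgroup.closure_closure_coe_preimage (k := ({a, b} : Set G))]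
    congr 1
    ext x
    simp [a', b', Subtype.ext_iff]
  have hdet : ∀ g : H, (σ g).det = 1 := by
    intro g
    have hg : g ∈ Subgroup.closure ({a', b'} : Set H) := hgen ▸ Subgroup.mem_top g
    induction hg using Subgroup.closure_induction with
    | mem g hg => rcases hg with rfl | rfl <;> assumption
    | one => rw [map_one, Matrix.det_one]
    | mul g k _ _ hg hk => rw [map_mul, Matrix.det_mul, hg, hk, one_mul]
    | inv g _ hg =>
      have := congrArg Matrix.det (congrArg σ (inv_mul_cancel g))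
      rwa [map_mul, map_one, Matrix.det_mul, hg, Matrix.det_one, mul_one] at this
  have h2 : Fpf2 σ := by
    refine ⟨hdet, fun g hg ht => ?_⟩
    have hd0 : (σ g - 1).det = 0 := by
      have hd := hdet g
      rw [Matrix.det_fin_two] at hd
      rw [Matrix.trace_fin_two] at ht
      rw [Matrix.det_fin_two]
      simp
      linear_combination hd - ht
    obtain ⟨u, hu0, hu⟩ := Matrix.exists_mulVec_eq_zero_iff.2 hd0
    rw [Matrix.sub_mulVec, Matrix.one_mulVec, sub_eq_zero] at hu
    refine hu0 ?_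
    set x : W := bas.equivFun.symm u with hx
    have hfix : (ρ g).restrict (hinv g g.2) x = x := by
      apply bas.equivFun.injective
      rw [hx, LinearEquiv.apply_symm_apply]
      have e2 := LinearMap.toMatrix_mulVec_repr bas bas ((ρ g).restrict (hinv g g.2)) x
      rw [show (bas.repr x : Fin 2 → K) = u from bas.equivFun.apply_symm_apply u] at e2
      exact e2.symm.trans hu
    have hx0 : (x : V) = 0 := h g (fun e1 => hg (Subtype.ext e1)) x (congrArg Subtype.val hfix)
    rw [← bas.equivFun.apply_symm_apply u, ← hx, show x = 0 from Subtype.ext hx0, map_zero]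
  have hne' : a' * b' ≠ b' * a' := fun e1 => hne (congrArg Subtype.val e1)
  have hpair := h2.pair (a := a') (b := b') (Subtype.ext ha) (Subtype.ext hb) hne' hgen
  -- the consequence in the whole algebra
  set g := a * b with hg
  have hgi : ρ g⁻¹ = 1 + ρ a + ρ b + ρ b * ρ a := by
    have ea : ρ a⁻¹ = -ρ a - 1 := by
      rw [show a⁻¹ = a * a from inv_eq_of_mul_eq_one_right (by rw [← mul_assoc, ← pow_three']; exact ha),
        map_mul, ← sub_eq_zero, ← hA]
      abel
    have eb : ρ b⁻¹ = -ρ b - 1 := by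
      rw [show b⁻¹ = b * b from inv_eq_of_mul_eq_one_right (by rw [← mul_assoc, ← pow_three']; exact hb),
        map_mul, ← sub_eq_zero, ← hB]
      abel
    rw [hg, mul_inv_rev, map_mul, ea, eb]; noncomm_ring
  have hs' : s = ρ g + ρ g⁻¹ := by rw [hgi, hg, map_mul, hs]; abel
  have hgg : ρ g * ρ g⁻¹ = 1 := by rw [← map_mul, mul_inv_cancel, map_one]
  have hgg' : ρ g⁻¹ * ρ g = 1 := by rw [← map_mul, inv_mul_cancel, map_one]
  have hkey : dd ρ a b = 4 * s - 2 := by
    rw [hs, dd, ax, ax, ring_dd]
  have hord : ∀ k : ℕ, σ (a' * b') ^ k = -1 → (2 : K) ≠ 0 → ρ g ^ k = -1 := by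
    intro k hk hk2
    have e1 : ((a' * b') ^ k) ^ 2 = 1 := h2.injective (by
      rw [map_pow, map_pow, hk, neg_one_sq, map_one])
    have e2 : (a' * b') ^ k ≠ 1 := fun e3 => hk2 (by
      rw [← map_pow, e3, map_one] at hk
      have := congrFun (congrFun hk 0) 0
      simp at this
      linear_combination this)
    rw [← map_pow]
    refine h.involution (fun e3 => e2 (Subtype.ext e3)) (congrArg Subtype.val e1)
  have hcancel : ∀ {f : Module.End K V}, (ρ g + 1) * f = 0 → (∃ k, ρ g ^ k = -1) → f = 0 := by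
    rintro f hf ⟨k, hk⟩
    refine h.cancel (g := g ^ k * g) (fun e1 => hne ?_) ?_
    · refine h.injective ?_
      have hgm : ρ g = -1 := by
        have e2 := congrArg ρ e1
        rw [map_mul, map_pow, hk, map_one, neg_one_mul] at e2
        exact neg_eq_iff_eq_neg.1 e2
      have e4 : g * a = a * g := h.injective (by
        simp only [map_mul ρ g a, map_mul ρ a g, hgm, neg_one_mul, mul_neg_one])
      have e5 : a * (b * a) = a * (a * b) := (mul_assoc a b a).symm.trans e4
      rw [mul_left_cancel e5]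
    · rw [map_mul, map_pow, hk, show (-1 * ρ g - 1) = -(ρ g + 1) by rw [neg_one_mul]; abel,
        neg_mul, hf, neg_zero]
  rcases hpair with ⟨hk, hk2⟩ | ⟨hk, hk2⟩ | ⟨hk, hk2, -, hiso⟩
  · refine ⟨hk2, Or.inr (Or.inl ?_)⟩
    have e1 := hord 2 hk hk2
    have e2 : ρ g⁻¹ = -ρ g := by
      calc ρ g⁻¹ = ρ g⁻¹ * -(ρ g ^ 2) := by rw [e1, neg_neg, mul_one]
        _ = _ := by rw [mul_neg, sq, ← mul_assoc, hgg', one_mul]
    rw [hkey, hs', e2, add_neg_cancel, mul_zero, zero_sub]
  · refine ⟨hk2, Or.inl ?_⟩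
    have e1 := hord 3 hk hk2
    have e2 : ρ g * ρ g - ρ g + 1 = 0 := hcancel (by
      rw [show (ρ g + 1) * (ρ g * ρ g - ρ g + 1) = ρ g ^ 3 + 1 by noncomm_ring, e1,
        neg_add_cancel]) ⟨3, e1⟩
    have e3 : s = 1 := by
      have := congrArg (ρ g⁻¹ * ·) e2
      simp only [mul_add, mul_sub, mul_one, mul_zero, ← mul_assoc, hgg', one_mul] at this
      rw [hs', ← sub_eq_zero, ← this]; abel
    rw [hkey, e3]; norm_num
  · refine ⟨hk2, Or.inr (Or.inr ⟨?_, hiso⟩)⟩
    have e1 := hord 5 hk hk2
    have e2 : ρ g ^ 4 - ρ g ^ 3 + ρ g ^ 2 - ρ g + 1 = 0 := hcancel (by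
      rw [show (ρ g + 1) * (ρ g ^ 4 - ρ g ^ 3 + ρ g ^ 2 - ρ g + 1) = ρ g ^ 5 + 1 by noncomm_ring,
        e1, neg_add_cancel]) ⟨5, e1⟩
    have e3 : s * s = s + 1 := by
      have := congrArg (ρ g⁻¹ * ρ g⁻¹ * ·) e2
      simp only [mul_add, mul_sub, mul_one, mul_zero, pow_succ, pow_zero, one_mul] at this
      simp only [← mul_assoc] at this
      simp only [mul_assoc (ρ g⁻¹) (ρ g⁻¹), hgg', one_mul, mul_one] at this
      rw [hs', add_mul, mul_add, mul_add, hgg, hgg', ← sub_eq_zero, ← this]
      abel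
    rw [hkey, ring_sq, e3]
    noncomm_ring
    norm_num

end Cfsg.Agent.Perm.Fpf
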