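import Cfsg.Agent.Lib.Perm.Fpf.Basic

/-!
Fixed-point-free finite groups of two-by-two matrices of determinant one.
-/

set_option autoImplicit false
set_option linter.style.haveILetI false

namespace Cfsg.Agent.Perm.Fpf

universe u v

open Matrix

variable {K : Type u} [Field K] {Γ : Type v} [Group Γ]

/-- A representation by two-by-two matrices of determinant one, in which only the neutral element
has trace two. -/
structure Fpf2 (ρ : Γ →* Matrix (Fin 2) (Fin 2) K) : Prop where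
  det : ∀ g, (ρ g).det = 1
  tr : ∀ g, g ≠ 1 → (ρ g).trace ≠ 2

theorem cayley_two {M : Matrix (Fin 2) (Fin 2) K} (hd : M.det = 1) :
    M * M = M.trace • M - 1 := by
  rw [det_fin_two] at hd
  ext i j
  fin_cases i <;> fin_cases j <;>
    simp [Matrix.mul_apply, Fin.sum_univ_two, trace_fin_two] <;>
    first | linear_combination -hd | ring

/-- A matrix commuting with a nonscalar matrix is a combination of it and the identity. -/
theorem commutant_two {A M : Matrix (Fin 2) (Fin 2) K} (hns : ∀ c : K, M ≠ c • 1)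
    (hc : A * M = M * A) : ∃ x y : K, A = x • 1 + y • M := by
  have h00 := congrFun (congrFun hc 0) 0
  have h01 := congrFun (congrFun hc 0) 1
  have h10 := congrFun (congrFun hc 1) 0
  simp only [Matrix.mul_apply, Fin.sum_univ_two] at h00 h01 h10
  by_cases hb : M 0 1 = 0
  · by_cases hcc : M 1 0 = 0
    · have hd : M 0 0 - M 1 1 ≠ 0 := fun e => hns (M 0 0) (by
        ext i j; fin_cases i <;> fin_cases j <;> simp [hb, hcc]
        linear_combination -e)
      refine ⟨A 0 0 - (A 0 0 - A 1 1) / (M 0 0 - M 1 1) * M 0 0,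
        (A 0 0 - A 1 1) / (M 0 0 - M 1 1), ?_⟩
      simp only [hb, hcc] at h01 h10
      ext i j; fin_cases i <;> fin_cases j <;> simp [hb, hcc]
      · have : A 0 1 * (M 0 0 - M 1 1) = 0 := by linear_combination -h01
        simpa [hd] using this
      · have : A 1 0 * (M 0 0 - M 1 1) = 0 := by linear_combination h10
        simpa [hd] using this
      · field_simp; ring
    · refine ⟨A 0 0 - A 1 0 / M 1 0 * M 0 0, A 1 0 / M 1 0, ?_⟩
      simp only [hb] at h00 h01 h10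
      ext i j; fin_cases i <;> fin_cases j <;> simp [hb]
      · have : A 0 1 * M 1 0 = 0 := by linear_combination h00
        simpa [hcc] using this
      · field_simp
      · field_simp; linear_combination h10
  · refine ⟨A 0 0 - A 0 1 / M 0 1 * M 0 0, A 0 1 / M 0 1, ?_⟩
    ext i j; fin_cases i <;> fin_cases j <;> simp
    · field_simp
    · field_simp; linear_combination -h00
    · field_simp; linear_combination -h01

theorem smul_add_smul_eq_smul_one {M : Matrix (Fin 2) (Fin 2) K} (hns : ∀ c : K, M ≠ c • 1)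
    {a b c : K} (h : a • M + b • 1 = c • (1 : Matrix (Fin 2) (Fin 2) K)) : a = 0 := by
  by_contra ha
  refine hns ((c - b) / a) ?_
  have e : a • M = (c - b) • (1 : Matrix (Fin 2) (Fin 2) K) := by
    rw [sub_smul, eq_sub_iff_add_eq, h]
  calc M = a⁻¹ • (a • M) := (inv_smul_smul₀ ha M).symm
    _ = ((c - b) / a) • 1 := by rw [e, smul_smul, div_eq_inv_mul]

namespace Fpf2

variable {ρ : Γ →* Matrix (Fin 2) (Fin 2) K}

theorem toFpf (h : Fpf2 ρ) :
    IsFpf ((Matrix.toLinAlgEquiv' (R := K) (n := Fin 2)).toAlgHom.toMonoidHom.comp ρ) := by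
  intro g hg x hx
  by_contra hne
  have e : (ρ g - 1).det = 0 := Matrix.exists_mulVec_eq_zero_iff.1
    ⟨x, hne, by rw [Matrix.sub_mulVec, Matrix.one_mulVec, sub_eq_zero]; simpa using hx⟩
  refine h.tr g hg ?_
  have hd := h.det g
  rw [det_fin_two] at hd
  simp [det_fin_two] at e
  rw [trace_fin_two]
  linear_combination hd - e

theorem injective (h : Fpf2 ρ) : Function.Injective ρ := fun a b e =>
  h.toFpf.injective (by simp only [MonoidHom.comp_apply, e])

theorem natCast_ne_zero (h : Fpf2 ρ) [Finite Γ] {n : ℕ} (hn : n ∣ Nat.card Γ) : (n : K) ≠ 0 :=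
  h.toFpf.natCast_ne_zero hn

theorem involution (h : Fpf2 ρ) {g : Γ} (hg : g ≠ 1) (h2 : g ^ 2 = 1) : ρ g = -1 := by
  have := h.toFpf.involution hg h2
  apply (Matrix.toLinAlgEquiv' (R := K) (n := Fin 2)).injective
  rw [map_neg, map_one]
  exact this

theorem involution_unique (h : Fpf2 ρ) {g k : Γ} (hg : g ≠ 1) (hg2 : g ^ 2 = 1) (hk : k ≠ 1)
    (hk2 : k ^ 2 = 1) : g = k :=
  h.toFpf.involution_unique hg hg2 hk hk2

/-- The elements of order at most two. -/
def zed (h : Fpf2 ρ) : Subgroup Γ where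
  carrier := {g | g ^ 2 = 1}
  one_mem' := one_pow 2
  inv_mem' := fun {g} hg => by
    show g⁻¹ ^ 2 = 1
    rw [inv_pow, show g ^ 2 = 1 from hg, inv_one]
  mul_mem' := fun {a b} ha hb => by
    show (a * b) ^ 2 = 1
    by_cases ha1 : a = 1
    · rw [ha1, one_mul]; exact hb
    by_cases hb1 : b = 1
    · rw [hb1, mul_one]; exact ha
    rw [h.involution_unique ha1 ha hb1 hb, ← sq, show b ^ 2 = 1 from hb, one_pow]

theorem mem_zed (h : Fpf2 ρ) {g : Γ} : g ∈ h.zed ↔ g ^ 2 = 1 := Iff.rfl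

theorem zed_scalar (h : Fpf2 ρ) {g : Γ} (hg : g ∈ h.zed) : ∃ c : K, ρ g = c • 1 := by
  by_cases h1 : g = 1
  · exact ⟨1, by rw [h1, map_one, one_smul]⟩
  · exact ⟨-1, by rw [h.involution h1 hg, neg_one_smul]⟩

theorem zed_comm (h : Fpf2 ρ) {g : Γ} (hg : g ∈ h.zed) (x : Γ) : x * g = g * x := by
  obtain ⟨c, hc⟩ := h.zed_scalar hg
  exact h.injective (by simp [map_mul, hc])

instance zed_normal (h : Fpf2 ρ) : h.zed.Normal :=
  ⟨fun g hg x => by rwa [h.zed_comm hg x, mul_inv_cancel_right]⟩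

theorem card_zed_le (h : Fpf2 ρ) [Finite Γ] : Nat.card h.zed = 1 ∨ Nat.card h.zed = 2 := by
  by_cases hz : h.zed = ⊥
  · left; rw [hz, Subgroup.card_bot]
  · right
    obtain ⟨g, hg, hg1⟩ := h.zed.bot_or_exists_ne_one.resolve_left hz
    rw [Nat.card_eq_two_iff' (1 : h.zed)]
    refine ⟨⟨g, hg⟩, fun e => hg1 (congrArg Subtype.val e), fun y hy => Subtype.ext ?_⟩
    exact h.involution_unique (fun e => hy (Subtype.ext e)) y.2 hg1 hg

theorem tr_ne (h : Fpf2 ρ) {g : Γ} (hg : g ∉ h.zed) :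
    (ρ g).trace ≠ 2 ∧ (ρ g).trace ≠ -2 := by
  have h1 : g ≠ 1 := fun e => hg (e ▸ one_mem _)
  refine ⟨h.tr g h1, fun e => h.tr (g ^ 2) hg ?_⟩
  rw [map_pow, sq, cayley_two (h.det g), Matrix.trace_sub, Matrix.trace_smul, Matrix.trace_one, e]
  simp; ring

theorem not_scalar (h : Fpf2 ρ) {g : Γ} (hg : g ∉ h.zed) (c : K) : ρ g ≠ c • 1 := by
  intro e
  have hd := h.det g
  rw [e, Matrix.det_smul, Matrix.det_one, Fintype.card_fin, mul_one] at hd
  obtain ⟨h2, h2'⟩ := h.tr_ne hg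
  rcases eq_or_eq_neg_of_sq_eq_sq c 1 (by rw [hd, one_pow]) with rfl | rfl <;>
    simp [e] at h2 h2'

theorem exists_lin (h : Fpf2 ρ) {g a : Γ} (hg : g ∉ h.zed) (ha : a * g = g * a) :
    ∃ x y : K, ρ a = x • 1 + y • ρ g :=
  commutant_two (h.not_scalar hg) (by rw [← map_mul, ha, map_mul])

theorem comm_trans (h : Fpf2 ρ) {g a b : Γ} (hg : g ∉ h.zed) (ha : a * g = g * a)
    (hb : b * g = g * b) : a * b = b * a := by
  obtain ⟨x, y, hxy⟩ := h.exists_lin hg ha
  refine h.injective ?_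
  have hb' : ρ b * ρ g = ρ g * ρ b := by rw [← map_mul, hb, map_mul]
  simp only [map_mul, hxy, add_mul, mul_add, smul_mul_assoc, mul_smul_comm, one_mul, mul_one, hb']

theorem mem_cent {g x : Γ} : x ∈ Subgroup.centralizer {g} ↔ x * g = g * x :=
  Subgroup.mem_centralizer_singleton_iff

theorem self_mem_cent (g : Γ) : g ∈ Subgroup.centralizer {g} := mem_cent.2 rfl

theorem cent_comm (h : Fpf2 ρ) {g : Γ} (hg : g ∉ h.zed) :
    ∀ a ∈ Subgroup.centralizer {g}, ∀ b ∈ Subgroup.centralizer {g}, a * b = b * a :=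
  fun _ ha _ hb => h.comm_trans hg (mem_cent.1 ha) (mem_cent.1 hb)

theorem zed_le_cent (h : Fpf2 ρ) (g : Γ) : h.zed ≤ Subgroup.centralizer {g} :=
  fun _ hz => mem_cent.2 (h.zed_comm hz g).symm

theorem cent_eq (h : Fpf2 ρ) {g a : Γ} (hg : g ∉ h.zed) (ha : a ∈ Subgroup.centralizer {g})
    (ha' : a ∉ h.zed) : Subgroup.centralizer {a} = Subgroup.centralizer ({g} : Set Γ) := by
  have hag := mem_cent.1 ha
  ext x
  rw [mem_cent, mem_cent]
  exact ⟨fun hx => h.comm_trans ha' hx hag.symm, fun hx => h.comm_trans hg hx hag⟩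

/-- The eigenvalue character of the centraliser of an element. -/
theorem exists_eigen [IsAlgClosed K] (h : Fpf2 ρ) {g : Γ} (hg : g ∉ h.zed) :
    ∃ μ : Subgroup.centralizer ({g} : Set Γ) →* K, Function.Injective μ ∧
      ∀ a : Subgroup.centralizer ({g} : Set Γ),
        μ a * μ a - (ρ a).trace * μ a + 1 = 0 := by
  obtain ⟨l, hl⟩ := Module.End.exists_eigenvalue (Matrix.toLin' (ρ g))
  obtain ⟨v, hv⟩ := hl.exists_hasEigenvector
  have hv0 : v ≠ 0 := hv.2
  have hgv : ρ g *ᵥ v = l • v := by simpa using hv.apply_eq_smul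
  have hex : ∀ a : Subgroup.centralizer ({g} : Set Γ), ∃ c : K, ρ a *ᵥ v = c • v := fun a => by
    obtain ⟨x, y, hxy⟩ := h.exists_lin hg (mem_cent.1 a.2)
    exact ⟨x + y * l, by rw [hxy, Matrix.add_mulVec, Matrix.smul_mulVec,
      Matrix.smul_mulVec, Matrix.one_mulVec, hgv, smul_smul, add_smul]⟩
  choose μ hμ using hex
  have huniq : ∀ {c d : K}, c • v = d • v → c = d := fun e => smul_left_injective K hv0 e
  have hone : μ 1 = 1 := huniq (by rw [← hμ, OneMemClass.coe_one, map_one, Matrix.one_mulVec, one_smul])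
  refine ⟨⟨⟨μ, hone⟩, fun a b => huniq ?_⟩, ?_, fun a => huniq ?_⟩
  · rw [← hμ, Subgroup.coe_mul, map_mul, ← Matrix.mulVec_mulVec, hμ, Matrix.mulVec_smul, hμ,
      smul_smul, mul_comm]
  · rw [injective_iff_map_eq_one]
    intro a ha
    have ha' : μ a = 1 := ha
    by_contra hne
    refine hv0 (h.toFpf a (fun e => hne (Subtype.ext e)) v ?_)
    show Matrix.toLinAlgEquiv' (ρ a) v = v
    simpa [ha'] using hμ a
  · show (μ a * μ a - (ρ a).trace * μ a + 1) • v = (0 : K) • v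
    have e := congrArg (fun M => M *ᵥ v) (cayley_two (h.det (a : Γ)))
    simp only [Matrix.sub_mulVec, Matrix.smul_mulVec, Matrix.one_mulVec,
      ← Matrix.mulVec_mulVec, hμ, Matrix.mulVec_smul, smul_smul] at e
    simp only [add_smul, sub_smul, one_smul, zero_smul, e]
    abel

theorem trace_conj (x g : Γ) : (ρ (x * g * x⁻¹)).trace = (ρ g).trace := by
  rw [map_mul, Matrix.trace_mul_comm, ← map_mul, inv_mul_cancel_left]

theorem conj_cases [IsAlgClosed K] (h : Fpf2 ρ) {g x : Γ} (hg : g ∉ h.zed)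
    (hx : x * g * x⁻¹ ∈ Subgroup.centralizer {g}) : x * g * x⁻¹ = g ∨ x * g * x⁻¹ = g⁻¹ := by
  obtain ⟨μ, hμ, hroot⟩ := h.exists_eigen hg
  let a : Subgroup.centralizer ({g} : Set Γ) := ⟨_, hx⟩
  let b : Subgroup.centralizer ({g} : Set Γ) := ⟨g, self_mem_cent g⟩
  have e1 := hroot a
  have e2 := hroot b
  have ht : (ρ (a : Γ)).trace = (ρ (b : Γ)).trace := trace_conj x g
  rw [ht] at e1
  have hinv : μ b⁻¹ * μ b = 1 := by rw [← map_mul, inv_mul_cancel, map_one]
  have hb0 : μ b ≠ 0 := fun e => by rw [e, mul_zero] at hinv; exact zero_ne_one hinv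
  have ht2 : μ b + μ b⁻¹ = (ρ (b : Γ)).trace := by
    have : μ b * (μ b + μ b⁻¹ - (ρ (b : Γ)).trace) = 0 := by linear_combination e2 + hinv
    exact sub_eq_zero.1 ((mul_eq_zero.1 this).resolve_left hb0)
  have : (μ a - μ b) * (μ a - μ b⁻¹) = 0 := by linear_combination e1 + hinv - μ a * ht2
  rcases mul_eq_zero.1 this with e | e
  · exact Or.inl (congrArg Subtype.val (hμ (sub_eq_zero.1 e)))
  · exact Or.inr (congrArg Subtype.val (hμ (sub_eq_zero.1 e)))

theorem cent_cyclic [IsAlgClosed K] (h : Fpf2 ρ) [Finite Γ] {g : Γ} (hg : g ∉ h.zed) :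
    IsCyclic (Subgroup.centralizer ({g} : Set Γ)) := by
  obtain ⟨μ, hμ, -⟩ := h.exists_eigen hg
  exact isCyclic_of_subgroup_isDomain μ hμ

/-- The powers of an element, as combinations of it and the identity. -/
theorem pow_lin (h : Fpf2 ρ) (g : Γ) :
    ρ g ^ 2 = (ρ g).trace • ρ g + (-1 : K) • 1 ∧
    ρ g ^ 3 = ((ρ g).trace ^ 2 - 1) • ρ g + (-(ρ g).trace) • 1 ∧
    ρ g ^ 4 = ((ρ g).trace ^ 3 - 2 * (ρ g).trace) • ρ g + (-((ρ g).trace ^ 2 - 1)) • 1 ∧
    ρ g ^ 5 = ((ρ g).trace ^ 4 - 3 * (ρ g).trace ^ 2 + 1) • ρ g +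
      (-((ρ g).trace ^ 3 - 2 * (ρ g).trace)) • 1 := by
  have hc : ρ g * ρ g = (ρ g).trace • ρ g + (-1 : K) • 1 := by
    rw [cayley_two (h.det g), neg_one_smul, sub_eq_add_neg]
  have hstep : ∀ a b : K, (a • ρ g + b • (1 : Matrix (Fin 2) (Fin 2) K)) * ρ g =
      (a * (ρ g).trace + b) • ρ g + (-a) • 1 := fun a b => by
    rw [add_mul, smul_mul_assoc, smul_mul_assoc, one_mul, hc, smul_add, smul_smul, smul_smul,
      mul_neg_one, add_smul]
    abel
  have h2 : ρ g ^ 2 = (ρ g).trace • ρ g + (-1 : K) • 1 := by rw [sq, hc]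
  have h3 : ρ g ^ 3 = ((ρ g).trace ^ 2 - 1) • ρ g + (-(ρ g).trace) • 1 := by
    rw [pow_succ, h2, hstep]; congr 2; ring
  have h4 : ρ g ^ 4 =
      ((ρ g).trace ^ 3 - 2 * (ρ g).trace) • ρ g + (-((ρ g).trace ^ 2 - 1)) • 1 := by
    rw [pow_succ, h3, hstep]; congr 2; ring
  refine ⟨h2, h3, h4, ?_⟩
  rw [pow_succ, h4, hstep]; congr 2; ring

theorem trace_of_pow_mem (h : Fpf2 ρ) {g : Γ} (hg : g ∉ h.zed) :
    (g ^ 2 ∈ h.zed → (ρ g).trace = 0) ∧
    (g ^ 3 ∈ h.zed → (ρ g).trace ^ 2 = 1) ∧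
    (g ^ 4 ∈ h.zed → (ρ g).trace = 0 ∨ (ρ g).trace ^ 2 = 2) ∧
    (g ^ 5 ∈ h.zed → (ρ g).trace ^ 4 - 3 * (ρ g).trace ^ 2 + 1 = 0) := by
  obtain ⟨h2, h3, h4, h5⟩ := h.pow_lin g
  have key : ∀ {n : ℕ} {a b : K}, g ^ n ∈ h.zed → ρ g ^ n = a • ρ g + b • 1 → a = 0 := by
    intro n a b hn he
    obtain ⟨c, hc⟩ := h.zed_scalar hn
    rw [map_pow, he] at hc
    exact smul_add_smul_eq_smul_one (h.not_scalar hg) hc
  refine ⟨fun e => key e h2, fun e => sub_eq_zero.1 (key e h3), fun e => ?_, fun e => key e h5⟩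
  have := key e h4
  rcases mul_eq_zero.1 (show (ρ g).trace * ((ρ g).trace ^ 2 - 2) = 0 by linear_combination this)
    with e | e
  · exact Or.inl e
  · exact Or.inr (sub_eq_zero.1 e)

end Fpf2

end Cfsg.Agent.Perm.Fpf
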