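import Cfsg.Agent.Lib.Perm.Fpf.Two
import Cfsg.Agent.Lib.Solv.ThompsonFPF

/-!
The class equation of a fixed-point-free group of two-by-two matrices of determinant one.
-/

set_option autoImplicit false
set_option linter.style.haveILetI false
set_option linter.unusedSectionVars false
set_option linter.unusedVariables false

namespace Cfsg.Agent.Perm.Fpf

universe u v

section Arith

theorem arith_one {N k e m : ℕ} (hk : 1 ≤ k) (hm : 2 ≤ m) (he : e = 1 ∨ e = 2)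
    (hN : k * e * m = N) (hs : k * (m - 1) = N - 1) : e = 1 ∧ k = 1 := by
  have hp : k * 2 ≤ k * m := Nat.mul_le_mul le_rfl hm
  rw [Nat.mul_sub_one] at hs
  rcases he with rfl | rfl
  · rw [mul_one] at hN; omega
  · rw [mul_right_comm] at hN; omega

theorem arith_two {N k₁ e₁ m₁ k₂ e₂ m₂ : ℕ} (hk₁ : 1 ≤ k₁) (hm₁ : 2 ≤ m₁)
    (he₁ : e₁ = 1 ∨ e₁ = 2) (hN₁ : k₁ * e₁ * m₁ = N) (hk₂ : 1 ≤ k₂) (hm₂ : 2 ≤ m₂)
    (he₂ : e₂ = 1 ∨ e₂ = 2) (hN₂ : k₂ * e₂ * m₂ = N)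
    (hs : k₁ * (m₁ - 1) + k₂ * (m₂ - 1) = N - 1) :
    (e₁ = 2 ∧ k₁ = 1) ∨ (e₂ = 2 ∧ k₂ = 1) ∨ (m₁ ≤ 4 ∧ m₂ ≤ 4) := by
  wlog h : e₁ ≤ e₂ generalizing k₁ e₁ m₁ k₂ e₂ m₂
  · have := this hk₂ hm₂ he₂ hN₂ hk₁ hm₁ he₁ hN₁ (by omega) (by omega)
    tauto
  rw [mul_right_comm] at hN₁ hN₂
  rw [Nat.mul_sub_one, Nat.mul_sub_one] at hs
  have p₁ : k₁ * 2 ≤ k₁ * m₁ := Nat.mul_le_mul le_rfl hm₁
  have p₂ : k₂ * 2 ≤ k₂ * m₂ := Nat.mul_le_mul le_rfl hm₂
  rcases he₁ with rfl | rfl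
  · rcases he₂ with rfl | rfl
    · omega
    · by_cases h4 : 4 ≤ m₁
      · have : k₁ * 4 ≤ k₁ * m₁ := Nat.mul_le_mul le_rfl h4
        omega
      interval_cases m₁
      · exact Or.inr (Or.inl ⟨rfl, by omega⟩)
      · by_cases h3 : 3 ≤ m₂
        · have : k₂ * 3 ≤ k₂ * m₂ := Nat.mul_le_mul le_rfl h3
          omega
        · exact Or.inr (Or.inr ⟨by omega, by omega⟩)
  · rcases he₂ with rfl | rfl <;> omega

theorem arith_three_sorted {h k₁ k₂ m₂ k₃ m₃ : ℕ} (h₁ : k₁ * 2 = h)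
    (hm₂ : 2 ≤ m₂) (hle : m₂ ≤ m₃) (h₂ : k₂ * m₂ = h) (h₃ : k₃ * m₃ = h)
    (hs : k₁ + k₂ + k₃ = h + 1) :
    k₃ = 1 ∨ (m₂ ≤ 4 ∧ m₃ ≤ 4) ∨ (h = 30 ∧ m₂ = 3 ∧ m₃ = 5) := by
  by_cases h4 : 4 ≤ m₂
  · have : k₂ * 4 ≤ k₂ * m₂ := Nat.mul_le_mul le_rfl h4
    have : k₃ * 4 ≤ k₃ * m₃ := Nat.mul_le_mul le_rfl (h4.trans hle)
    omega
  interval_cases m₂
  · left; omega
  · by_cases h6 : 6 ≤ m₃
    · have : k₃ * 6 ≤ k₃ * m₃ := Nat.mul_le_mul le_rfl h6
      omega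
    interval_cases m₃ <;> omega

theorem arith_three {N k₁ e₁ m₁ k₂ e₂ m₂ k₃ e₃ m₃ : ℕ} (hk₁ : 1 ≤ k₁) (hm₁ : 2 ≤ m₁)
    (he₁ : e₁ = 1 ∨ e₁ = 2) (hN₁ : k₁ * e₁ * m₁ = N) (hk₂ : 1 ≤ k₂) (hm₂ : 2 ≤ m₂)
    (he₂ : e₂ = 1 ∨ e₂ = 2) (hN₂ : k₂ * e₂ * m₂ = N) (hk₃ : 1 ≤ k₃) (hm₃ : 2 ≤ m₃)
    (he₃ : e₃ = 1 ∨ e₃ = 2) (hN₃ : k₃ * e₃ * m₃ = N)
    (hs : k₁ * (m₁ - 1) + k₂ * (m₂ - 1) + k₃ * (m₃ - 1) = N - 1) :
    e₁ = 2 ∧ e₂ = 2 ∧ e₃ = 2 ∧ ((k₁ = 1 ∨ k₂ = 1 ∨ k₃ = 1) ∨ (m₁ ≤ 4 ∧ m₂ ≤ 4 ∧ m₃ ≤ 4) ∨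
      (N = 60 ∧ (m₁ = 2 ∨ m₁ = 3 ∨ m₁ = 5) ∧ (m₂ = 2 ∨ m₂ = 3 ∨ m₂ = 5) ∧
        (m₃ = 2 ∨ m₃ = 3 ∨ m₃ = 5) ∧ (m₁ = 2 ∨ m₂ = 2 ∨ m₃ = 2) ∧
        (m₁ = 5 ∨ m₂ = 5 ∨ m₃ = 5))) := by
  rw [mul_right_comm] at hN₁ hN₂ hN₃
  rw [Nat.mul_sub_one, Nat.mul_sub_one, Nat.mul_sub_one] at hs
  have p₁ : k₁ * 2 ≤ k₁ * m₁ := Nat.mul_le_mul le_rfl hm₁
  have p₂ : k₂ * 2 ≤ k₂ * m₂ := Nat.mul_le_mul le_rfl hm₂
  have p₃ : k₃ * 2 ≤ k₃ * m₃ := Nat.mul_le_mul le_rfl hm₃
  have hee : e₁ = 2 ∧ e₂ = 2 ∧ e₃ = 2 := by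
    rcases he₁ with rfl | rfl <;> rcases he₂ with rfl | rfl <;> rcases he₃ with rfl | rfl <;>
      omega
  obtain ⟨rfl, rfl, rfl⟩ := hee
  refine ⟨rfl, rfl, rfl, ?_⟩
  have h1' : k₁ * m₁ = N / 2 := by omega
  have h2' : k₂ * m₂ = N / 2 := by omega
  have h3' : k₃ * m₃ = N / 2 := by omega
  have hsum : k₁ + k₂ + k₃ = N / 2 + 1 := by omega
  have htwo : m₁ = 2 ∨ m₂ = 2 ∨ m₃ = 2 := by
    by_contra hc
    have := Nat.mul_le_mul (le_refl k₁) (show 3 ≤ m₁ by omega)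
    have := Nat.mul_le_mul (le_refl k₂) (show 3 ≤ m₂ by omega)
    have := Nat.mul_le_mul (le_refl k₃) (show 3 ≤ m₃ by omega)
    omega
  rcases htwo with h | h | h <;> subst h
  · rcases le_total m₂ m₃ with hle | hle
    · have := arith_three_sorted h1' hm₂ hle h2' h3' hsum; omega
    · have := arith_three_sorted h1' hm₃ hle h3' h2' (by omega); omega
  · rcases le_total m₁ m₃ with hle | hle
    · have := arith_three_sorted h2' hm₁ hle h1' h3' (by omega); omega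
    · have := arith_three_sorted h2' hm₃ hle h3' h1' (by omega); omega
  · rcases le_total m₁ m₂ with hle | hle
    · have := arith_three_sorted h3' hm₁ hle h1' h2' (by omega); omega
    · have := arith_three_sorted h3' hm₂ hle h2' h1' (by omega); omega

end Arith

theorem card_mul_relIndex {G : Type v} [Group G] {H L : Subgroup G} (hle : H ≤ L) :
    Nat.card H * H.relIndex L = Nat.card L := by
  rw [← Subgroup.relIndex_bot_left H, Subgroup.relIndex_mul_relIndex ⊥ H L bot_le hle,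
    Subgroup.relIndex_bot_left]

theorem card_mem_filter {G : Type v} [Group G] [Fintype G] (H : Subgroup G)
    [DecidablePred (· ∈ H)] : (Finset.univ.filter (· ∈ H)).card = Nat.card H := by
  rw [Nat.card_eq_fintype_card, Fintype.card_subtype]

variable {K : Type u} [Field K] {Γ : Type v} [Group Γ] {ρ : Γ →* Matrix (Fin 2) (Fin 2) K}

namespace Fpf2

open scoped Classical in
/-- The centralisers conjugate to that of an element. -/
noncomputable def orb [Fintype Γ] (g : Γ) : Finset (Subgroup Γ) :=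
  Finset.univ.image fun x => Subgroup.centralizer ({x * g * x⁻¹} : Set Γ)

theorem map_conj_cent (x g : Γ) :
    (Subgroup.centralizer ({g} : Set Γ)).map (MulAut.conj x).toMonoidHom =
      Subgroup.centralizer ({x * g * x⁻¹} : Set Γ) := by
  ext y
  rw [mem_cent, Subgroup.mem_map]
  constructor
  · rintro ⟨a, ha, rfl⟩
    show (x * a * x⁻¹) * (x * g * x⁻¹) = x * g * x⁻¹ * (x * a * x⁻¹)
    calc _ = x * (a * g) * x⁻¹ := by group
      _ = x * (g * a) * x⁻¹ := by rw [mem_cent.1 ha]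
      _ = _ := by group
  · intro hy
    refine ⟨x⁻¹ * y * x, mem_cent.2 ?_, by show x * (x⁻¹ * y * x) * x⁻¹ = y; group⟩
    calc _ = x⁻¹ * (y * (x * g * x⁻¹)) * x := by group
      _ = x⁻¹ * ((x * g * x⁻¹) * y) * x := by rw [hy]
      _ = _ := by group

theorem conj_notMem_zed (h : Fpf2 ρ) {g : Γ} (hg : g ∉ h.zed) (x : Γ) : x * g * x⁻¹ ∉ h.zed :=
  fun e => hg (by simpa [mul_assoc] using h.zed_normal.conj_mem _ e x⁻¹)

theorem mem_normalizer_cent_iff (g x : Γ) :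
    x ∈ Subgroup.normalizer (Subgroup.centralizer ({g} : Set Γ) : Set Γ) ↔
      Subgroup.centralizer ({x * g * x⁻¹} : Set Γ) = Subgroup.centralizer ({g} : Set Γ) := by
  rw [← map_conj_cent]
  constructor
  · exact Cfsg.Agent.Solv.map_conj_of_mem
  · exact Cfsg.Agent.Solv.mem_normalizer_of_map_conj

theorem orb_card_mul [Fintype Γ] (g : Γ) :
    (orb g).card * Nat.card (Subgroup.normalizer (Subgroup.centralizer ({g} : Set Γ) : Set Γ)) =
      Nat.card Γ := by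
  classical
  set f : Γ → Subgroup Γ := fun x => Subgroup.centralizer ({x * g * x⁻¹} : Set Γ) with hf
  have hfib : ∀ D ∈ (Finset.univ : Finset Γ).image f,
      (Finset.univ.filter fun x => f x = D).card =
        Nat.card (Subgroup.normalizer (Subgroup.centralizer ({g} : Set Γ) : Set Γ)) := by
    intro D hD
    obtain ⟨x₀, -, rfl⟩ := Finset.mem_image.1 hD
    have hiff : ∀ x, f x = f x₀ ↔
        x₀⁻¹ * x ∈ Subgroup.normalizer (Subgroup.centralizer ({g} : Set Γ) : Set Γ) := fun x => by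
      rw [mem_normalizer_cent_iff, hf]
      have e : ∀ y z : Γ, Subgroup.centralizer ({y * z * y⁻¹} : Set Γ) =
          (Subgroup.centralizer ({z} : Set Γ)).map (MulAut.conj y).toMonoidHom :=
        fun y z => (map_conj_cent y z).symm
      constructor
      · intro hx
        have hx' : Subgroup.centralizer ({x * g * x⁻¹} : Set Γ) =
          Subgroup.centralizer ({x₀ * g * x₀⁻¹} : Set Γ) := hx
        rw [show x₀⁻¹ * x * g * (x₀⁻¹ * x)⁻¹ = x₀⁻¹ * (x * g * x⁻¹) * (x₀⁻¹)⁻¹ by group, e, hx',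
          ← e]
        congr 2; group
      · intro hx
        show Subgroup.centralizer ({x * g * x⁻¹} : Set Γ) =
          Subgroup.centralizer ({x₀ * g * x₀⁻¹} : Set Γ)
        rw [show x * g * x⁻¹ = x₀ * (x₀⁻¹ * x * g * (x₀⁻¹ * x)⁻¹) * x₀⁻¹ by group, e, hx, ← e]
    rw [← card_mem_filter]
    refine Finset.card_bij' (fun x _ => x₀⁻¹ * x) (fun x _ => x₀ * x) ?_ ?_ ?_ ?_
    · intro x hx; simpa using (hiff x).1 (Finset.mem_filter.1 hx).2
    · intro x hx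
      simpa using (hiff (x₀ * x)).2 (by simpa using (Finset.mem_filter.1 hx).2)
    · intro x _; simp
    · intro x _; simp
  rw [Nat.card_eq_fintype_card (α := Γ), ← Finset.card_univ,
    Finset.card_eq_sum_card_image f Finset.univ, Finset.sum_congr rfl hfib, Finset.sum_const,
    smul_eq_mul]
  rfl

variable [IsAlgClosed K]

/-- The order of the centraliser of an element over that of the scalars. -/
noncomputable def ord (h : Fpf2 ρ) (g : Γ) : ℕ :=
  h.zed.relIndex (Subgroup.centralizer ({g} : Set Γ))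

/-- The index of the centraliser of an element in its normaliser. -/
noncomputable def twist (g : Γ) : ℕ :=
  (Subgroup.centralizer ({g} : Set Γ)).relIndex
    (Subgroup.normalizer (Subgroup.centralizer ({g} : Set Γ) : Set Γ))

theorem card_cent (h : Fpf2 ρ) (g : Γ) :
    Nat.card h.zed * h.ord g = Nat.card (Subgroup.centralizer ({g} : Set Γ)) :=
  card_mul_relIndex (h.zed_le_cent g)

theorem pow_ord_mem (h : Fpf2 ρ) (g : Γ) : g ^ h.ord g ∈ h.zed := by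
  have := Subgroup.pow_index_mem (h.zed.subgroupOf (Subgroup.centralizer ({g} : Set Γ)))
    ⟨g, self_mem_cent g⟩
  exact this

theorem two_le_ord (h : Fpf2 ρ) [Finite Γ] {g : Γ} (hg : g ∉ h.zed) : 2 ≤ h.ord g := by
  have h0 : h.ord g ≠ 0 := fun e => by
    have := h.card_cent g
    rw [e, mul_zero] at this
    exact Nat.card_pos.ne this
  have h1 : h.ord g ≠ 1 := fun e => hg (Subgroup.relIndex_eq_one.1 e (self_mem_cent g))
  omega

theorem inverts_of_mem_normalizer (h : Fpf2 ρ) {g x : Γ} (hg : g ∉ h.zed)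
    (hx : x ∈ Subgroup.normalizer (Subgroup.centralizer ({g} : Set Γ) : Set Γ))
    (hxc : x ∉ Subgroup.centralizer ({g} : Set Γ)) : x * g * x⁻¹ = g⁻¹ :=
  (h.conj_cases hg ((Subgroup.mem_normalizer_iff.1 hx g).1 (self_mem_cent g))).resolve_left
    fun e => hxc (mem_cent.2 (mul_inv_eq_iff_eq_mul.1 e))

theorem twist_cases (h : Fpf2 ρ) {g : Γ} (hg : g ∉ h.zed) : twist g = 1 ∨ twist g = 2 := by
  set C := Subgroup.centralizer ({g} : Set Γ)
  set N := Subgroup.normalizer (C : Set Γ)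
  by_cases hNC : N ≤ C
  · exact Or.inl (Subgroup.relIndex_eq_one.2 hNC)
  obtain ⟨a, ha, hac⟩ := SetLike.not_le_iff_exists.1 hNC
  refine Or.inr (Subgroup.index_eq_two_iff.2 ⟨⟨a, ha⟩, fun b => ?_⟩)
  simp only [Subgroup.mem_subgroupOf, Subgroup.coe_mul]
  by_cases hb : (b : Γ) ∈ C
  · exact Or.inr ⟨hb, fun e => hac ((Subgroup.mul_mem_cancel_left _ hb).1 e)⟩
  · refine Or.inl ⟨mem_cent.2 ?_, hb⟩
    have e1 := h.inverts_of_mem_normalizer hg ha hac
    have e2 := h.inverts_of_mem_normalizer hg b.2 hb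
    have e3 : (b : Γ) * g⁻¹ * (b : Γ)⁻¹ = g := by
      simpa [mul_assoc] using congrArg Inv.inv e2
    have : (b : Γ) * a * g * ((b : Γ) * a)⁻¹ = g := by
      rw [show (b : Γ) * a * g * ((b : Γ) * a)⁻¹ = b * (a * g * a⁻¹) * (b : Γ)⁻¹ by group, e1, e3]
    exact mul_inv_eq_iff_eq_mul.1 this

variable [Fintype Γ]

theorem orb_rel (h : Fpf2 ρ) (g : Γ) : (orb g).card * twist g * h.ord g = h.zed.index := by
  have e1 := orb_card_mul g
  have e2 : Nat.card (Subgroup.centralizer ({g} : Set Γ)) * twist g = _ :=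
    card_mul_relIndex Subgroup.le_normalizer
  rw [← e2, ← h.card_cent g, ← h.zed.card_mul_index] at e1
  have hz : 0 < Nat.card h.zed := Nat.card_pos
  refine Nat.eq_of_mul_eq_mul_left hz ?_
  rw [← e1]; ring

open scoped Classical in
theorem one_le_orb (g : Γ) : 1 ≤ (orb g).card :=
  Finset.card_pos.2 ⟨_, Finset.mem_image_of_mem _ (Finset.mem_univ 1)⟩

theorem mem_orb {g : Γ} {D : Subgroup Γ} :
    D ∈ orb g ↔ ∃ x, Subgroup.centralizer ({x * g * x⁻¹} : Set Γ) = D := by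
  simp [orb]

theorem mem_orb_self (g : Γ) : Subgroup.centralizer ({g} : Set Γ) ∈ orb g :=
  mem_orb.2 ⟨1, by simp⟩

theorem card_of_mem_orb {g : Γ} {D : Subgroup Γ} (hD : D ∈ orb g) :
    Nat.card D = Nat.card (Subgroup.centralizer ({g} : Set Γ)) := by
  obtain ⟨x, rfl⟩ := mem_orb.1 hD
  rw [← map_conj_cent, Subgroup.card_map_of_injective (MulAut.conj x).injective]

theorem orb_disjoint {g k : Γ} (hk : Subgroup.centralizer ({k} : Set Γ) ∉ orb g) :
    Disjoint (orb g) (orb k) := by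
  rw [Finset.disjoint_left]
  intro D hD hD'
  obtain ⟨x, rfl⟩ := mem_orb.1 hD
  obtain ⟨y, hy⟩ := mem_orb.1 hD'
  refine hk (mem_orb.2 ⟨y⁻¹ * x, ?_⟩)
  rw [show y⁻¹ * x * g * (y⁻¹ * x)⁻¹ = y⁻¹ * (x * g * x⁻¹) * (y⁻¹)⁻¹ by group, ← map_conj_cent,
    ← hy, map_conj_cent]
  congr 2; group

theorem ord_of_mem_orb (h : Fpf2 ρ) {g x : Γ} (hx : Subgroup.centralizer ({x} : Set Γ) ∈ orb g) :
    h.ord x = h.ord g :=
  Nat.eq_of_mul_eq_mul_left (Nat.card_pos (α := h.zed))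
    (by rw [h.card_cent, h.card_cent, card_of_mem_orb hx])

open scoped Classical in
/-- The elements of a subgroup outside the scalars. -/
noncomputable def body (h : Fpf2 ρ) (D : Subgroup Γ) : Finset Γ :=
  Finset.univ.filter fun x => x ∈ D ∧ x ∉ h.zed

theorem mem_body (h : Fpf2 ρ) {D : Subgroup Γ} {x : Γ} : x ∈ h.body D ↔ x ∈ D ∧ x ∉ h.zed := by
  simp [body]

theorem card_body (h : Fpf2 ρ) {D : Subgroup Γ} (hD : h.zed ≤ D) :
    (h.body D).card = Nat.card D - Nat.card h.zed := by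
  classical
  rw [← card_mem_filter D, ← card_mem_filter h.zed, ← Finset.card_sdiff_of_subset
    (fun x hx => by simp only [Finset.mem_filter, Finset.mem_univ, true_and] at hx ⊢; exact hD hx)]
  congr 1
  ext x
  simp [mem_body]

theorem cent_of_mem_body (h : Fpf2 ρ) {g x : Γ} (hg : g ∉ h.zed) {D : Subgroup Γ}
    (hD : D ∈ orb g) (hx : x ∈ h.body D) : Subgroup.centralizer ({x} : Set Γ) = D := by
  obtain ⟨y, rfl⟩ := mem_orb.1 hD
  rw [mem_body] at hx
  exact h.cent_eq (h.conj_notMem_zed hg y) hx.1 hx.2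

open scoped Classical in
theorem sum_body (h : Fpf2 ρ) (L : Finset Γ) (hL : ∀ g ∈ L, g ∉ h.zed)
    (hd : ∀ g ∈ L, ∀ k ∈ L, g ≠ k → Subgroup.centralizer ({k} : Set Γ) ∉ orb g) :
    (∑ g ∈ L, (orb g).card * (h.ord g - 1)) ≤ h.zed.index - 1 ∧
    ((∀ x, x ∉ h.zed → ∃ g ∈ L, Subgroup.centralizer ({x} : Set Γ) ∈ orb g) →
      (∑ g ∈ L, (orb g).card * (h.ord g - 1)) = h.zed.index - 1) := by
  set z := Nat.card h.zed
  have hz : 0 < z := Nat.card_pos
  set U := L.biUnion fun g => (orb g).biUnion h.body with hU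
  have hcard : U.card = z * ∑ g ∈ L, (orb g).card * (h.ord g - 1) := by
    rw [hU, Finset.card_biUnion, Finset.mul_sum]
    · refine Finset.sum_congr rfl fun g hg => ?_
      rw [Finset.card_biUnion]
      · rw [Finset.sum_congr rfl (g := fun _ => z * (h.ord g - 1)), Finset.sum_const, smul_eq_mul]
        · ring
        · intro D hD
          rw [h.card_body, card_of_mem_orb hD, ← h.card_cent g, Nat.mul_sub_one]
          obtain ⟨y, rfl⟩ := mem_orb.1 hD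
          exact h.zed_le_cent _
      · intro D hD D' hD' hne
        rw [Function.onFun, Finset.disjoint_left]
        intro x hx hx'
        exact hne ((h.cent_of_mem_body (hL g hg) hD hx).symm.trans
          (h.cent_of_mem_body (hL g hg) hD' hx'))
    · intro g hg k hk hne
      rw [Function.onFun, Finset.disjoint_left]
      intro x hx hx'
      obtain ⟨D, hD, hxD⟩ := Finset.mem_biUnion.1 hx
      obtain ⟨D', hD', hxD'⟩ := Finset.mem_biUnion.1 hx'
      have e := (h.cent_of_mem_body (hL g hg) hD hxD).symm.trans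
        (h.cent_of_mem_body (hL k hk) hD' hxD')
      exact Finset.disjoint_left.1 (orb_disjoint (hd g hg k hk hne)) hD (e ▸ hD')
  have hsub : U ⊆ Finset.univ.filter (fun x => x ∉ h.zed) := fun x hx => by
    obtain ⟨g, -, hx⟩ := Finset.mem_biUnion.1 hx
    obtain ⟨D, -, hx⟩ := Finset.mem_biUnion.1 hx
    simpa using (h.mem_body.1 hx).2
  have htot : (Finset.univ.filter (fun x => x ∉ h.zed)).card = z * (h.zed.index - 1) := by
    rw [Nat.mul_sub_one, h.zed.card_mul_index, Nat.card_eq_fintype_card (α := Γ),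
      ← Finset.card_univ]
    have e := Finset.card_filter_add_card_filter_not (s := (Finset.univ : Finset Γ))
      (fun x => x ∈ h.zed)
    rw [card_mem_filter] at e
    omega
  refine ⟨Nat.le_of_mul_le_mul_left (hcard ▸ htot ▸ Finset.card_le_card hsub) hz, fun hcov => ?_⟩
  refine Nat.eq_of_mul_eq_mul_left hz ?_
  rw [← hcard, ← htot]
  refine le_antisymm (Finset.card_le_card hsub) (Finset.card_le_card fun x hx => ?_)
  have hx' : x ∉ h.zed := (Finset.mem_filter.1 hx).2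
  obtain ⟨g, hg, hxg⟩ := hcov x hx'
  exact Finset.mem_biUnion.2 ⟨g, hg, Finset.mem_biUnion.2
    ⟨_, hxg, h.mem_body.2 ⟨self_mem_cent x, hx'⟩⟩⟩

theorem index_cent_eq_two (h : Fpf2 ρ) {g : Γ} (ht : twist g = 2) (hk : (orb g).card = 1) :
    (Subgroup.centralizer ({g} : Set Γ)).index = 2 := by
  have e1 := orb_card_mul g
  rw [hk, one_mul] at e1
  have e2 := Subgroup.eq_top_of_card_eq _ e1
  rw [← ht, twist, e2, Subgroup.relIndex_top_right]

/-- The possible structures. -/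
theorem cases (h : Fpf2 ρ) :
    (∀ a b : Γ, a * b = b * a) ∨
    (∃ A : Subgroup Γ, A.index = 2 ∧ ∀ a ∈ A, ∀ b ∈ A, a * b = b * a) ∨
    (∀ g, g ∉ h.zed → g ^ 2 ∈ h.zed ∨ g ^ 3 ∈ h.zed ∨ g ^ 4 ∈ h.zed) ∨
    (Nat.card Γ = 120 ∧ (∀ g, g ∉ h.zed → g ^ 2 ∈ h.zed ∨ g ^ 3 ∈ h.zed ∨ g ^ 5 ∈ h.zed) ∧
      ∃ y t : Γ, y ∉ h.zed ∧ y ^ 5 ∈ h.zed ∧ t ∉ h.zed ∧ t ^ 2 ∈ h.zed ∧
        t ∉ Subgroup.normalizer (Subgroup.centralizer ({y} : Set Γ) : Set Γ)) := by
  classical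
  by_cases hall : ∀ g, g ∈ h.zed
  · exact Or.inl fun a b => h.zed_comm (hall b) a
  push Not at hall
  obtain ⟨g₁, hg₁⟩ := hall
  have small : ∀ L : Finset Γ, (∀ x, x ∉ h.zed → ∃ g ∈ L,
      Subgroup.centralizer ({x} : Set Γ) ∈ orb g) → (∀ g ∈ L, g ∉ h.zed) →
      (∀ g ∈ L, h.ord g ≤ 4) →
      ∀ x, x ∉ h.zed → x ^ 2 ∈ h.zed ∨ x ^ 3 ∈ h.zed ∨ x ^ 4 ∈ h.zed := by
    intro L hcov hL hle x hx
    obtain ⟨g, hg, hxg⟩ := hcov x hx
    have := h.pow_ord_mem x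
    have h2 := h.two_le_ord hx
    have h4 : h.ord x ≤ 4 := h.ord_of_mem_orb hxg ▸ hle g hg
    rcases (show h.ord x = 2 ∨ h.ord x = 3 ∨ h.ord x = 4 by omega) with e | e | e <;>
      rw [e] at this <;> simp [this]
  have ab : ∀ {g : Γ}, g ∉ h.zed → twist g = 2 → (orb g).card = 1 →
      ∃ A : Subgroup Γ, A.index = 2 ∧ ∀ a ∈ A, ∀ b ∈ A, a * b = b * a :=
    fun hg ht hk => ⟨_, h.index_cent_eq_two ht hk, h.cent_comm hg⟩
  by_cases h1 : ∀ x, x ∉ h.zed → Subgroup.centralizer ({x} : Set Γ) ∈ orb g₁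
  · have e := (h.sum_body {g₁} (by simpa using hg₁) (by simp)).2
      (fun x hx => ⟨g₁, by simp, h1 x hx⟩)
    rw [Finset.sum_singleton] at e
    obtain ⟨ht, hk⟩ := arith_one (one_le_orb g₁) (h.two_le_ord hg₁) (h.twist_cases hg₁)
      (h.orb_rel g₁) e
    have e1 := orb_card_mul g₁
    rw [hk, one_mul] at e1
    have e2 := Subgroup.eq_top_of_card_eq _ e1
    have e3 := Subgroup.relIndex_eq_one.1 ht
    rw [e2] at e3
    exact Or.inl fun a b => h.cent_comm hg₁ a (e3 trivial) b (e3 trivial)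
  push Not at h1
  obtain ⟨g₂, hg₂, h12⟩ := h1
  have h21 : Subgroup.centralizer ({g₁} : Set Γ) ∉ orb g₂ := fun e =>
    Finset.disjoint_left.1 (orb_disjoint h12) (mem_orb_self g₁) e
  have ne12 : g₁ ≠ g₂ := fun e => h12 (e ▸ mem_orb_self g₁)
  by_cases h2 : ∀ x, x ∉ h.zed → Subgroup.centralizer ({x} : Set Γ) ∈ orb g₁ ∨
      Subgroup.centralizer ({x} : Set Γ) ∈ orb g₂
  · have hL : ∀ g ∈ ({g₁, g₂} : Finset Γ), g ∉ h.zed := by simp [hg₁, hg₂]
    have hcov : ∀ x, x ∉ h.zed → ∃ g ∈ ({g₁, g₂} : Finset Γ),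
        Subgroup.centralizer ({x} : Set Γ) ∈ orb g := fun x hx => by
      rcases h2 x hx with e | e
      exacts [⟨g₁, by simp, e⟩, ⟨g₂, by simp, e⟩]
    have e := (h.sum_body {g₁, g₂} hL (by simp [h12, h21])).2 hcov
    rw [Finset.sum_pair ne12] at e
    rcases arith_two (one_le_orb g₁) (h.two_le_ord hg₁) (h.twist_cases hg₁) (h.orb_rel g₁)
      (one_le_orb g₂) (h.two_le_ord hg₂) (h.twist_cases hg₂) (h.orb_rel g₂) e with
      ⟨ht, hk⟩ | ⟨ht, hk⟩ | ⟨m1, m2⟩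
    · exact Or.inr (Or.inl (ab hg₁ ht hk))
    · exact Or.inr (Or.inl (ab hg₂ ht hk))
    · exact Or.inr (Or.inr (Or.inl (small _ hcov hL (by simp [m1, m2]))))
  push Not at h2
  obtain ⟨g₃, hg₃, h13, h23⟩ := h2
  have h31 : Subgroup.centralizer ({g₁} : Set Γ) ∉ orb g₃ := fun e =>
    Finset.disjoint_left.1 (orb_disjoint h13) (mem_orb_self g₁) e
  have h32 : Subgroup.centralizer ({g₂} : Set Γ) ∉ orb g₃ := fun e =>
    Finset.disjoint_left.1 (orb_disjoint h23) (mem_orb_self g₂) e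
  have ne13 : g₁ ≠ g₃ := fun e => h13 (e ▸ mem_orb_self g₁)
  have ne23 : g₂ ≠ g₃ := fun e => h23 (e ▸ mem_orb_self g₂)
  have hL : ∀ g ∈ ({g₁, g₂, g₃} : Finset Γ), g ∉ h.zed := by simp [hg₁, hg₂, hg₃]
  by_cases h3 : ∀ x, x ∉ h.zed → ∃ g ∈ ({g₁, g₂, g₃} : Finset Γ),
      Subgroup.centralizer ({x} : Set Γ) ∈ orb g
  swap
  · exfalso
    push Not at h3
    obtain ⟨g₄, hg₄, h4⟩ := h3
    have h14 := h4 g₁ (by simp)
    have h24 := h4 g₂ (by simp)
    have h34 := h4 g₃ (by simp)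
    have h41 : Subgroup.centralizer ({g₁} : Set Γ) ∉ orb g₄ := fun e =>
      Finset.disjoint_left.1 (orb_disjoint h14) (mem_orb_self g₁) e
    have h42 : Subgroup.centralizer ({g₂} : Set Γ) ∉ orb g₄ := fun e =>
      Finset.disjoint_left.1 (orb_disjoint h24) (mem_orb_self g₂) e
    have h43 : Subgroup.centralizer ({g₃} : Set Γ) ∉ orb g₄ := fun e =>
      Finset.disjoint_left.1 (orb_disjoint h34) (mem_orb_self g₃) e
    have ne14 : g₁ ≠ g₄ := fun e => h14 (e ▸ mem_orb_self g₁)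
    have ne24 : g₂ ≠ g₄ := fun e => h24 (e ▸ mem_orb_self g₂)
    have ne34 : g₃ ≠ g₄ := fun e => h34 (e ▸ mem_orb_self g₃)
    have e := (h.sum_body {g₁, g₂, g₃, g₄} (by simp [hg₁, hg₂, hg₃, hg₄])
      (by simp [h12, h21, h13, h31, h23, h32, h14, h41, h24, h42, h34, h43])).1
    rw [Finset.sum_insert (by simp [ne12, ne13, ne14]), Finset.sum_insert (by simp [ne23, ne24]),
      Finset.sum_pair ne34] at e
    have low : ∀ {g : Γ}, g ∉ h.zed → h.zed.index ≤ 4 * ((orb g).card * (h.ord g - 1)) := by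
      intro g hg
      rw [← h.orb_rel g, mul_assoc, mul_left_comm 4]
      refine Nat.mul_le_mul le_rfl ?_
      have := h.two_le_ord hg
      rcases h.twist_cases hg with e | e <;> rw [e] <;> omega
    have := low hg₁; have := low hg₂; have := low hg₃; have := low hg₄
    have : 0 < h.zed.index := Nat.pos_of_ne_zero Subgroup.index_ne_zero_of_finite
    omega
  have e := (h.sum_body {g₁, g₂, g₃} hL (by simp [h12, h21, h13, h31, h23, h32])).2 h3
  rw [Finset.sum_insert (by simp [ne12, ne13]), Finset.sum_pair ne23, ← add_assoc] at e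
  obtain ⟨t1, t2, t3, hcase⟩ := arith_three (one_le_orb g₁) (h.two_le_ord hg₁)
    (h.twist_cases hg₁) (h.orb_rel g₁) (one_le_orb g₂) (h.two_le_ord hg₂) (h.twist_cases hg₂)
    (h.orb_rel g₂) (one_le_orb g₃) (h.two_le_ord hg₃) (h.twist_cases hg₃) (h.orb_rel g₃) e
  rcases hcase with (hk | hk | hk) | ⟨m1, m2, m3⟩ | ⟨hN, m1, m2, m3, htwo, hfive⟩
  · exact Or.inr (Or.inl (ab hg₁ t1 hk))
  · exact Or.inr (Or.inl (ab hg₂ t2 hk))
  · exact Or.inr (Or.inl (ab hg₃ t3 hk))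
  · exact Or.inr (Or.inr (Or.inl (small _ h3 hL (by simp [m1, m2, m3]))))
  refine Or.inr (Or.inr (Or.inr ?_))
  have hz : Nat.card h.zed = 2 := by
    refine h.card_zed_le.resolve_left fun e1 => ?_
    have hc := h.zed.card_mul_index
    rw [e1, hN] at hc
    obtain ⟨x, hx⟩ := exists_prime_orderOf_dvd_card' (G := Γ) 2 (by rw [← hc]; decide)
    have : x ∈ h.zed := by rw [mem_zed, ← hx, pow_orderOf_eq_one]
    rw [Subgroup.card_eq_one.1 e1, Subgroup.mem_bot] at this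
    rw [this, orderOf_one] at hx
    omega
  have hcard : Nat.card Γ = 120 := by rw [← h.zed.card_mul_index, hz, hN]
  have hpow : ∀ g, g ∉ h.zed → g ^ 2 ∈ h.zed ∨ g ^ 3 ∈ h.zed ∨ g ^ 5 ∈ h.zed := by
    intro x hx
    obtain ⟨g, hg, hxg⟩ := h3 x hx
    have := h.pow_ord_mem x
    have hm : h.ord x = 2 ∨ h.ord x = 3 ∨ h.ord x = 5 := by
      rw [h.ord_of_mem_orb hxg]
      simp only [Finset.mem_insert, Finset.mem_singleton] at hg
      rcases hg with rfl | rfl | rfl <;> assumption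
    rcases hm with e | e | e <;> rw [e] at this <;> simp [this]
  have twist2 : ∀ g ∈ ({g₁, g₂, g₃} : Finset Γ), twist g = 2 := by simp [t1, t2, t3]
  obtain ⟨y, hyL, hy5⟩ : ∃ g ∈ ({g₁, g₂, g₃} : Finset Γ), h.ord g = 5 := by
    simpa using hfive
  obtain ⟨u, huL, hu2⟩ : ∃ g ∈ ({g₁, g₂, g₃} : Finset Γ), h.ord g = 2 := by
    simpa using htwo
  set N := Subgroup.normalizer (Subgroup.centralizer ({y} : Set Γ) : Set Γ) with hNdef
  have hNcard : Nat.card N = 20 := by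
    have e2 := card_mul_relIndex (Subgroup.le_normalizer (H := Subgroup.centralizer ({y} : Set Γ)))
    rw [← h.card_cent, hz, hy5] at e2
    rw [← e2]
    show 2 * 5 * twist y = 20
    rw [twist2 y hyL]
  obtain ⟨t, ht, htN⟩ : ∃ t, t ∈ (orb u).biUnion h.body ∧ t ∉ N := by
    by_contra hno
    push Not at hno
    have hle : ((orb u).biUnion h.body).card ≤ 20 := by
      rw [← hNcard, ← card_mem_filter N]
      exact Finset.card_le_card fun x hx => by simpa using hno x hx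
    rw [Finset.card_biUnion, Finset.sum_congr rfl (g := fun _ => 2), Finset.sum_const,
      smul_eq_mul] at hle
    · have := h.orb_rel u
      rw [twist2 u huL, hu2, hN] at this
      omega
    · intro D hD
      rw [h.card_body, card_of_mem_orb hD, ← h.card_cent u, hz, hu2]
      obtain ⟨x, rfl⟩ := mem_orb.1 hD
      exact h.zed_le_cent _
    · intro D hD D' hD' hne
      rw [Function.onFun, Finset.disjoint_left]
      intro x hx hx'
      exact hne ((h.cent_of_mem_body (hL u huL) hD hx).symm.trans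
        (h.cent_of_mem_body (hL u huL) hD' hx'))
  obtain ⟨D, hD, htD⟩ := Finset.mem_biUnion.1 ht
  refine ⟨hcard, hpow, y, t, hL y hyL, hy5 ▸ h.pow_ord_mem y, (h.mem_body.1 htD).2, ?_, htN⟩
  have e := h.pow_ord_mem t
  rwa [h.ord_of_mem_orb ((h.cent_of_mem_body (hL u huL) hD htD).symm ▸ hD), hu2] at e

end Fpf2

end Cfsg.Agent.Perm.Fpf
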