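import Cfsg.Agent.Lib.Perm.Fpf.TwoCount
import Cfsg.Agent.Lib.Perm.Fpf.SL25Model

/-!
Recognition of `SL(2,5)` among the fixed-point-free groups of two-by-two matrices, and the groups
generated by two elements of order three.
-/

set_option autoImplicit false
set_option linter.style.haveILetI false

namespace Cfsg.Agent.Perm.Fpf.Fpf2

universe u v

open Matrix

variable {K : Type u} [Field K] [IsAlgClosed K] {Γ : Type v} [Group Γ] [Finite Γ]
  {ρ : Γ →* Matrix (Fin 2) (Fin 2) K}

omit [IsAlgClosed K] [Finite Γ] in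
theorem trace_sq (h : Fpf2 ρ) (g : Γ) : (ρ (g * g)).trace = (ρ g).trace ^ 2 - 2 := by
  rw [map_mul, cayley_two (h.det g), trace_sub, trace_smul, trace_one]
  simp; ring

omit [IsAlgClosed K] [Finite Γ] in
theorem trace_inv (h : Fpf2 ρ) (g : Γ) : (ρ g⁻¹).trace = (ρ g).trace := by
  have e : ρ g * ((ρ g).trace • 1 - ρ g) = 1 := by
    rw [mul_sub, mul_smul_comm, mul_one, cayley_two (h.det g)]; abel
  have : ρ g⁻¹ = (ρ g).trace • 1 - ρ g :=
    left_inv_eq_right_inv (by rw [← map_mul, inv_mul_cancel, map_one]) e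
  rw [this, trace_sub, trace_smul, trace_one]
  simp; ring

/-- Recognition of `SL(2,5)` from a pair of generators. -/
theorem recognition_of_gens (h : Fpf2 ρ) (hcard : Nat.card Γ = 120) (x y : Γ) {φ : K}
    (hφ : φ * φ = φ + 1) (hx : (ρ x).trace = 1) (hy : (ρ y).trace = φ)
    (hxy : (ρ (x * y)).trace = 0) (hne : x * y ≠ y * x) :
    Nonempty (Γ ≃* SL25.SL) := by
  classical
  have h2 : (2 : K) ≠ 0 := by exact_mod_cast h.natCast_ne_zero (n := 2) (by rw [hcard]; norm_num)
  have h3 : (3 : K) ≠ 0 := by exact_mod_cast h.natCast_ne_zero (n := 3) (by rw [hcard]; norm_num)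
  have h5 : (5 : K) ≠ 0 := by exact_mod_cast h.natCast_ne_zero (n := 5) (by rw [hcard]; norm_num)
  obtain ⟨i, hi'⟩ := IsAlgClosed.exists_pow_nat_eq (-1 : K) (n := 2) (by norm_num)
  have hi : i * i = -1 := by rw [← sq]; exact hi'
  have hdx := h.det x
  have hdy := h.det y
  have hxy' : (ρ x * ρ y).trace = 0 := by rw [← map_mul]; exact hxy
  have hdet : (ρ x - 1 - i • ρ y).det = 0 := by
    simp only [det_fin_two, trace_fin_two] at hdx hdy hx hy hxy' ⊢
    simp [Matrix.mul_apply, Fin.sum_univ_two] at hxy'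
    simp
    linear_combination hdx - hx - hdy + (ρ y 0 0 * ρ y 1 1 - ρ y 0 1 * ρ y 1 0) * hi
      - i * (ρ y 0 0 + ρ y 1 1) * hx + i * hxy'
  obtain ⟨v, hv0, hv⟩ := Matrix.exists_mulVec_eq_zero_iff.2 hdet
  set w : Fin 2 → K := ρ y *ᵥ v with hw
  have hXv : ρ x *ᵥ v = v + i • w := by
    rw [Matrix.sub_mulVec, Matrix.sub_mulVec, Matrix.one_mulVec, Matrix.smul_mulVec] at hv
    rw [← sub_eq_zero, ← hv]
    abel
  have hXX : ∀ u, ρ x *ᵥ (ρ x *ᵥ u) = ρ x *ᵥ u - u := fun u => by
    rw [Matrix.mulVec_mulVec, cayley_two hdx, hx, one_smul, Matrix.sub_mulVec, Matrix.one_mulVec]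
  have hXw : ρ x *ᵥ w = i • v := by
    have e := hXX v
    rw [hXv, Matrix.mulVec_add, Matrix.mulVec_smul, hXv] at e
    have e2 : i • (ρ x *ᵥ w) = -v := by
      have := congrArg (fun t => t - (v + i • w)) e
      simpa using this
    calc ρ x *ᵥ w = (-i * i) • (ρ x *ᵥ w) := by rw [neg_mul, hi, neg_neg, one_smul]
      _ = (-i) • (i • (ρ x *ᵥ w)) := (smul_smul _ _ _).symm
      _ = i • v := by rw [e2, neg_smul, smul_neg, neg_neg]
  have hYw : ρ y *ᵥ w = φ • w - v := by
    rw [hw, Matrix.mulVec_mulVec, cayley_two hdy, hy, Matrix.sub_mulVec, Matrix.smul_mulVec,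
      Matrix.one_mulVec]
  have hind : ∀ μ : K, w ≠ μ • v := by
    intro μ hμ
    have hyv : ρ y *ᵥ v = μ • v := hμ
    have hxv : ρ x *ᵥ v = (1 + i * μ) • v := by rw [hXv, hμ, smul_smul, add_smul, one_smul]
    have he : ρ (x * y) *ᵥ v = ρ (y * x) *ᵥ v := by
      rw [map_mul, map_mul, ← Matrix.mulVec_mulVec, ← Matrix.mulVec_mulVec, hxv, hyv,
        Matrix.mulVec_smul, Matrix.mulVec_smul, hxv, hyv, smul_smul, smul_smul, mul_comm]
    have hfix : ρ ((y * x)⁻¹ * (x * y)) *ᵥ v = v := by
      rw [map_mul, ← Matrix.mulVec_mulVec, he, Matrix.mulVec_mulVec, ← map_mul, inv_mul_cancel,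
        map_one, Matrix.one_mulVec]
    refine hv0 (h.toFpf ((y * x)⁻¹ * (x * y)) (fun e => hne (inv_mul_eq_one.1 e).symm) v ?_)
    show Matrix.toLinAlgEquiv' (ρ _) v = v
    rw [Matrix.toLinAlgEquiv'_apply]
    exact hfix
  set P : Matrix (Fin 2) (Fin 2) K := !![v 0, w 0; v 1, w 1] with hP
  have hPdet : IsUnit P.det := by
    rw [isUnit_iff_ne_zero]
    intro e
    simp [hP, det_fin_two] at e
    by_cases hv00 : v 0 = 0
    · have hv1 : v 1 ≠ 0 := fun e1 => hv0 (by ext j; fin_cases j <;> assumption)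
      refine hind (w 1 / v 1) ?_
      have : w 0 = 0 := by
        rw [hv00] at e; simp at e; exact e.resolve_right hv1
      ext j; fin_cases j <;> simp [hv00, this, hv1]
    · refine hind (w 0 / v 0) ?_
      ext j; fin_cases j
      · simp [hv00]
      · simp; field_simp; linear_combination e
  let ρ' : Γ →* Matrix (Fin 2) (Fin 2) K :=
    { toFun := fun g => P⁻¹ * ρ g * P
      map_one' := by rw [map_one, mul_one, Matrix.nonsing_inv_mul _ hPdet]
      map_mul' := fun a b => by
        rw [map_mul]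
        simp only [mul_assoc]
        rw [← mul_assoc P P⁻¹, Matrix.mul_nonsing_inv _ hPdet, one_mul] }
  have hinj : Function.Injective ρ' := fun a b e => h.injective (by
    have e' := congrArg (fun M => P * M * P⁻¹) e
    simpa [ρ', mul_assoc, Matrix.mul_nonsing_inv _ hPdet, ← mul_assoc P P⁻¹] using e')
  have hgen : ∀ g M, ρ g * P = P * M → ρ' g = M := fun g M e => by
    show P⁻¹ * ρ g * P = M
    rw [mul_assoc, e, ← mul_assoc, Matrix.nonsing_inv_mul _ hPdet, one_mul]
  have hX : ρ' x = SL25.ev φ i SL25.genX := by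
    refine hgen _ _ ?_
    have a0 := congrFun hXv 0; have a1 := congrFun hXv 1
    have b0 := congrFun hXw 0; have b1 := congrFun hXw 1
    simp [Matrix.mulVec, dotProduct, Fin.sum_univ_two] at a0 a1 b0 b1
    ext j k
    fin_cases j <;> fin_cases k <;>
      simp [hP, SL25.ev, SL25.genX, SL25.evG, Matrix.mul_apply, Fin.sum_univ_two]
    · linear_combination a0
    · linear_combination b0
    · linear_combination a1
    · linear_combination b1
  have hY : ρ' y = SL25.ev φ i SL25.genY := by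
    refine hgen _ _ ?_
    have a0 := congrFun hw 0; have a1 := congrFun hw 1
    have b0 := congrFun hYw 0; have b1 := congrFun hYw 1
    simp [Matrix.mulVec, dotProduct, Fin.sum_univ_two] at a0 a1 b0 b1
    ext j k
    fin_cases j <;> fin_cases k <;>
      simp [hP, SL25.ev, SL25.genY, SL25.evG, Matrix.mul_apply, Fin.sum_univ_two]
    · linear_combination -a0
    · linear_combination b0
    · linear_combination -a1
    · linear_combination b1
  have hrange : ∀ s, SL25.psi hφ hi s ∈ MonoidHom.mrange ρ' :=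
    SL25.psi_mem_range hφ hi ⟨x, hX⟩ ⟨y, hY⟩
  choose f hf using hrange
  have hfmul : ∀ s s', f (s * s') = f s * f s' := fun s s' =>
    hinj (by rw [map_mul, hf, hf, hf, map_mul])
  have hfinj : Function.Injective f := fun s s' e =>
    SL25.psi_injective hφ hi h2 h3 h5 (by rw [← hf s, ← hf s', e])
  exact ⟨(MulEquiv.mk (Equiv.ofBijective f
    ((Nat.bijective_iff_injective_and_card f).2 ⟨hfinj, by rw [SL25.card_SL, hcard]⟩))
    hfmul).symm⟩

theorem recognition (h : Fpf2 ρ) (hcard : Nat.card Γ = 120)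
    (hpow : ∀ g, g ∉ h.zed → g ^ 2 ∈ h.zed ∨ g ^ 3 ∈ h.zed ∨ g ^ 5 ∈ h.zed)
    (hex : ∃ y t : Γ, y ∉ h.zed ∧ y ^ 5 ∈ h.zed ∧ t ∉ h.zed ∧ t ^ 2 ∈ h.zed ∧
      t ∉ Subgroup.normalizer (Subgroup.centralizer ({y} : Set Γ) : Set Γ)) :
    Nonempty (Γ ≃* SL25.SL) := by
  have hT : ∀ g, g ∉ h.zed → (ρ g).trace = 0 ∨ (ρ g).trace ^ 2 = 1 ∨
      (ρ g).trace ^ 4 - 3 * (ρ g).trace ^ 2 + 1 = 0 := fun g hg => by
    obtain ⟨a, b, -, c⟩ := h.trace_of_pow_mem hg
    rcases hpow g hg with e | e | e
    exacts [Or.inl (a e), Or.inr (Or.inl (b e)), Or.inr (Or.inr (c e))]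
  obtain ⟨y₀, t, hy₀, hy₀5, ht, ht2, htN₀⟩ := hex
  have htt : (ρ t).trace = 0 := (h.trace_of_pow_mem ht).1 ht2
  have hzmem : t * t ∈ h.zed := by rw [← sq]; exact ht2
  have hz : ρ (t * t) = -1 := by
    refine h.involution (fun e => ht ?_) (h.mem_zed.1 hzmem)
    rw [mem_zed, sq, e]
  -- normalise the trace of the element of order ten
  obtain ⟨y, hy, hy5, htN, hφ⟩ : ∃ y, y ∉ h.zed ∧ y ^ 5 ∈ h.zed ∧
      t ∉ Subgroup.normalizer (Subgroup.centralizer ({y} : Set Γ) : Set Γ) ∧
      (ρ y).trace * (ρ y).trace = (ρ y).trace + 1 := by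
    have e := (h.trace_of_pow_mem hy₀).2.2.2 hy₀5
    rcases mul_eq_zero.1 (show ((ρ y₀).trace * (ρ y₀).trace - (ρ y₀).trace - 1) *
        ((ρ y₀).trace * (ρ y₀).trace + (ρ y₀).trace - 1) = 0 by linear_combination e) with e1 | e1
    · exact ⟨y₀, hy₀, hy₀5, htN₀, by linear_combination e1⟩
    refine ⟨t * t * y₀, fun e2 => hy₀ ((Subgroup.mul_mem_cancel_left _ hzmem).1 e2), ?_, ?_, ?_⟩
    · rw [(show Commute (t * t) y₀ from (h.zed_comm hzmem y₀).symm).mul_pow]
      exact mul_mem (pow_mem hzmem 5) hy₀5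
    · rwa [h.cent_eq hy₀ (mul_mem (h.zed_le_cent y₀ hzmem) (self_mem_cent y₀))
        (fun e2 => hy₀ ((Subgroup.mul_mem_cancel_left _ hzmem).1 e2))]
    · rw [map_mul, hz, neg_one_mul, trace_neg]
      linear_combination e1
  set φ := (ρ y).trace with hφdef
  have htC : t ∉ Subgroup.centralizer ({y} : Set Γ) := fun e => htN (Subgroup.le_normalizer e)
  -- the element `t * y` has nonzero trace
  have htyz : ∀ {w : Γ}, w ∈ Subgroup.centralizer ({y} : Set Γ) → t * w ∉ h.zed := by
    intro w hw e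
    refine htC ?_
    have : t * w ∈ Subgroup.centralizer ({y} : Set Γ) := h.zed_le_cent y e
    exact (Subgroup.mul_mem_cancel_right _ hw).1 this
  have hy3mem : y ^ 3 ∈ Subgroup.centralizer ({y} : Set Γ) := pow_mem (self_mem_cent y) 3
  have hv0 : (ρ (t * y)).trace ≠ 0 := by
    intro e
    have h1 : ρ (t * y) * ρ (t * y) = ρ (t * t) := by
      rw [cayley_two (h.det _), e, zero_smul, zero_sub, hz]
    rw [← map_mul] at h1
    have h2 : t * y * (t * y) = t * t := h.injective h1
    have h2' : y * t * y = t := by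
      refine mul_left_cancel (a := t) ?_
      rw [← h2]; group
    have h3 : t * y * t⁻¹ = y⁻¹ := by
      calc t * y * t⁻¹ = y⁻¹ * (y * t * y) * t⁻¹ := by group
        _ = _ := by rw [h2']; group
    refine htN ((mem_normalizer_cent_iff y t).2 ?_)
    rw [h3]
    exact h.cent_eq hy (Subgroup.inv_mem _ (self_mem_cent y)) (fun e => hy (by simpa using inv_mem e))
  have hy3 : y ^ 3 ∉ h.zed := fun e => hy (by
    have : (y ^ 3) ^ 2 * (y ^ 5)⁻¹ = y := by group
    rw [← this]; exact mul_mem (pow_mem e 2) (inv_mem hy5))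
  have hlin := (h.pow_lin y).2.1
  have hty3 : (ρ (t * y ^ 3)).trace = φ * (ρ (t * y)).trace := by
    rw [map_mul, map_pow, hlin, mul_add, mul_smul_comm, mul_smul_comm, mul_one, ← map_mul,
      trace_add, trace_smul, trace_smul, htt, smul_eq_mul, smul_eq_mul, ← hφdef]
    linear_combination (ρ (t * y)).trace * hφ
  have hy3t : (ρ (y ^ 3)).trace = 1 - φ := by
    rw [map_pow, hlin, trace_add, trace_smul, trace_smul, trace_one, smul_eq_mul, smul_eq_mul,
      ← hφdef]
    simp
    linear_combination (φ + 1) * hφ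
  obtain ⟨y₁, φ₁, hy₁C, hy₁, hφ₁, hy₁t, hv1⟩ : ∃ (y₁ : Γ) (φ₁ : K),
      y₁ ∈ Subgroup.centralizer ({y} : Set Γ) ∧ y₁ ∉ h.zed ∧ φ₁ * φ₁ = φ₁ + 1 ∧
      (ρ y₁).trace = φ₁ ∧ (ρ (t * y₁)).trace ^ 2 = 1 := by
    rcases hT _ (htyz (self_mem_cent y)) with e | e | e
    · exact absurd e hv0
    · exact ⟨y, φ, self_mem_cent y, hy, hφ, rfl, e⟩
    rcases hT _ (htyz hy3mem) with e' | e' | e'
    · rw [hty3] at e'
      rcases mul_eq_zero.1 e' with e' | e'
      · rw [e'] at hφ; exact absurd (by linear_combination -hφ) (one_ne_zero (α := K))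
      · exact absurd e' hv0
    · exact ⟨y ^ 3, 1 - φ, hy3mem, hy3, by linear_combination hφ, hy3t, e'⟩
    exfalso
    rw [hty3] at e'
    set v := (ρ (t * y)).trace
    have h1 : (φ * φ - 1) * (3 * (φ * φ) * (v * v) - (1 + φ * φ)) = 0 := by
      linear_combination e' - φ ^ 4 * e
    have hne : φ * φ - 1 ≠ 0 := fun e2 => by
      have : φ = 0 := by linear_combination e2 - hφ
      rw [this] at hφ
      exact one_ne_zero (α := K) (by linear_combination -hφ)
    have h2 := (mul_eq_zero.1 h1).resolve_left hne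
    have h3 : φ ^ 4 - 7 * (φ * φ) + 1 = 0 := by
      linear_combination 9 * φ ^ 4 * e - (3 * (φ * φ) * (v * v) + (1 + φ * φ) - 9 * (φ * φ)) * h2
    have h4 : (4 : K) * (φ + 1) = 0 := by
      linear_combination -h3 + (φ * φ + φ - 5) * hφ
    rcases mul_eq_zero.1 h4 with e4 | e4
    · have h2' : (2 : K) ≠ 0 := by
        exact_mod_cast h.natCast_ne_zero (n := 2) (by rw [hcard]; norm_num)
      exact h2' (mul_self_eq_zero.1 (show (2 : K) * 2 = 0 by linear_combination e4))
    · exact one_ne_zero (α := K) (by linear_combination hφ - (φ - 2) * e4)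
  have hnc : ∀ {s : Γ}, s ∉ Subgroup.centralizer ({y} : Set Γ) →
      (s * y₁) * y₁⁻¹ ≠ y₁⁻¹ * (s * y₁) := by
    intro s hs e
    refine hs (h.cent_eq hy hy₁C hy₁ ▸ mem_cent.2 ?_)
    have := congrArg (fun q => y₁ * q) e
    simp only [mul_inv_cancel_right, mul_inv_cancel_left] at this
    exact this.symm
  have hinv : (ρ y₁⁻¹).trace = φ₁ := by rw [h.trace_inv, hy₁t]
  rcases mul_eq_zero.1 (show ((ρ (t * y₁)).trace - 1) * ((ρ (t * y₁)).trace + 1) = 0 by
    linear_combination hv1) with e | e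
  · exact h.recognition_of_gens hcard (t * y₁) y₁⁻¹ hφ₁ (sub_eq_zero.1 e) hinv
      (by rw [mul_inv_cancel_right]; exact htt) (hnc htC)
  · refine h.recognition_of_gens hcard (t * t * t * y₁) y₁⁻¹ hφ₁ ?_ hinv ?_
      (hnc fun e2 => htC ((Subgroup.mul_mem_cancel_left _ (h.zed_le_cent y hzmem)).1 e2))
    · rw [show t * t * t * y₁ = t * t * (t * y₁) by group, map_mul, hz, neg_one_mul, trace_neg]
      linear_combination -e
    · rw [mul_inv_cancel_right, map_mul, hz, neg_one_mul, trace_neg, htt, neg_zero]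

/-- Groups generated by two elements of order three. -/
theorem pair (h : Fpf2 ρ) {a b : Γ} (ha : a ^ 3 = 1) (hb : b ^ 3 = 1) (hne : a * b ≠ b * a)
    (hgen : Subgroup.closure {a, b} = ⊤) :
    (ρ (a * b) ^ 2 = -1 ∧ (2 : K) ≠ 0) ∨ (ρ (a * b) ^ 3 = -1 ∧ (2 : K) ≠ 0) ∨
    (ρ (a * b) ^ 5 = -1 ∧ (2 : K) ≠ 0 ∧ (ρ (a * b)).trace * (ρ (a * b)).trace =
      (ρ (a * b)).trace + 1 ∧ Nonempty (Γ ≃* SL25.SL)) := by
  classical
  have := Fintype.ofFinite Γ
  have hZ : ∀ {g : Γ}, g ∈ h.zed → ∀ x, x * g = g * x := fun hg x => h.zed_comm hg x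
  have ha1 : a ≠ 1 := fun e => hne (by simp [e])
  have hb1 : b ≠ 1 := fun e => hne (by simp [e])
  have haZ : a ∉ h.zed := fun e => hne (hZ e b).symm
  have hbZ : b ∉ h.zed := fun e => hne (hZ e a)
  have habZ : a * b ∉ h.zed := fun e => hne (by
    refine mul_left_cancel (a := a) ?_
    rw [hZ e a]; group)
  have hab2Z : a * (b * b) ∉ h.zed := fun e => hne (by
    have e1 := hZ e b
    have hbbb : b * b * b = 1 := by rw [← pow_three']; exact hb
    calc a * b = a * (b * b) * b * b := by rw [mul_assoc a, hbbb, mul_one]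
      _ = b * (a * (b * b)) * b := by rw [e1]
      _ = b * a := by rw [mul_assoc b, mul_assoc a, hbbb, mul_one])
  -- the elements of order three have trace minus one
  have htr3 : ∀ {g : Γ}, g ∉ h.zed → g ^ 3 = 1 → (ρ g).trace = -1 := by
    intro g hg hg3
    have e := (h.trace_of_pow_mem hg).2.1 (by rw [hg3]; exact one_mem _)
    rcases mul_eq_zero.1 (show ((ρ g).trace - 1) * ((ρ g).trace + 1) = 0 by linear_combination e)
      with e1 | e1
    · have e3 := (h.pow_lin g).2.1
      rw [sub_eq_zero.1 e1, ← map_pow, hg3, map_one] at e3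
      have h20 := congrFun (congrFun e3 0) 0
      simp at h20
      rw [sub_eq_zero.1 e1]
      linear_combination h20
    · exact eq_neg_of_add_eq_zero_left e1
  have hsq3 : ∀ {g : Γ}, g ∉ h.zed → g ^ 3 = 1 → ρ g * ρ g = -ρ g - 1 := fun hg hg3 => by
    rw [cayley_two (h.det _), htr3 hg hg3, neg_one_smul]
  have hta := htr3 haZ ha
  have htb := htr3 hbZ hb
  set t := (ρ (a * b)).trace with ht
  have hu : (ρ (a * (b * b))).trace = 1 - t := by
    rw [map_mul, map_mul, hsq3 hbZ hb, mul_sub, mul_neg, mul_one, ← map_mul, trace_sub, trace_neg,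
      hta]
    ring
  have ht2 : t ≠ 2 := (h.tr_ne habZ).1
  have hu2 : 1 - t ≠ 2 := hu ▸ (h.tr_ne hab2Z).1
  obtain ⟨l2, l3, -, l5⟩ := h.pow_lin (a * b)
  have out0 : t = 0 → ρ (a * b) ^ 2 = -1 ∧ (2 : K) ≠ 0 := fun e =>
    ⟨by rw [l2, ← ht, e, zero_smul, zero_add, neg_one_smul], fun e2 => ht2 (e.trans e2.symm)⟩
  have out1 : t = 1 → ρ (a * b) ^ 3 = -1 ∧ (2 : K) ≠ 0 := fun e =>
    ⟨by rw [l3, ← ht, e]; simp, fun e2 => hu2 (by rw [e, e2]; ring)⟩
  rcases h.cases with hab | ⟨A, hA, hAc⟩ | hpow | ⟨hcard, hpow, hex⟩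
  · exact absurd (hab a b) hne
  · have key : ∀ {g : Γ}, g ^ 3 = 1 → g ∈ A := fun {g} hg => by
      by_contra hgA
      have : g ^ 2 ∈ A := Subgroup.sq_mem_of_index_two hA g
      have h1 := mul_mem this (inv_mem (show g ^ 3 ∈ A by rw [hg]; exact one_mem _))
      exact hgA (by simpa using inv_mem (show g⁻¹ ∈ A by
        rwa [show g ^ 2 * (g ^ 3)⁻¹ = g⁻¹ by group] at h1))
    exact absurd (hAc a (key ha) b (key hb)) hne
  · have hT : ∀ g, g ∉ h.zed → (ρ g).trace = 0 ∨ (ρ g).trace ^ 2 = 1 ∨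
        (ρ g).trace ^ 2 = 2 := fun g hg => by
      obtain ⟨x, y, w, -⟩ := h.trace_of_pow_mem hg
      rcases hpow g hg with e | e | e
      · exact Or.inl (x e)
      · exact Or.inr (Or.inl (y e))
      · exact (w e).imp_right Or.inr
    rcases hT _ habZ with e | e | e
    · exact Or.inl (out0 e)
    · rcases mul_eq_zero.1 (show (t - 1) * (t + 1) = 0 by linear_combination e) with e1 | e1
      · exact Or.inr (Or.inl (out1 (sub_eq_zero.1 e1)))
      · exact absurd (by linear_combination -e1) hu2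
    rcases hT _ hab2Z with e' | e' | e' <;> rw [hu] at e'
    · exact Or.inr (Or.inl (out1 (sub_eq_zero.1 e').symm))
    · rcases mul_eq_zero.1 (show (2 : K) * (t - 1) = 0 by linear_combination e - e') with e1 | e1
      · exact Or.inl (out0 (pow_eq_zero_iff (n := 2) two_ne_zero |>.1 (by rw [e, e1])))
      · exact Or.inr (Or.inl (out1 (sub_eq_zero.1 e1)))
    have hhalf : 2 * t = 1 := by linear_combination e - e'
    have hq : (ρ (a * b * ((a * a) * (b * b)))).trace = t ^ 2 - t := by
      have eaa : (ρ (a * a * b)).trace = 1 - t := by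
        rw [map_mul, map_mul, hsq3 haZ ha, sub_mul, neg_mul, one_mul, ← map_mul, trace_sub,
          trace_neg, htb]
        ring
      have e4 : ρ (a * b * ((a * a) * (b * b))) =
          ρ (a * b) + ρ (a * b * a) + ρ (a * (b * b)) + ρ (a * b * (a * b)) := by
        have eA : ρ (a * a) = -ρ a - 1 := by rw [map_mul]; exact hsq3 haZ ha
        have eB : ρ (b * b) = -ρ b - 1 := by rw [map_mul]; exact hsq3 hbZ hb
        rw [map_mul ρ (a * b) (a * a * (b * b)), map_mul ρ (a * a) (b * b), eA, eB]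
        simp only [map_mul]
        noncomm_ring
      rw [e4, trace_add, trace_add, trace_add, h.trace_sq, hu, ← ht,
        show (ρ (a * b * a)).trace = (ρ (a * a * b)).trace by
          rw [map_mul, Matrix.trace_mul_comm, ← map_mul, ← mul_assoc], eaa]
      ring
    by_cases hcZ : a * b * ((a * a) * (b * b)) ∈ h.zed
    · by_cases hc1 : a * b * ((a * a) * (b * b)) = 1
      · refine absurd ?_ hne
        have haaa : a * a * a = 1 := by rw [← pow_three']; exact ha
        have hbbb : b * b * b = 1 := by rw [← pow_three']; exact hb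
        calc a * b = a * b * ((a * a) * (b * b)) * b * a := by
              rw [mul_assoc (a * b), mul_assoc (a * a), hbbb, mul_one,
                mul_assoc (a * b), haaa, mul_one]
          _ = b * a := by rw [hc1, one_mul]
      · have e5 := h.involution hc1 (h.mem_zed.1 hcZ)
        have e6 : ρ (a * b) = -ρ (b * a) := by
          have haaa : a * a * a = 1 := by rw [← pow_three']; exact ha
          have hbbb : b * b * b = 1 := by rw [← pow_three']; exact hb
          calc ρ (a * b) = ρ (a * b * ((a * a) * (b * b)) * (b * a)) := by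
                congr 1
                rw [mul_assoc (a * b), mul_assoc (a * a), ← mul_assoc (b * b) b a, hbbb, one_mul,
                  haaa, mul_one]
            _ = -ρ (b * a) := by rw [map_mul, e5, neg_one_mul]
        have e7 := congrArg Matrix.trace e6
        rw [trace_neg, map_mul ρ b a, Matrix.trace_mul_comm, ← map_mul, ← ht] at e7
        have : (1 : K) = 0 := by linear_combination e7 - hhalf
        exact absurd this one_ne_zero
    have h3 : (3 : K) ≠ 0 := by
      exact_mod_cast h.natCast_ne_zero (n := 3) (by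
        rw [← orderOf_eq_prime ha ha1]; exact orderOf_dvd_natCard a)
    exfalso
    rcases hT _ hcZ with e5 | e5 | e5 <;> rw [hq] at e5
    · exact ht2 (by linear_combination e - e5)
    · exact h3 (by linear_combination e5 - (t ^ 2 - 2 * t + 3) * e + 2 * hhalf)
    · have : (2 : K) = 0 := by linear_combination e5 - (t ^ 2 - 2 * t + 3) * e + 2 * hhalf
      rw [this, zero_mul] at hhalf
      exact zero_ne_one hhalf
  · have h2 : (2 : K) ≠ 0 := by
      exact_mod_cast h.natCast_ne_zero (n := 2) (by rw [hcard]; norm_num)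
    have hiso := h.recognition hcard hpow hex
    have hT : ∀ g, g ∉ h.zed → (ρ g).trace = 0 ∨ (ρ g).trace ^ 2 = 1 ∨
        (ρ g).trace ^ 4 - 3 * (ρ g).trace ^ 2 + 1 = 0 := fun g hg => by
      obtain ⟨x, y, -, w⟩ := h.trace_of_pow_mem hg
      rcases hpow g hg with e | e | e
      exacts [Or.inl (x e), Or.inr (Or.inl (y e)), Or.inr (Or.inr (w e))]
    rcases hT _ habZ with e | e | e
    · exact Or.inl (out0 e)
    · rcases mul_eq_zero.1 (show (t - 1) * (t + 1) = 0 by linear_combination e) with e1 | e1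
      · exact Or.inr (Or.inl (out1 (sub_eq_zero.1 e1)))
      · exact absurd (by linear_combination -e1) hu2
    rcases mul_eq_zero.1 (show (t * t - t - 1) * (t * t + t - 1) = 0 by linear_combination e)
      with e1 | e1
    · refine Or.inr (Or.inr ⟨?_, h2, by linear_combination e1, hiso⟩)
      rw [l5, ← ht, e, zero_smul, zero_add, neg_smul, show t ^ 3 - 2 * t = 1 by
        linear_combination (t + 1) * e1, one_smul]
    exfalso
    have h5 : (5 : K) ≠ 0 := by
      exact_mod_cast h.natCast_ne_zero (n := 5) (by rw [hcard]; norm_num)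
    rcases hT _ hab2Z with e' | e' | e' <;> rw [hu] at e'
    · exact one_ne_zero (α := K) (by linear_combination e1 + (t + 2) * e')
    · exact h5 (by linear_combination -(3 * t + 4) * (e' - e1) - 9 * e1)
    · rcases mul_eq_zero.1 (show ((-2) * t) * (2 - 4 * t) = 0 by
          linear_combination e' - (t * t - 5 * t + 1) * e1) with e2 | e2
      · have : t = 0 := by simpa [h2] using e2
        exact one_ne_zero (α := K) (by linear_combination -e1 + (t + 1) * this)
      · have h20 : (2 : K) * (2 * t - 1) = 0 := by linear_combination -e2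
        have h21 := (mul_eq_zero.1 h20).resolve_left h2
        exact one_ne_zero (α := K) (by linear_combination -4 * e1 + (2 * t + 3) * h21)

end Cfsg.Agent.Perm.Fpf.Fpf2
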